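import Cfsg.Agent.Mrg.Omega.NO1.Types
import Cfsg.Agent.Mrg.Omega.Transv.Basic
import Cfsg.Agent.Mrg.Omega.NO1.NatFiveC
import Cfsg.Agent.Mrg.Omega.Assembly
import Cfsg.Agent.Lib.SylowNormalInf
import Cfsg.Agent.ZN.Facts
import Cfsg.Agent.TwoFusion.SectionalRank
import Cfsg.Agent.Involutions.NormalFour
import Cfsg.Agent.Mrg.Omega.NOne.LemmaT

section


/-!
# THEOREM NAT (#13408) (4): the space `W₀/W_c` for the output of (0)-(3)

`Quad.dat` : `W = W₀ = ⟨V₁^C⟩`, `Wc = C_{W₀}(J)`, `J = ⟨V^C⟩`; `Quad.inp` : the hypotheses of the wrapper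
`NatQuot.Inp`, so `(Quad.inp q).cfg` is the configuration of Mini-McLaughlin.
-/

set_option autoImplicit false
set_option linter.unusedSectionVars false

namespace Cfsg.Agent.Omega.NO1.NatA

open Subgroup Cfsg Cfsg.Agent.ZN Cfsg.Agent.Omega.MinPar Cfsg.Agent.Omega.Frame
open Cfsg.Agent.Omega.NO1.NatQuot

universe u

variable {G : Type u} [Group G]

theorem le_ncl (C A : Subgroup G) : A ≤ ncl C A := fun a ha =>
  subset_closure ⟨1, C.one_mem, a, ha, by group⟩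

theorem ncl_le {C A B : Subgroup G} (h : ∀ c ∈ C, ∀ a ∈ A, c * a * c⁻¹ ∈ B) : ncl C A ≤ B := by
  rw [ncl, closure_le]
  rintro _ ⟨c, hc, a, ha, rfl⟩
  exact h c hc a ha

theorem conj_mem_ncl {C A : Subgroup G} {c x : G} (hc : c ∈ C) (hx : x ∈ ncl C A) :
    c * x * c⁻¹ ∈ ncl C A := by
  refine closure_induction (p := fun x _ => c * x * c⁻¹ ∈ ncl C A) ?_ ?_ ?_ ?_ hx
  · rintro _ ⟨d, hd, a, ha, rfl⟩
    exact subset_closure ⟨c * d, mul_mem hc hd, a, ha, by group⟩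
  · rw [mul_one, mul_inv_cancel]; exact one_mem _
  · intro x y _ _ hx hy
    have e : c * (x * y) * c⁻¹ = c * x * c⁻¹ * (c * y * c⁻¹) := by group
    rw [e]
    exact mul_mem hx hy
  · intro x _ hx
    have e : c * x⁻¹ * c⁻¹ = (c * x * c⁻¹)⁻¹ := by group
    rw [e]
    exact inv_mem hx

theorem conj_nm {A : Subgroup G} {g x : G} (hg : g ∈ normalizer (A : Set G)) (hx : x ∈ A) :
    g * x * g⁻¹ ∈ A := (mem_normalizer_iff.1 hg x).1 hx

variable [Finite G] {S : Sylow 2 G} {P : Subgroup G} {z : G} {V V₁ C Q : Subgroup G}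

namespace Quad

variable (q : Quad S P z V V₁ C Q)
include q

theorem V_le_C : V ≤ C := by
  rw [q.V_eq, q.CC_eq]; exact q.cfg.V_le_CC

theorem V1_le_V : V₁ ≤ V := by rw [q.V1_eq]; exact inf_le_left

theorem V1_le_Q : V₁ ≤ Q := by rw [q.V1_eq]; exact inf_le_right

theorem Q_le_S : Q ≤ (S : Subgroup G) := by
  rw [q.Q_eq, q.CC_eq]; exact q.cfg.Q_le_S

theorem Q_norm_V : Q ≤ normalizer (V : Set G) := by
  rw [q.Q_eq, q.CC_eq, q.V_eq]; exact q.cfg.Q_norm_V

theorem C_norm_Q : C ≤ normalizer (Q : Set G) := by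
  rw [q.Q_eq]; exact le_normalizer_o2 _

theorem V_comm {v w : G} (hv : v ∈ V) (hw : w ∈ V) : v * w = w * v := by
  rw [q.V_eq] at hv hw
  exact mem_centralizer_iff.1 (q.cfg.V_comm hw) v hv

theorem V_sq {v : G} (hv : v ∈ V) : v * v = 1 := by
  rw [q.V_eq] at hv
  have := q.cfg.V_sq v hv
  rwa [pow_two] at this

theorem W_le_Q : ncl C V₁ ≤ Q := q.W_le.trans inf_le_left

theorem W_comm {a b : G} (ha : a ∈ ncl C V₁) (hb : b ∈ ncl C V₁) : a * b = b * a :=
  mem_centralizer_iff.1 (q.W_le hb).2 a (q.W_le ha).1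

theorem J_le_C : ncl C V ≤ C := ncl_le fun _ hc _ ha =>
  mul_mem (mul_mem hc (q.V_le_C ha)) (inv_mem hc)

theorem Q_le_C : Q ≤ C := by rw [q.Q_eq]; exact o2_le _

/-- the data of the quotient space -/
def dat : Dat G where
  C := C
  W := ncl C V₁
  Wc := ncl C V₁ ⊓ centralizer (ncl C V : Set G)
  comm _ ha _ hb := q.W_comm ha hb
  sq a ha := q.W_sq a ha
  normW _ hc _ hw := conj_mem_ncl hc hw
  normWc := by
    rintro c hc w ⟨hw, hw'⟩
    refine mem_inf.2 ⟨conj_mem_ncl hc hw, ?_⟩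
    rw [mem_centralizer_iff]
    intro j hj
    have h1 : c⁻¹ * j * c ∈ ncl C V := by
      have := conj_mem_ncl (inv_mem hc) hj
      rwa [inv_inv] at this
    have h2 := mem_centralizer_iff.1 hw' _ h1
    have h3 : c * (c⁻¹ * j * c * w) * c⁻¹ = c * (w * (c⁻¹ * j * c)) * c⁻¹ := by rw [h2]
    have e1 : c * (c⁻¹ * j * c * w) * c⁻¹ = j * (c * w * c⁻¹) := by group
    have e2 : c * (w * (c⁻¹ * j * c)) * c⁻¹ = c * w * c⁻¹ * j := by group
    rwa [e1, e2] at h3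

/-- `[v, w] ∈ V₁` -/
theorem com {w v : G} (hw : w ∈ ncl C V₁) (hv : v ∈ V) : v * w * v⁻¹ * w⁻¹ ∈ V₁ := by
  have hwQ := q.W_le_Q hw
  rw [q.V1_eq, mem_inf]
  constructor
  · have h1 : w * v⁻¹ * w⁻¹ ∈ V := conj_nm (q.Q_norm_V hwQ) (inv_mem hv)
    have h2 : v * (w * v⁻¹ * w⁻¹) ∈ V := mul_mem hv h1
    have e : v * w * v⁻¹ * w⁻¹ = v * (w * v⁻¹ * w⁻¹) := by group
    rw [e]
    exact h2
  · have h1 : v * w * v⁻¹ ∈ Q := conj_nm (q.C_norm_Q (q.V_le_C hv)) hwQ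
    exact mul_mem h1 (inv_mem hwQ)

theorem exists_out : ∃ v ∈ V, v ∉ V₁ := by
  by_contra hcon
  push Not at hcon
  have h1 : Nat.card V ≤ Nat.card V₁ := Nat.card_le_card_of_injective (Subgroup.inclusion hcon)
    (Subgroup.inclusion_injective hcon)
  rw [q.card_V, q.card_V1] at h1
  omega

theorem z_mem_Wc : z ∈ q.dat.Wc := by
  refine mem_inf.2 ⟨le_ncl C V₁ q.z_mem, ?_⟩
  rw [mem_centralizer_iff]
  intro j hj
  have h1 := q.J_le_C hj
  rw [q.C_eq] at h1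
  exact (mem_centralizer_iff.1 h1 z rfl).symm

theorem exists_e : ∃ e ∈ V₁, e ∉ q.dat.Wc := by
  by_contra hcon
  push Not at hcon
  have h1 : ncl C V₁ ≤ q.dat.Wc := ncl_le fun c hc a ha => q.dat.normWc c hc a (hcon a ha)
  obtain ⟨v, hv, hv'⟩ := q.exists_out
  obtain ⟨w, hw, h2⟩ := q.full v hv hv' z q.z_mem
  have h3 := mem_centralizer_iff.1 (h1 hw).2 v (le_ncl C V hv)
  apply q.z_ne
  rw [← h2, h3]
  group

/-- `|V₁ ∩ Wc| = 2` -/
theorem card_inf : Nat.card (q.dat.Wc.subgroupOf V₁) = 2 := by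
  have h1 : Nat.card (q.dat.Wc.subgroupOf V₁) ∣ 4 := by
    rw [← q.card_V1]; exact card_subgroup_dvd_card _
  have h2 : Nat.card (q.dat.Wc.subgroupOf V₁) ≠ 4 := by
    intro h
    rw [← q.card_V1] at h
    have h3 := eq_top_of_card_eq _ h
    obtain ⟨e, he, he'⟩ := q.exists_e
    have h4 : (⟨e, he⟩ : V₁) ∈ q.dat.Wc.subgroupOf V₁ := by rw [h3]; trivial
    exact he' h4
  have h3 : Nat.card (q.dat.Wc.subgroupOf V₁) ≠ 1 := by
    intro h
    have h4 := card_eq_one.1 h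
    have h5 : (⟨z, q.z_mem⟩ : V₁) ∈ q.dat.Wc.subgroupOf V₁ := q.z_mem_Wc
    rw [h4, mem_bot] at h5
    exact q.z_ne (congrArg Subtype.val h5)
  have h4 : Nat.card (q.dat.Wc.subgroupOf V₁) ≤ 4 := Nat.le_of_dvd (by norm_num) h1
  interval_cases h : Nat.card (q.dat.Wc.subgroupOf V₁)
  · omega
  · omega
  · rfl
  · omega
  · omega

theorem index_inf : (q.dat.Wc.subgroupOf V₁).index = 2 := by
  have h1 := card_mul_index (q.dat.Wc.subgroupOf V₁)
  rw [q.card_inf, q.card_V1] at h1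
  omega

/-- `V₁ ∩ Wc = ⟨z⟩` -/
theorem inf_Wc {e : G} (he : e ∈ V₁) (he' : e ∈ q.dat.Wc) : e = 1 ∨ e = z := by
  have h1 := q.card_inf
  have h2 : (1 : q.dat.Wc.subgroupOf V₁) ≠ ⟨⟨z, q.z_mem⟩, q.z_mem_Wc⟩ := fun h =>
    q.z_ne (congrArg (fun x : q.dat.Wc.subgroupOf V₁ => ((x : V₁) : G)) h).symm
  rw [Nat.card_eq_two_iff] at h1
  obtain ⟨x, y, hxy, h3⟩ := h1
  have key : ∀ t : q.dat.Wc.subgroupOf V₁, t = x ∨ t = y := fun t => by
    have : t ∈ ({x, y} : Set _) := h3 ▸ Set.mem_univ t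
    simpa using this
  have h4 := key 1
  have h5 := key ⟨⟨z, q.z_mem⟩, q.z_mem_Wc⟩
  have h6 := key ⟨⟨e, he⟩, he'⟩
  have h7 : (⟨⟨e, he⟩, he'⟩ : q.dat.Wc.subgroupOf V₁) = 1 ∨
      (⟨⟨e, he⟩, he'⟩ : q.dat.Wc.subgroupOf V₁) = ⟨⟨z, q.z_mem⟩, q.z_mem_Wc⟩ := by
    rcases h4 with h4 | h4 <;> rcases h5 with h5 | h5 <;> rcases h6 with h6 | h6
    · exact absurd (h4.trans h5.symm) h2
    · exact absurd (h4.trans h5.symm) h2
    · exact Or.inl (h6.trans h4.symm)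
    · exact Or.inr (h6.trans h5.symm)
    · exact Or.inr (h6.trans h5.symm)
    · exact Or.inl (h6.trans h4.symm)
    · exact absurd (h4.trans h5.symm) h2
    · exact absurd (h4.trans h5.symm) h2
  rcases h7 with h7 | h7
  · exact Or.inl (congrArg (fun x : q.dat.Wc.subgroupOf V₁ => ((x : V₁) : G)) h7)
  · exact Or.inr (congrArg (fun x : q.dat.Wc.subgroupOf V₁ => ((x : V₁) : G)) h7)

theorem four : ∃ v ∈ V, ∃ v' ∈ V, v ∉ V₁ ∧ v' ∉ V₁ ∧ v⁻¹ * v' ∉ V₁ := by
  classical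
  obtain ⟨v, hv, hv'⟩ := q.exists_out
  by_contra hcon
  push Not at hcon
  have h1 : ∀ w : V, ∃ x : V₁ × Bool, (w : G) = (if x.2 then v else 1) * x.1 := by
    intro w
    by_cases h : (w : G) ∈ V₁
    · exact ⟨(⟨w, h⟩, false), by simp⟩
    · exact ⟨(⟨v⁻¹ * w, hcon v hv w w.2 hv' h⟩, true), by simp⟩
  choose f hf using h1
  have h2 : Function.Injective f := fun a b h => Subtype.ext (by rw [hf a, hf b, h])
  have h3 := Nat.card_le_card_of_injective f h2
  rw [q.card_V, Nat.card_prod, q.card_V1, Nat.card_eq_fintype_card, Fintype.card_bool] at h3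
  omega

/-- **The hypotheses of the wrapper.** -/
theorem inp : Inp q.dat (ncl C V) V V₁ where
  VC := q.V_le_C
  VJ := le_ncl C V
  normJ _ hc _ hj := conj_mem_ncl hc hj
  V1W := le_ncl C V₁
  gen _ hw := hw
  com _ hw _ hv := q.com hw hv
  onto v hv hv' := by
    obtain ⟨e, he, he'⟩ := q.exists_e
    obtain ⟨w, hw, h⟩ := q.full v hv hv' e he
    exact ⟨w, hw, by rwa [h]⟩
  four := q.four
  ex := q.exists_e
  two a ha b hb ha' hb' := by
    have h := mul_mem_iff_of_index_two q.index_inf (a := ⟨a, ha⟩) (b := ⟨b, hb⟩)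
    have h1 : (⟨a, ha⟩ : V₁) ∉ q.dat.Wc.subgroupOf V₁ := ha'
    have h2 : (⟨b, hb⟩ : V₁) ∉ q.dat.Wc.subgroupOf V₁ := hb'
    have h3 := h.2 (by simp [h1, h2])
    exact h3
  small w hw hall := by
    by_contra hcon
    have h1 : w ∉ centralizer (V : Set G) := fun h => hcon fun v hv =>
      mem_centralizer_iff.1 h v hv
    obtain ⟨e, he, he'⟩ := q.exists_e
    have hwQ := q.W_le_Q hw
    obtain ⟨v, hv, h2⟩ := q.surj w (q.Q_le_S hwQ) (q.Q_le hwQ) h1 e he
    exact he' (h2 ▸ hall v hv)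
  big w hw hall := by
    refine mem_inf.2 ⟨hw, ?_⟩
    rw [ncl, centralizer_closure, mem_centralizer_iff]
    rintro _ ⟨c, hc, v, hv, rfl⟩
    exact hall c hc v hv

end Quad

end Cfsg.Agent.Omega.NO1.NatA

end

section


/-!
# THEOREM NAT (#13408), step (5): from the output `Quad` of (0)-(3) to the input `SixIn` of (6)
-/

set_option autoImplicit false
set_option linter.unusedSectionVars false

namespace Cfsg.Agent.Omega.NO1.NatA.Quad

open Subgroup Cfsg Cfsg.Agent.ZN Cfsg.Agent.Omega.MinPar Cfsg.Agent.Omega.Frame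
open Cfsg.Agent.Omega.NO1.NatQuot Cfsg.Agent.Omega.NO1.NatFive Cfsg.Agent.Omega.Transv

universe u

variable {G : Type u} [Group G] [Finite G] {S : Sylow 2 G} {P : Subgroup G} {z : G} {V V₁ C Q : Subgroup G}
variable (q : Quad S P z V V₁ C Q)
include q

theorem V1_iff {e : G} (he : e ∈ V₁) (he' : e ∉ q.dat.Wc) (x : G) :
    x ∈ V₁ ↔ x = 1 ∨ x = z ∨ x = e ∨ x = e * z := by
  constructor
  · intro hx
    by_cases h : x ∈ q.dat.Wc
    · rcases q.inf_Wc hx h with h1 | h1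
      · exact Or.inl h1
      · exact Or.inr (Or.inl h1)
    · have h1 := q.inp.two e he x hx he' h
      have hee := q.V_sq (q.V1_le_V he)
      rcases q.inf_Wc (mul_mem he hx) h1 with h2 | h2
      · right; right; left
        have h3 : x = e * (e * x) := by rw [← mul_assoc, hee, one_mul]
        rw [h3, h2, mul_one]
      · right; right; right
        have h3 : x = e * (e * x) := by rw [← mul_assoc, hee, one_mul]
        rw [h3, h2]
  · rintro (h | h | h | h)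
    · rw [h]; exact one_mem _
    · rw [h]; exact q.z_mem
    · rw [h]; exact he
    · rw [h]; exact mul_mem he q.z_mem

theorem z_comm {c : G} (hc : c ∈ C) : c * z = z * c := by
  rw [q.C_eq] at hc
  exact (mem_centralizer_iff.1 hc z rfl).symm

/-- the configuration of (5) -/
theorem fv {e : G} (he : e ∈ V₁) (he' : e ∉ q.dat.Wc) :
    Fv q.dat.C (ncl C V) V V₁ q.dat.W q.dat.Wc z e q.dat.p where
  JC := q.J_le_C
  Jn _ hc _ hx := conj_mem_ncl hc hx
  VJ := le_ncl C V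
  Jgen _ h := ncl_le h
  V1V := q.V1_le_V
  V1W := le_ncl C V₁
  V1_iff := q.V1_iff he he'
  Wn _ hc _ hw := conj_mem_ncl hc hw
  Wcomm _ ha _ hb := q.W_comm ha hb
  Wsq := q.W_sq
  Wgen _ h := ncl_le h
  WcW := inf_le_left
  WcJ _ hw x hx := mem_centralizer_iff.1 hw.2 x hx
  zWc := q.z_mem_Wc
  zC _ hc := q.z_comm hc
  comm_mem _ hv _ hw := q.com hw hv
  comm_surj := q.full
  four := by
    obtain ⟨v, hv, v', hv', h1, h2, h3⟩ := q.four
    refine ⟨v, hv, v', hv', h1, h2, ?_⟩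
    rwa [inv_eq_of_mul_eq_one_left (q.V_sq hv)] at h3
  cl_mul _ ha _ hb := q.dat.p_mul ha hb
  cl_ker _ ha := q.dat.p_ker ha
  cl_smul c _ ha := q.dat.p_act c ha
  exists_cl := q.dat.p_surj
  act v hv := by
    obtain ⟨φ, -, h⟩ := q.inp.exists_phi he he' (v := v) hv
    exact ⟨φ, h⟩
  cfg := q.inp.cfg he he'

theorem S_le_C : (S : Subgroup G) ≤ C := by
  rw [q.CC_eq]; exact Cfg.S_le_CC S

theorem S_norm_V {s v : G} (hs : s ∈ (S : Subgroup G)) (hv : v ∈ V) : s * v * s⁻¹ ∈ V := by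
  have h1 := Cfg.P_norm_V S P (q.cfg.S_le hs)
  rw [q.V_eq] at hv ⊢
  exact conj_nm h1 hv

theorem not_dvd : ¬ 2 ∣ ((S : Subgroup G) ⊓ (centralizer (V₁ : Set G) ⊓ ncl C V)).relIndex
    (centralizer (V₁ : Set G) ⊓ ncl C V) := by
  have hf : Fact (Nat.Prime 2) := ⟨Nat.prime_two⟩
  set N := centralizer (V₁ : Set G) ⊓ ncl C V with hN
  have hSN : (S : Subgroup G) ≤ normalizer (N : Set G) := by
    have key : ∀ s ∈ (S : Subgroup G), ∀ n ∈ N, s * n * s⁻¹ ∈ N := by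
      intro s hs n hn
      refine mem_inf.2 ⟨?_, conj_mem_ncl (q.S_le_C hs) hn.2⟩
      rw [mem_centralizer_iff]
      intro y hy
      have h1 : s⁻¹ * y * s ∈ V₁ := by
        have := conj_nm (q.S_le (inv_mem hs)) hy
        rwa [inv_inv] at this
      have h2 := mem_centralizer_iff.1 hn.1 _ h1
      have h3 : s * (s⁻¹ * y * s * n) * s⁻¹ = s * (n * (s⁻¹ * y * s)) * s⁻¹ := by rw [h2]
      have e1 : s * (s⁻¹ * y * s * n) * s⁻¹ = y * (s * n * s⁻¹) := by group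
      have e2 : s * (n * (s⁻¹ * y * s)) * s⁻¹ = s * n * s⁻¹ * y := by group
      rwa [e1, e2] at h3
    intro s hs
    rw [mem_normalizer_iff]
    intro n
    refine ⟨key s hs n, fun h => ?_⟩
    have h1 := key s⁻¹ (inv_mem hs) _ h
    have e : s⁻¹ * (s * n * s⁻¹) * s⁻¹⁻¹ = n := by group
    rwa [e] at h1
  have hnor : (N.subgroupOf (normalizer (N : Set G))).Normal := inferInstance
  have h1 := Lib.SylowNormalInf.not_dvd_relIndex (S.subtype hSN) (N.subgroupOf (normalizer (N : Set G)))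
  rw [Sylow.coe_subtype, relIndex_subgroupOf le_normalizer] at h1
  rwa [inf_relIndex_right]

/-- the action of `S` -/
theorem sy {e : G} (he : e ∈ V₁) (he' : e ∉ q.dat.Wc) :
    Sy (S : Subgroup G) q.dat.C (ncl C V) V V₁ q.dat.W z e where
  SC := q.S_le_C
  SV _ hs _ hv := q.S_norm_V hs hv
  SV1 _ hs _ hv := conj_nm (q.S_le hs) hv
  SHV s hs hse v hv := by
    have h1 : s ∈ centralizer (V₁ : Set G) :=
      ((q.fv he he').mem_cent (x := ⟨s, q.S_le_C hs⟩)).2 hse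
    have h2 := q.comm s hs h1 v hv
    have h3 : s * v * s⁻¹ * v⁻¹ = (v * s * v⁻¹ * s⁻¹)⁻¹ := by group
    rw [h3]
    exact inv_mem h2
  two := S.isPGroup'
  Sz w hw hw1 hws := by
    have h1 : w ∈ zc (S : Subgroup G) :=
      ZN.mem_zc.2 ⟨q.Q_le_S (q.W_le_Q hw), hws, by rw [pow_two]; exact q.W_sq w hw⟩
    rw [q.Z_eq] at h1
    obtain ⟨n, rfl⟩ := mem_zpowers_iff.1 h1
    have h2 : z ^ (2 : ℤ) = 1 := by rw [zpow_two]; exact q.z_sq
    rcases Int.even_or_odd' n with ⟨k, rfl | rfl⟩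
    · rw [zpow_mul, h2, one_zpow] at hw1
      exact absurd rfl hw1
    · rw [zpow_add, zpow_mul, h2, one_zpow, one_mul, zpow_one]
  odd := q.not_dvd

/-- `κ = 0` -/
theorem kz {e : G} (he : e ∈ V₁) (he' : e ∉ q.dat.Wc) : (q.fv he he').Kz := by
  by_contra hcon
  unfold Fv.Kz at hcon
  push Not at hcon
  obtain ⟨c, hc, m, hm, h1⟩ := hcon
  have hz := (q.fv he he').z_mem_WP (q.sy he he') ⟨c, hc, m, hm, h1⟩
  refine (q.fv he he').parity (q.sy he he') fun r hr hr0 _ ψ hψ hψp => ?_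
  obtain ⟨-, x, hx, hxr⟩ := (q.fv he he').mem_Phi hψ
  exact (q.fv he he').lift_A hz hx hr hψ hψp hxr

/-- **step (5)** -/
theorem six : ∃ (M : Subgroup G) (ε : G → Fin 3 → ZMod 2), Nat.SixIn.SixIn S z V V₁ M ε := by
  classical
  obtain ⟨e, he, he'⟩ := q.exists_e
  have F := q.fv he he'
  have Y := q.sy he he'
  have hB := q.kz he he'
  have hfr := F.finrank_eq hB Y
  have hfin : Module.Finite (ZMod 2) F.W1 := Module.Finite.of_finite
  obtain ⟨b⟩ : Nonempty (F.W1 ≃ₗ[ZMod 2] (Fin 3 → ZMod 2)) := by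
    refine ⟨LinearEquiv.ofFinrankEq _ _ ?_⟩
    rw [hfr, Module.finrank_fin_fun]
  let M : Subgroup G := Fv.M1 (ncl C V) V₁
  let ε : G → Fin 3 → ZMod 2 := fun g => if h : q.dat.p g ∈ F.W1 then b ⟨q.dat.p g, h⟩ else 0
  have hε : ∀ g (h : q.dat.p g ∈ F.W1), ε g = b ⟨q.dat.p g, h⟩ := fun g h => dif_pos h
  have hMC : ∀ c ∈ C, (∀ u ∈ V₁, c * u * c⁻¹ ∈ V₁) → ∀ m ∈ M, c * m * c⁻¹ ∈ M := fun c hc h m hm =>
    Fv.M1_conj (fun x hx => conj_mem_ncl hc hx) h hm
  have hnorm : ∀ A : Subgroup G, (∀ c ∈ A, ∀ m ∈ M, c * m * c⁻¹ ∈ M) → A ≤ normalizer (M : Set G) := by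
    intro A hA s hs
    rw [mem_normalizer_iff]
    intro n
    refine ⟨hA s hs n, fun h => ?_⟩
    have h1 := hA s⁻¹ (inv_mem hs) _ h
    have e : s⁻¹ * (s * n * s⁻¹) * s⁻¹⁻¹ = n := by group
    rwa [e] at h1
  have hSV : (S : Subgroup G) ≤ normalizer (V : Set G) := by
    rw [q.V_eq]
    exact q.cfg.S_le.trans (Cfg.P_norm_V S P)
  have hcent : centralizer (V₁ : Set G) ≤ C := by
    rw [q.C_eq]
    exact centralizer_le (Set.singleton_subset_iff.2 q.z_mem)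
  have hchar : IsCharacteristicTwoType G := q.cfg.ctx.char2
  have hJM : ∀ x ∈ ncl C V, ∀ m ∈ M, x * m * x⁻¹ ∈ M := fun x hx m hm => Fv.M1_conj_J hx hm
  refine ⟨M, ε, ?_⟩
  exact {
    char2 := hchar
    zc_eq := q.Z_eq
    z_ne := q.z_ne
    z_sq := q.z_sq
    V_comm := fun x hx y hy => q.V_comm hx hy
    V_sq := fun x hx => q.V_sq hx
    V_card := q.card_V
    V₁_le := q.V1_le_V
    V₁_card := q.card_V1
    z_mem := q.z_mem
    S_V := hSV
    S_V₁ := q.S_le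
    tor := by
      obtain ⟨t, htP, -, htV1, -, ht, -⟩ := q.tor
      refine ⟨t, ?_, htV1, fun h => ?_⟩
      · rw [q.V_eq]; exact Cfg.P_norm_V S P htP
      · exact q.z_ne (ht z q.z_mem (mul_inv_eq_iff_eq_mul.1 h))
    V_le := q.V_le_R
    quad := by
      intro v hv r hr
      have hrS : r ∈ (S : Subgroup G) := by
        have hf : Fact (Nat.Prime 2) := ⟨Nat.prime_two⟩
        have hnc : (S : Subgroup G) ≤ normalizer (centralizer (V₁ : Set G) : Set G) := by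
          refine q.S_le.trans ?_
          intro s hs
          have key : ∀ s ∈ normalizer (V₁ : Set G), ∀ n ∈ centralizer (V₁ : Set G),
              s * n * s⁻¹ ∈ centralizer (V₁ : Set G) := by
            intro s hs n hn
            rw [mem_centralizer_iff]
            intro y hy
            have h1 : s⁻¹ * y * s ∈ V₁ := by
              have := conj_nm (inv_mem hs) hy
              rwa [inv_inv] at this
            have h2 := mem_centralizer_iff.1 hn _ h1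
            have h3 : s * (s⁻¹ * y * s * n) * s⁻¹ = s * (n * (s⁻¹ * y * s)) * s⁻¹ := by rw [h2]
            have e1 : s * (s⁻¹ * y * s * n) * s⁻¹ = y * (s * n * s⁻¹) := by group
            have e2 : s * (n * (s⁻¹ * y * s)) * s⁻¹ = s * n * s⁻¹ * y := by group
            rwa [e1, e2] at h3
          rw [mem_normalizer_iff]
          intro n
          refine ⟨key s hs n, fun h => ?_⟩
          have h1 := key s⁻¹ (inv_mem hs) _ h
          have e : s⁻¹ * (s * n * s⁻¹) * s⁻¹⁻¹ = n := by group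
          rwa [e] at h1
        have hno := hnc.trans (ZN.normalizer_le_normalizer_o2 _)
        have h1 : IsPGroup 2 ((S : Subgroup G) ⊔ o2 (centralizer (V₁ : Set G)) : Subgroup G) :=
          IsPGroup.to_sup_of_normal_right' S.isPGroup' (ZN.isPGroup_o2 _) hno
        have h2 := S.is_maximal' h1 le_sup_left
        have h3 : r ∈ (S : Subgroup G) ⊔ o2 (centralizer (V₁ : Set G)) := mem_sup_right hr
        rw [h2] at h3
        exact h3
      exact q.comm r hrS (o2_le _ hr) v hv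
    M_comm := fun x hx y hy => q.W_comm (F.M1_le hx) (F.M1_le hy)
    M_sq := fun x hx => q.W_sq x (F.M1_le hx)
    M_card := F.card_M1 hB Y q.z_ne
    V₁_le_M := F.V1_le
    H_M := hnorm _ fun c hc m hm => hMC c (hcent hc) (fun u hu => by
      have h1 := mem_centralizer_iff.1 hc u hu
      rw [← h1, mul_inv_cancel_right]
      exact hu) m hm
    S_M := hnorm _ fun c hc m hm => hMC c (q.S_le_C hc) (fun u hu => conj_nm (q.S_le hc) hu) m hm
    V_M := fun v hv hv1 m hm h => F.cent_M1 hB Y q.z_ne q.card_V1 (v := ⟨v, q.V_le_C hv⟩) hv hv1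
      (fun y hy => q.V_comm hv (q.V1_le_V hy)) hm h
    e_mul := fun x hx y hy => by
      rw [hε _ (F.cl_M1 hx), hε _ (F.cl_M1 hy), hε _ (F.cl_M1 (mul_mem hx hy)), ← map_add]
      congr 1
      exact Subtype.ext (q.dat.p_mul (F.M1_le hx) (F.M1_le hy))
    e_z := by
      have h1 : q.dat.p z = 0 := F.cl_z
      have h2 : q.dat.p z ∈ F.W1 := by rw [h1]; exact zero_mem _
      rw [hε z h2]
      have h3 : (⟨q.dat.p z, h2⟩ : F.W1) = 0 := Subtype.ext h1
      rw [h3, map_zero]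
    e_ker := fun x hx h => by
      rw [hε _ (F.cl_M1 hx), LinearEquiv.map_eq_zero_iff] at h
      exact F.M1_ker hB hx (congrArg Subtype.val h)
    faith := by
      intro c hc h m hm
      have hcC : c ∈ C := by rw [q.C_eq]; exact hc.1
      have hcn : ∀ m ∈ M, c * m * c⁻¹ ∈ M := fun m hm => conj_nm hc.2 hm
      have h1 := F.faith hB hcC hcn (fun m hm => by
        have h2 := h m hm
        rw [hε _ (F.cl_M1 hm), hε _ (F.cl_M1 (hcn m hm))] at h2
        exact congrArg Subtype.val (b.injective h2)) hm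
      exact mul_inv_eq_iff_eq_mul.1 h1
    full := by
      intro i j hij
      -- `q₀ = b⁻¹ eᵢ`, `χ = j`-th coordinate
      have hq0 : (b.symm (Pi.single i 1) : F.W1) ≠ 0 := by
        intro h
        rw [LinearEquiv.map_eq_zero_iff] at h
        have h1 := congrFun h i
        rw [Pi.single_eq_same] at h1
        exact one_ne h1
      let χ0 : F.W1 →ₗ[ZMod 2] ZMod 2 := (LinearMap.proj j).comp b.toLinearMap
      obtain ⟨χ, hχ⟩ := LinearMap.exists_extend χ0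
      have hχv : ∀ m : F.W1, χ (m : q.dat.Q) = b m j := fun m =>
        congrArg (fun f : F.W1 →ₗ[ZMod 2] ZMod 2 => f m) hχ
      obtain ⟨x, hx, a, ha, h1⟩ := F.full hB (q := (b.symm (Pi.single i 1) : F.W1)) (SetLike.coe_mem _)
        (fun h => hq0 (Subtype.ext h)) χ (by
          rw [hχv, LinearEquiv.apply_symm_apply, Pi.single_eq_of_ne hij.symm])
        ⟨(b.symm (Pi.single j 1) : F.W1), SetLike.coe_mem _, by
          rw [hχv, LinearEquiv.apply_symm_apply, Pi.single_eq_same]⟩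
      have hxC1 : (x : G) ∈ Nat.SixIn.C₁ z M := by
        refine ⟨?_, ?_⟩
        · have := x.2
          rw [← q.C_eq]
          exact this
        · exact hnorm (ncl C V) hJM hx
      refine ⟨(x : G) * a * (x : G)⁻¹, subset_closure ⟨x, hxC1, a, ha, rfl⟩, fun m hm => ?_⟩
      have hg : (x : G) * a * (x : G)⁻¹ ∈ ncl C V := mul_mem (mul_mem hx (le_ncl C V ha)) (inv_mem hx)
      have h2 := h1 m hm
      rw [hε _ (F.cl_M1 hm), hε _ (F.cl_M1 (hJM _ hg m hm))]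
      have h3 : (⟨q.dat.p ((x : G) * a * (x : G)⁻¹ * m * ((x : G) * a * (x : G)⁻¹)⁻¹),
          F.cl_M1 (hJM _ hg m hm)⟩ : F.W1) =
          ⟨q.dat.p m, F.cl_M1 hm⟩ + (b ⟨q.dat.p m, F.cl_M1 hm⟩ j) • b.symm (Pi.single i 1) := by
        apply Subtype.ext
        rw [Submodule.coe_add, Submodule.coe_smul]
        rw [← hχv]
        exact h2
      rw [h3, map_add, map_smul, LinearEquiv.apply_symm_apply]
      congr 1
      ext k
      rw [Pi.smul_apply, smul_eq_mul]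
      by_cases hk : k = i
      · subst hk
        rw [Pi.single_eq_same, Pi.single_eq_same, mul_one]
      · rw [Pi.single_eq_of_ne hk, Pi.single_eq_of_ne hk, mul_zero] }

end Cfsg.Agent.Omega.NO1.NatA.Quad

end

section


/-!
# THEOREM NAT (#13408), steps (6), (7): basic facts

`h : SixIn S z V V₁ M e`, `H = C_G(V₁)`, `R = O₂(H)`, `D₁ = C_G(M)`, `Q₁ = O₂(D₁)`.

* `mat` : the action of `C₁` on `M/⟨z⟩ = F₂³`, `C₁/D₁ = GL₃(2)`, `J₁` covers it;
* `Q₁ = R ∩ D₁`, `R = V Q₁`, `V ∩ Q₁ = V₁`, `[M,v] = V₁`, `[Q₁,J₁] ≤ M`;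
* `exists_rho` : an element of odd order of `J₁ ∩ H` without fixed points on `M/V₁`.
-/

set_option autoImplicit false
set_option linter.unusedSectionVars false

namespace Cfsg.Agent.Omega.NO1.Nat.SixA

open Subgroup Cfsg Cfsg.Agent.ZN
open Cfsg.Agent.Omega.NO1.Nat.SixIn (SixIn C₁ J₁)

universe u

/-! ### generalities -/

section gen

variable {G : Type u} [Group G]

theorem conj_mem {K : Subgroup G} {g x : G} (hg : g ∈ normalizer (K : Set G)) (hx : x ∈ K) :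
    g * x * g⁻¹ ∈ K := (mem_normalizer_iff.1 hg x).1 hx

theorem conj_mem' {K : Subgroup G} {g x : G} (hg : g ∈ normalizer (K : Set G)) (hx : x ∈ K) :
    g⁻¹ * x * g ∈ K := by
  have := conj_mem (inv_mem hg) hx
  rwa [inv_inv] at this

theorem mem_normalizer_of {K : Subgroup G} {g : G} (h1 : ∀ x ∈ K, g * x * g⁻¹ ∈ K)
    (h2 : ∀ x ∈ K, g⁻¹ * x * g ∈ K) : g ∈ normalizer (K : Set G) := by
  rw [mem_normalizer_iff]
  refine fun x => ⟨h1 x, fun hx => ?_⟩
  have := h2 _ hx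
  rwa [show g⁻¹ * (g * x * g⁻¹) * g = x by group] at this

theorem le_normalizer_of {K X : Subgroup G} (h1 : ∀ g ∈ X, ∀ x ∈ K, g * x * g⁻¹ ∈ K) :
    X ≤ normalizer (K : Set G) := fun g hg =>
  mem_normalizer_of (h1 g hg) fun x hx => by
    have := h1 g⁻¹ (inv_mem hg) x hx
    rwa [inv_inv] at this

theorem cent_iff {K : Subgroup G} {x : G} : x ∈ centralizer (K : Set G) ↔ ∀ k ∈ K, x * k = k * x := by
  rw [mem_centralizer_iff]
  exact ⟨fun h k hk => (h k hk).symm, fun h k hk => (h k hk).symm⟩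

theorem norm_cent {K : Subgroup G} : normalizer (K : Set G) ≤
    normalizer (centralizer (K : Set G) : Set G) := by
  refine le_normalizer_of fun g hg x hx => cent_iff.2 fun k hk => ?_
  have h1 := cent_iff.1 hx _ (conj_mem' hg hk)
  calc g * x * g⁻¹ * k = g * (x * (g⁻¹ * k * g)) * g⁻¹ := by group
    _ = g * (g⁻¹ * k * g * x) * g⁻¹ := by rw [h1]
    _ = k * (g * x * g⁻¹) := by group

/-- a commutator relation passes from generators to the group -/
theorem comm_closure {s : Set G} {A B : Subgroup G} (hB : ∀ g ∈ s, g ∈ normalizer (B : Set G))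
    (hs : ∀ g ∈ s, ∀ a ∈ A, a * g * a⁻¹ * g⁻¹ ∈ B) :
    ∀ g ∈ closure s, ∀ a ∈ A, a * g * a⁻¹ * g⁻¹ ∈ B := by
  have hN : closure s ≤ normalizer (B : Set G) := (closure_le _).2 hB
  intro g hg
  induction hg using closure_induction with
  | mem x hx => exact hs x hx
  | one => intro a _; simp
  | mul x y hx hy h1 h2 =>
    intro a ha
    have h3 := conj_mem (hN hx) (h2 a ha)
    have h4 := mul_mem (h1 a ha) h3
    rwa [show a * x * a⁻¹ * x⁻¹ * (x * (a * y * a⁻¹ * y⁻¹) * x⁻¹) =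
      a * (x * y) * a⁻¹ * (x * y)⁻¹ by group] at h4
  | inv x hx h1 =>
    intro a ha
    have h3 := conj_mem' (hN hx) (inv_mem (h1 a ha))
    rwa [show x⁻¹ * (a * x * a⁻¹ * x⁻¹)⁻¹ * x = a * x⁻¹ * a⁻¹ * x⁻¹⁻¹ by group] at h3

end gen

/-! ### vectors -/

abbrev Vec := Fin 3 → ZMod 2

theorem vec_add_self (u : Vec) : u + u = 0 := by
  ext i
  simp [CharTwo.add_self_eq_zero]

theorem exists_dot : ∀ u w : Vec, u ≠ 0 → w ≠ 0 → ∃ φ : Vec, dotProduct φ u = 1 ∧ dotProduct φ w = 1 := by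
  decide

theorem exists_mat (u w : Vec) (hu : u ≠ 0) (hw : w ≠ 0) :
    ∃ A : Matrix (Fin 3) (Fin 3) (ZMod 2), A.det ≠ 0 ∧ A.mulVec u = w := by
  obtain ⟨φ, h1, h2⟩ := exists_dot u w hu hw
  have h3 : ∀ x : ZMod 2, x + x = 0 := by decide
  refine ⟨1 + Matrix.vecMulVec (u + w) φ, ?_, ?_⟩
  · have h4 : (1 + Matrix.vecMulVec (u + w) φ) * (1 + Matrix.vecMulVec (u + w) φ) = 1 := by
      apply Matrix.toLin'.injective
      apply LinearMap.ext
      intro x
      simp only [Matrix.toLin'_apply, ← Matrix.mulVec_mulVec, Matrix.add_mulVec, Matrix.one_mulVec,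
        Matrix.vecMulVec_mulVec, dotProduct_add, dotProduct_smul]
      ext i
      simp [h1, h2, h3]
      have := h3 (dotProduct φ x * u i)
      have := h3 (dotProduct φ x * w i)
      grind
    intro h5
    have h6 := congrArg Matrix.det h4
    rw [Matrix.det_mul, h5, Matrix.det_one] at h6
    simp at h6
  · rw [Matrix.add_mulVec, Matrix.one_mulVec, Matrix.vecMulVec_mulVec, h1]
    ext i
    have := h3 (u i)
    simp
    grind

section six

variable {G : Type u} [Group G] [Finite G] {S : Sylow 2 G} {z : G} {V V₁ M : Subgroup G}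
  {e : G → Fin 3 → ZMod 2} (h : SixIn S z V V₁ M e)

include h

theorem z_mem_M : z ∈ M := h.V₁_le_M h.z_mem

theorem e_one : e 1 = 0 := by
  have h1 := h.e_mul 1 M.one_mem 1 M.one_mem
  rw [mul_one] at h1
  exact left_eq_add.1 h1

theorem e_mul_z {m : G} (hm : m ∈ M) : e (m * z) = e m := by
  rw [h.e_mul m hm z (z_mem_M h), h.e_z, add_zero]

theorem z_inv : z⁻¹ = z := inv_eq_of_mul_eq_one_left h.z_sq

theorem M_inv {m : G} (hm : m ∈ M) : m⁻¹ = m := inv_eq_of_mul_eq_one_left (h.M_sq m hm)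

theorem V_inv {m : G} (hm : m ∈ V) : m⁻¹ = m := inv_eq_of_mul_eq_one_left (h.V_sq m hm)

theorem e_eq {x y : G} (hx : x ∈ M) (hy : y ∈ M) (hxy : e x = e y) : y = x ∨ y = x * z := by
  have h1 : e (x * y) = 0 := by
    rw [h.e_mul x hx y hy, hxy, vec_add_self]
  rcases h.e_ker _ (mul_mem hx hy) h1 with h2 | h2
  · left
    rw [← M_inv h hx]
    exact (inv_eq_of_mul_eq_one_right h2).symm
  · right
    rw [← h2, ← mul_assoc, h.M_sq x hx, one_mul]

theorem e_surj (u : Vec) : ∃ m ∈ M, e m = u := by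
  let f : M →* Multiplicative Vec :=
    { toFun := fun m => Multiplicative.ofAdd (e m)
      map_one' := by
        change Multiplicative.ofAdd (e 1) = 1
        rw [e_one h]; rfl
      map_mul' := fun x y => by
        change Multiplicative.ofAdd (e (x * y : G)) = _
        rw [h.e_mul x x.2 y y.2]; rfl }
  have hk : Nat.card f.ker ≤ 2 := by
    have h1 : (f.ker : Set M) ⊆ {1, ⟨z, z_mem_M h⟩} := by
      intro m hm
      have h2 : e (m : G) = 0 := congrArg Multiplicative.toAdd (MonoidHom.mem_ker.1 hm)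
      rcases h.e_ker m m.2 h2 with h3 | h3
      · left; exact Subtype.ext h3
      · right; exact Subtype.ext h3
    calc Nat.card f.ker = (f.ker : Set M).ncard := rfl
      _ ≤ ({1, ⟨z, z_mem_M h⟩} : Set M).ncard := Set.ncard_le_ncard h1 (Set.toFinite _)
      _ ≤ 2 := by
        have := Set.ncard_insert_le (1 : M) {⟨z, z_mem_M h⟩}
        rwa [Set.ncard_singleton] at this
  have h1 : Nat.card f.ker * Nat.card f.range = 16 := by
    rw [← h.M_card, ← Subgroup.index_ker f]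
    exact f.ker.card_mul_index
  have h2 : 8 ≤ Nat.card f.range := by
    by_contra hlt
    push Not at hlt
    have : Nat.card f.ker * Nat.card f.range ≤ 2 * 7 := Nat.mul_le_mul hk (by omega)
    omega
  have h3 : f.range = ⊤ := by
    apply Subgroup.eq_top_of_le_card
    have h4 : Nat.card (Multiplicative Vec) = 8 := by
      rw [Nat.card_congr Multiplicative.toAdd]
      simp [Vec]
    rw [h4]; exact h2
  obtain ⟨m, hm⟩ : Multiplicative.ofAdd u ∈ f.range := by rw [h3]; trivial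
  exact ⟨m, m.2, congrArg Multiplicative.toAdd hm⟩

/-! ### `H`, `R`, `C₁`, `J₁` -/

theorem H_le_z : centralizer (V₁ : Set G) ≤ centralizer ({z} : Set G) := by
  intro x hx
  rw [mem_centralizer_singleton_iff]
  exact (cent_iff.1 hx z h.z_mem)

theorem H_le_C₁ : centralizer (V₁ : Set G) ≤ C₁ z M := le_inf (H_le_z h) h.H_M

theorem D_le_H : centralizer (M : Set G) ≤ centralizer (V₁ : Set G) := centralizer_le h.V₁_le_M

theorem D_le_C₁ : centralizer (M : Set G) ≤ C₁ z M := (D_le_H h).trans (H_le_C₁ h)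

theorem R_le_H : o2 (centralizer (V₁ : Set G)) ≤ centralizer (V₁ : Set G) := ZN.o2_le _

theorem V_le_H : V ≤ centralizer (V₁ : Set G) := h.V_le.trans (R_le_H h)

theorem V_le_C₁ : V ≤ C₁ z M := (V_le_H h).trans (H_le_C₁ h)

theorem M_le_H : M ≤ centralizer (V₁ : Set G) := fun x hx =>
  cent_iff.2 fun k hk => h.M_comm x hx k (h.V₁_le_M hk)

theorem J_le_C₁ : J₁ z V M ≤ C₁ z M := by
  rw [J₁, closure_le]
  rintro _ ⟨c, hc, v, hv, rfl⟩
  exact mul_mem (mul_mem hc (V_le_C₁ h hv)) (inv_mem hc)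

theorem S_le_z : (S : Subgroup G) ≤ centralizer ({z} : Set G) := by
  have h1 : z ∈ zc (S : Subgroup G) := by rw [h.zc_eq]; exact mem_zpowers z
  have h2 : z ∈ (S : Subgroup G) ⊓ centralizer ((S : Subgroup G) : Set G) := by
    have h3 : zc (S : Subgroup G) ≤ (S : Subgroup G) ⊓ centralizer ((S : Subgroup G) : Set G) :=
      (closure_le _).2 fun x hx => hx.1
    exact h3 h1
  intro s hs
  rw [mem_centralizer_singleton_iff]
  exact (cent_iff.1 h2.2 s hs).symm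

theorem S_le_C₁ : (S : Subgroup G) ≤ C₁ z M := le_inf (S_le_z h) h.S_M

theorem C₁_z {c : G} (hc : c ∈ C₁ z M) : c * z * c⁻¹ = z := by
  have h1 := mem_centralizer_singleton_iff.1 hc.1
  rw [h1]; group

/-- conjugation by `C₁` on `M/⟨z⟩` is well defined -/
theorem wd {c : G} (hc : c ∈ C₁ z M) {x y : G} (hx : x ∈ M) (hy : y ∈ M) (hxy : e x = e y) :
    e (c * x * c⁻¹) = e (c * y * c⁻¹) := by
  rcases e_eq h hx hy hxy with h1 | h1
  · rw [h1]
  · rw [h1, show c * (x * z) * c⁻¹ = c * x * c⁻¹ * (c * z * c⁻¹) by group, C₁_z h hc,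
      e_mul_z h (conj_mem hc.2 hx)]

theorem wd' {c : G} (hc : c ∈ C₁ z M) {x y : G} (hx : x ∈ M) (hy : y ∈ M)
    (hxy : e (c * x * c⁻¹) = e (c * y * c⁻¹)) : e x = e y := by
  have h1 := wd h (inv_mem hc) (conj_mem hc.2 hx) (conj_mem hc.2 hy) hxy
  rwa [show c⁻¹ * (c * x * c⁻¹) * c⁻¹⁻¹ = x by group, show c⁻¹ * (c * y * c⁻¹) * c⁻¹⁻¹ = y by group] at h1

theorem exists_lin {c : G} (hc : c ∈ C₁ z M) :
    ∃ A : Matrix (Fin 3) (Fin 3) (ZMod 2), ∀ m ∈ M, e (c * m * c⁻¹) = A.mulVec (e m) := by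
  choose pk hpk hpk' using e_surj h
  let f : Vec →+ Vec :=
    { toFun := fun u => e (c * pk u * c⁻¹)
      map_zero' := by
        rw [wd h hc (hpk 0) M.one_mem (by rw [hpk', e_one h])]
        simp [e_one h]
      map_add' := fun u w => by
        rw [wd h hc (hpk (u + w)) (mul_mem (hpk u) (hpk w))
          (by rw [hpk', h.e_mul _ (hpk u) _ (hpk w), hpk', hpk']),
          ← h.e_mul _ (conj_mem hc.2 (hpk u)) _ (conj_mem hc.2 (hpk w))]
        congr 1; group }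
  refine ⟨LinearMap.toMatrix' (f.toZModLinearMap 2), fun m hm => ?_⟩
  rw [LinearMap.toMatrix'_mulVec]
  change _ = e (c * pk (e m) * c⁻¹)
  exact wd h hc hm (hpk _) (hpk' _).symm

theorem mat_ext {A B : Matrix (Fin 3) (Fin 3) (ZMod 2)}
    (hAB : ∀ m ∈ M, A.mulVec (e m) = B.mulVec (e m)) : A = B := by
  apply Matrix.toLin'.injective
  apply LinearMap.ext
  intro u
  obtain ⟨m, hm, rfl⟩ := e_surj h u
  rw [Matrix.toLin'_apply, Matrix.toLin'_apply]
  exact hAB m hm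

/-- the action of `C₁` on `M/⟨z⟩` -/
theorem exists_act : ∃ f : C₁ z M →* GL (Fin 3) (ZMod 2), ∀ c : C₁ z M, ∀ m ∈ M,
    e ((c : G) * m * (c : G)⁻¹) = (f c).1.mulVec (e m) := by
  choose A hA using fun c : C₁ z M => exists_lin h c.2
  let f : C₁ z M →* Matrix (Fin 3) (Fin 3) (ZMod 2) :=
    { toFun := A
      map_one' := mat_ext h fun m hm => by
        rw [← hA 1 m hm]; simp
      map_mul' := fun c d => mat_ext h fun m hm => by
        rw [← hA (c * d) m hm, ← Matrix.mulVec_mulVec, ← hA d m hm, ← hA c _ (conj_mem d.2.2 hm)]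
        congr 1
        push_cast
        group }
  exact ⟨f.toHomUnits, hA⟩

/-- the action of `C₁` on `M/⟨z⟩` -/
noncomputable def act : C₁ z M →* GL (Fin 3) (ZMod 2) := (exists_act h).choose

theorem act_apply (c : C₁ z M) {m : G} (hm : m ∈ M) :
    (act h c).1.mulVec (e m) = e ((c : G) * m * (c : G)⁻¹) :=
  ((exists_act h).choose_spec c m hm).symm

theorem ker_act : (act h).ker = (centralizer (M : Set G)).subgroupOf (C₁ z M) := by
  ext c
  rw [MonoidHom.mem_ker, mem_subgroupOf, cent_iff]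
  constructor
  · intro h1
    refine h.faith c c.2 fun m hm => ?_
    rw [← act_apply h c hm, h1]
    simp
  · intro h1
    apply Units.ext
    refine mat_ext h fun m hm => ?_
    rw [act_apply h c hm, h1 m hm]
    simp

theorem full_mat (A : Matrix (Fin 3) (Fin 3) (ZMod 2)) (hA : A.det ≠ 0) :
    ∃ g ∈ J₁ z V M, ∀ m ∈ M, e (g * m * g⁻¹) = A.mulVec (e m) := by
  refine Matrix.diagonal_transvection_induction_of_det_ne_zero
    (fun A => ∃ g ∈ J₁ z V M, ∀ m ∈ M, e (g * m * g⁻¹) = A.mulVec (e m)) A hA ?_ ?_ ?_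
  · intro D hD
    have h1 : Matrix.diagonal D = 1 := by
      rw [Matrix.det_diagonal, Finset.prod_ne_zero_iff] at hD
      have h2 : D = 1 := by
        ext i
        have h3 := hD i (Finset.mem_univ i)
        have h4 : ∀ x : ZMod 2, x ≠ 0 → x = 1 := by decide
        rw [h4 _ h3]; rfl
      rw [h2]; exact Matrix.diagonal_one
    exact ⟨1, one_mem _, fun m _ => by rw [h1]; simp⟩
  · rintro ⟨i, j, hij, c⟩
    have h4 : ∀ x : ZMod 2, x = 0 ∨ x = 1 := by decide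
    rcases h4 c with rfl | rfl
    · exact ⟨1, one_mem _, fun m _ => by
        simp [Matrix.TransvectionStruct.toMatrix]⟩
    · obtain ⟨g, hg, hg'⟩ := h.full i j hij
      refine ⟨g, hg, fun m hm => ?_⟩
      rw [hg' m hm]
      simp only [Matrix.TransvectionStruct.toMatrix, Matrix.transvection, Matrix.add_mulVec,
        Matrix.one_mulVec]
      congr 1
      ext k
      rw [Matrix.single_mulVec]
      simp [Pi.single]
  · rintro A B - - ⟨a, ha, ha'⟩ ⟨b, hb, hb'⟩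
    refine ⟨a * b, mul_mem ha hb, fun m hm => ?_⟩
    rw [← Matrix.mulVec_mulVec, ← hb' m hm, ← ha' _ (conj_mem (J_le_C₁ h hb).2 hm)]
    congr 1
    group

theorem act_surj : Function.Surjective (act h) := by
  intro A
  obtain ⟨g, hg, hg'⟩ := full_mat h A.1 (by
    intro h0
    have h1 := (Matrix.isUnit_iff_isUnit_det A.1).1 A.isUnit
    rw [h0] at h1
    exact not_isUnit_zero h1)
  refine ⟨⟨g, J_le_C₁ h hg⟩, Units.ext (mat_ext h fun m hm => ?_)⟩
  rw [act_apply h _ hm]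
  exact hg' m hm

theorem card_gl : Nat.card (GL (Fin 3) (ZMod 2)) = 168 := by
  rw [Matrix.card_GL_field]
  simp [Fin.prod_univ_three, ZMod.card]

/-- `|C₁/D₁| = 168` -/
theorem relIndex_D : (centralizer (M : Set G)).relIndex (C₁ z M) = 168 := by
  rw [relIndex, ← ker_act h, Subgroup.index_ker, MonoidHom.range_eq_top.2 (act_surj h), Subgroup.card_top,
    card_gl h]

/-- `J₁` is transitive on `(M/⟨z⟩)^#` -/
theorem tran {m : G} {u : Vec} (hm : m ∈ M) (h1 : e m ≠ 0) (h2 : u ≠ 0) :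
    ∃ g ∈ J₁ z V M, e (g * m * g⁻¹) = u := by
  obtain ⟨A, hA, hA'⟩ := exists_mat (e m) u h1 h2
  obtain ⟨g, hg, hg'⟩ := full_mat h A hA
  exact ⟨g, hg, by rw [hg' m hm, hA']⟩

theorem M_isPGroup : IsPGroup 2 M := by
  rw [IsPGroup.iff_card]
  exact ⟨4, by rw [h.M_card]; norm_num⟩

theorem V_isPGroup : IsPGroup 2 V := by
  rw [IsPGroup.iff_card]
  exact ⟨4, by rw [h.V_card]; norm_num⟩

theorem M_le_D : M ≤ centralizer (M : Set G) := fun x hx => cent_iff.2 fun k hk => h.M_comm x hx k hk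

theorem M_le_Q : M ≤ o2 (centralizer (M : Set G)) :=
  ZN.le_o2 (M_le_D h) (M_isPGroup h) (centralizer_le_normalizer _)

theorem H_norm_D : centralizer (V₁ : Set G) ≤ normalizer (centralizer (M : Set G) : Set G) :=
  h.H_M.trans norm_cent

/-- `Q₁ = R ∩ D₁` -/
theorem Q_eq : o2 (centralizer (M : Set G)) =
    o2 (centralizer (V₁ : Set G)) ⊓ centralizer (M : Set G) := by
  apply le_antisymm
  · refine le_inf (ZN.le_o2 ((ZN.o2_le _).trans (D_le_H h)) (ZN.isPGroup_o2 _) ?_) (ZN.o2_le _)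
    exact (H_norm_D h).trans (ZN.normalizer_le_normalizer_o2 _)
  · refine ZN.le_o2 inf_le_right ((ZN.isPGroup_o2 _).to_le inf_le_left) ?_
    refine le_normalizer_of fun g hg x hx => ?_
    obtain ⟨hx1, hx2⟩ := mem_inf.1 hx
    exact mem_inf.2 ⟨conj_mem (ZN.le_normalizer_o2 _ (D_le_H h hg)) hx1,
      mul_mem (mul_mem hg hx2) (inv_mem hg)⟩

theorem mem_Q {x : G} : x ∈ o2 (centralizer (M : Set G)) ↔
    x ∈ o2 (centralizer (V₁ : Set G)) ∧ ∀ m ∈ M, x * m = m * x := by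
  rw [Q_eq h, mem_inf, cent_iff]

theorem M_ne_V₁ : ¬ M ≤ V₁ := fun h1 => by
  have := Subgroup.card_le_of_le h1
  rw [h.M_card, h.V₁_card] at this
  omega

theorem exists_M : ∃ m ∈ M, m ∉ V₁ := by
  by_contra hc
  push Not at hc
  exact M_ne_V₁ h hc

/-- `V ∩ Q₁ = V₁` -/
theorem V_Q {v : G} (hv : v ∈ V) : v ∈ o2 (centralizer (M : Set G)) ↔ v ∈ V₁ := by
  constructor
  · intro h1
    by_contra h2
    obtain ⟨m, hm, hm'⟩ := exists_M h
    exact hm' (h.V_M v hv h2 m hm (((mem_Q h).1 h1).2 m hm))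
  · intro h1
    exact M_le_Q h (h.V₁_le_M h1)

theorem exists_V : ∃ v ∈ V, v ∉ V₁ := by
  by_contra hc
  push Not at hc
  have := Subgroup.card_le_of_le (show V ≤ V₁ from hc)
  rw [h.V_card, h.V₁_card] at this
  omega

/-- `[M,v] ≤ V₁` -/
theorem comm_mem {v m : G} (hv : v ∈ V) (hm : m ∈ M) : v * m * v⁻¹ * m⁻¹ ∈ V₁ :=
  h.quad v hv m ((mem_Q h).1 (M_le_Q h hm)).1

theorem V₁_cent {v x : G} (hv : v ∈ V₁) (hx : x ∈ centralizer (V₁ : Set G)) : x * v * x⁻¹ = v := by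
  rw [cent_iff.1 hx v hv]; group

/-- `[M,v] = V₁` for `v ∈ V - V₁` -/
theorem comm_surj {v : G} (hv : v ∈ V) (hv' : v ∉ V₁) (w : G) (hw : w ∈ V₁) :
    ∃ m ∈ M, v * m * v⁻¹ * m⁻¹ = w := by
  let f : M →* V₁ :=
    { toFun := fun m => ⟨v * m * v⁻¹ * (m : G)⁻¹, comm_mem h hv m.2⟩
      map_one' := by
        apply Subtype.ext; simp
      map_mul' := fun x y => by
        apply Subtype.ext
        have h1 : v * y * v⁻¹ * (y : G)⁻¹ ∈ M := h.V₁_le_M (comm_mem h hv y.2)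
        have h2 := h.M_comm _ h1 _ (inv_mem x.2)
        have h3 := h.M_comm _ (inv_mem x.2) _ (inv_mem y.2)
        change v * (x * y) * v⁻¹ * ((x : G) * y)⁻¹ =
          (v * x * v⁻¹ * (x : G)⁻¹) * (v * y * v⁻¹ * (y : G)⁻¹)
        calc v * (x * y) * v⁻¹ * ((x : G) * y)⁻¹
            = v * x * v⁻¹ * (v * y * v⁻¹ * (y : G)⁻¹ * (x : G)⁻¹) := by group
          _ = v * x * v⁻¹ * ((x : G)⁻¹ * (v * y * v⁻¹ * (y : G)⁻¹)) := by rw [h2]
          _ = _ := by group }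
  have hk : Nat.card f.ker ≤ 4 := by
    rw [← h.V₁_card]
    have h1 : f.ker.map M.subtype ≤ V₁ := by
      rintro _ ⟨m, hm, rfl⟩
      have h2 : v * m * v⁻¹ * (m : G)⁻¹ = 1 := congrArg Subtype.val (MonoidHom.mem_ker.1 hm)
      refine h.V_M v hv hv' m m.2 ?_
      calc v * (m : G) = (v * m * v⁻¹ * (m : G)⁻¹) * (m * v) := by group
        _ = m * v := by rw [h2, one_mul]
    have h2 := Subgroup.card_le_of_le h1
    rwa [Subgroup.card_map_of_injective M.subtype_injective] at h2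
  have h1 : Nat.card f.ker * Nat.card f.range = 16 := by
    rw [← h.M_card, ← Subgroup.index_ker f]
    exact f.ker.card_mul_index
  have h2 : 4 ≤ Nat.card f.range := by
    by_contra hlt
    push Not at hlt
    have : Nat.card f.ker * Nat.card f.range ≤ 4 * 3 := Nat.mul_le_mul hk (by omega)
    omega
  have h3 : f.range = ⊤ := by
    apply Subgroup.eq_top_of_le_card
    rw [h.V₁_card]; exact h2
  obtain ⟨m, hm⟩ : (⟨w, hw⟩ : V₁) ∈ f.range := by rw [h3]; trivial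
  exact ⟨m, m.2, congrArg Subtype.val hm⟩

/-! ### `ρ` -/

/-- `S` moves `V₁/⟨z⟩`, elementwise -/
theorem V₁_cases {w : G} (hw : w ∈ V₁) (h1 : w ≠ 1) (h2 : w ≠ z) {x : G} (hx : x ∈ V₁) :
    x = 1 ∨ x = z ∨ x = w ∨ x = w * z := by
  have hsub : ({1, z, w, w * z} : Set G) ⊆ V₁ := by
    rintro y (rfl | rfl | rfl | rfl)
    · exact one_mem _
    · exact h.z_mem
    · exact hw
    · exact mul_mem hw h.z_mem
  have hz : z ≠ 1 := h.z_ne
  have h3 : w * z ≠ 1 := fun h3 => h2 (by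
    rw [← z_inv h]; exact eq_inv_of_mul_eq_one_left h3)
  have h4 : w * z ≠ z := fun h4 => h1 (by simpa using h4)
  have h5 : w * z ≠ w := fun h5 => hz (by simpa using h5)
  have hc : ({1, z, w, w * z} : Set G).ncard = 4 := by
    rw [Set.ncard_insert_of_notMem (by simp [hz.symm, h1.symm, h3.symm]) (Set.toFinite _),
      Set.ncard_insert_of_notMem (by simp [h2.symm, h4.symm]) (Set.toFinite _), Set.ncard_pair h5.symm]
  have h6 : ({1, z, w, w * z} : Set G) = V₁ := by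
    apply Set.eq_of_subset_of_ncard_le hsub _ (Set.toFinite _)
    rw [hc]
    exact le_of_eq (by rw [← h.V₁_card]; rfl)
  have h7 : x ∈ ({1, z, w, w * z} : Set G) := by rw [h6]; exact hx
  simpa using h7

theorem V₁_iff {w : G} (hw : w ∈ V₁) (h1 : w ≠ 1) (h2 : w ≠ z) {m : G} (hm : m ∈ M) :
    m ∈ V₁ ↔ e m = 0 ∨ e m = e w := by
  constructor
  · intro h3
    rcases V₁_cases h hw h1 h2 h3 with rfl | rfl | rfl | rfl
    · exact Or.inl (e_one h)
    · exact Or.inl h.e_z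
    · exact Or.inr rfl
    · exact Or.inr (e_mul_z h (h.V₁_le_M hw))
  · rintro (h3 | h3)
    · rcases h.e_ker m hm h3 with rfl | rfl
      · exact one_mem _
      · exact h.z_mem
    · rcases e_eq h (h.V₁_le_M hw) hm h3.symm with rfl | rfl
      · exact hw
      · exact mul_mem hw h.z_mem

theorem exists_w : ∃ w ∈ V₁, w ≠ 1 ∧ w ≠ z := by
  by_contra hc
  push Not at hc
  have h1 : (V₁ : Set G) ⊆ {1, z} := by
    intro x hx
    by_cases h2 : x = 1
    · exact Or.inl h2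
    · exact Or.inr (hc x hx h2)
  have h2 := Set.ncard_le_ncard h1 (Set.toFinite _)
  have h3 : (V₁ : Set G).ncard = 4 := by rw [← h.V₁_card]; rfl
  have h4 := Set.ncard_insert_le (1 : G) {z}
  rw [Set.ncard_singleton] at h4
  omega

theorem e_ne {w : G} (hw : w ∈ M) (h1 : w ≠ 1) (h2 : w ≠ z) : e w ≠ 0 := fun h3 => by
  rcases h.e_ker w hw h3 with h4 | h4
  · exact h1 h4
  · exact h2 h4

theorem act_rel {c d : C₁ z M} (hcd : act h c = act h d) {m : G} (hm : m ∈ M) :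
    e ((c : G) * m * (c : G)⁻¹) = e ((d : G) * m * (d : G)⁻¹) := by
  rw [← act_apply h c hm, ← act_apply h d hm, hcd]

omit h [Finite G] in
theorem odd_pow [Finite G] (x : G) : Odd (orderOf (x ^ (4 ^ (orderOf x + 1)))) := by
  obtain ⟨a, b, hb, hab⟩ := Nat.exists_eq_two_pow_mul_odd (orderOf_pos x).ne'
  have h1 : (x ^ (4 ^ (orderOf x + 1))) ^ b = 1 := by
    rw [← pow_mul]
    apply orderOf_dvd_iff_pow_eq_one.1
    conv_lhs => rw [hab]
    refine Nat.mul_dvd_mul ?_ (dvd_refl b)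
    rw [show (4 : ℕ) = 2 ^ 2 by norm_num, ← pow_mul]
    apply pow_dvd_pow
    have h2 : a < 2 ^ a := Nat.lt_two_pow_self
    have h3 : 2 ^ a ≤ orderOf x := Nat.le_of_dvd (orderOf_pos x) ⟨b, hab⟩
    omega
  exact hb.of_dvd_nat (orderOf_dvd_of_pow_eq_one h1)

/-- an element of odd order of `J₁ ∩ H` without fixed points on `M/V₁` -/
theorem exists_rho : ∃ ρ ∈ J₁ z V M, ρ ∈ centralizer (V₁ : Set G) ∧ Odd (orderOf ρ) ∧
    ∀ m ∈ M, ρ * m * ρ⁻¹ * m⁻¹ ∈ V₁ → m ∈ V₁ := by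
  obtain ⟨w, hw, hw1, hw2⟩ := exists_w h
  have hwM := h.V₁_le_M hw
  let A₀ : Matrix (Fin 3) (Fin 3) (ZMod 2) := !![1, 0, 0; 0, 0, 1; 0, 1, 1]
  let e₀ : Vec := ![1, 0, 0]
  have hA3 : A₀ * A₀ * A₀ = 1 := by decide
  have hAe : A₀.mulVec e₀ = e₀ := by decide
  have hAf : ∀ y : Vec, A₀.mulVec y + y = 0 ∨ A₀.mulVec y + y = e₀ → y = 0 ∨ y = e₀ := by decide
  have hdet : A₀.det ≠ 0 := by
    intro h0
    have h1 := congrArg Matrix.det hA3
    rw [Matrix.det_mul, h0, mul_zero, Matrix.det_one] at h1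
    exact zero_ne_one h1
  obtain ⟨g₀, hg₀, hg₀'⟩ := full_mat h A₀ hdet
  obtain ⟨g, hg, hg'⟩ := tran h hwM (e_ne h hwM hw1 hw2) (u := e₀) (by decide)
  have hgC := J_le_C₁ h hg
  have hg₀C := J_le_C₁ h hg₀
  set gc : C₁ z M := ⟨g, hgC⟩ with hgc
  set g₀c : C₁ z M := ⟨g₀, hg₀C⟩ with hg₀c
  set r : C₁ z M := gc⁻¹ * g₀c * gc with hr
  have hr' : (r : G) = g⁻¹ * g₀ * g := rfl
  have ha0 : (act h g₀c).1 = A₀ := mat_ext h fun m hm => by
    rw [act_apply h g₀c hm]; exact hg₀' m hm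
  have ha1 : act h g₀c * act h g₀c * act h g₀c = 1 := Units.ext (by
    rw [Units.val_mul, Units.val_mul, ha0, hA3]; rfl)
  have ha2 : act h r ^ 3 = 1 := by
    rw [hr, map_mul, map_mul, map_inv]
    calc ((act h gc)⁻¹ * act h g₀c * act h gc) ^ 3
        = (act h gc)⁻¹ * (act h g₀c * act h g₀c * act h g₀c) * act h gc := by
          rw [pow_three]; group
      _ = 1 := by rw [ha1]; group
  set k := 4 ^ (orderOf (r : G) + 1) with hk
  have hk1 : k % 3 = 1 := by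
    rw [hk, Nat.pow_mod]; simp
  have ha3 : act h (r ^ k) = act h r := by
    rw [map_pow, ← Nat.div_add_mod k 3, hk1, pow_add, pow_mul, ha2, one_pow, one_mul, pow_one]
  have hrJ : (r : G) ∈ J₁ z V M := mul_mem (mul_mem (inv_mem hg) hg₀) hg
  have hrw : e ((r : G) * w * (r : G)⁻¹) = e w := by
    have h1 : e (g₀ * (g * w * g⁻¹) * g₀⁻¹) = e (g * w * g⁻¹) := by
      rw [hg₀' _ (conj_mem hgC.2 hwM), hg', hAe]
    have h2 := wd h (inv_mem hgC) (conj_mem hg₀C.2 (conj_mem hgC.2 hwM)) (conj_mem hgC.2 hwM) h1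
    rw [show g⁻¹ * (g * w * g⁻¹) * g⁻¹⁻¹ = w by group] at h2
    rw [← h2, hr']
    congr 1; group
  have hr2 : (r : G) ^ 2 ∈ centralizer (V₁ : Set G) := by
    have hw' : (r : G) ^ 2 * w = w * (r : G) ^ 2 := by
      have h0 := C₁_z h r.2
      rcases e_eq h hwM (conj_mem r.2.2 hwM) hrw.symm with h1 | h1
      · have h2 : (r : G) * w = w * r := mul_inv_eq_iff_eq_mul.1 h1
        rw [pow_two, mul_assoc, h2, ← mul_assoc, h2, mul_assoc]
      · have h2 : (r : G) ^ 2 * w * ((r : G) ^ 2)⁻¹ = w := by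
          calc (r : G) ^ 2 * w * ((r : G) ^ 2)⁻¹ = r * (r * w * (r : G)⁻¹) * (r : G)⁻¹ := by
                rw [pow_two]; group
            _ = r * (w * z) * (r : G)⁻¹ := by rw [h1]
            _ = (r * w * (r : G)⁻¹) * (r * z * (r : G)⁻¹) := by group
            _ = w := by rw [h1, h0, mul_assoc, h.z_sq, mul_one]
        exact mul_inv_eq_iff_eq_mul.1 h2
    have hz' : (r : G) ^ 2 * z = z * (r : G) ^ 2 := by
      have h2 : (r : G) * z = z * r := mul_inv_eq_iff_eq_mul.1 (C₁_z h r.2)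
      rw [pow_two, mul_assoc, h2, ← mul_assoc, h2, mul_assoc]
    refine cent_iff.2 fun x hx => ?_
    rcases V₁_cases h hw hw1 hw2 hx with rfl | rfl | rfl | rfl
    · simp
    · exact hz'
    · exact hw'
    · rw [← mul_assoc, hw', mul_assoc, hz', mul_assoc]
  refine ⟨(r : G) ^ k, pow_mem hrJ _, ?_, odd_pow (r : G), ?_⟩
  · have h1 : k = 2 * (2 * 4 ^ orderOf (r : G)) := by rw [hk]; ring
    rw [h1, pow_mul]
    exact pow_mem hr2 _
  · intro m hm hn
    have hrk : (r : G) ^ k ∈ C₁ z M := pow_mem r.2 _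
    have h1 : e ((r : G) ^ k * m * ((r : G) ^ k)⁻¹) = e ((r : G) * m * (r : G)⁻¹) := by
      have := act_rel h ha3 hm
      simpa using this
    rw [V₁_iff h hw hw1 hw2 (h.V₁_le_M hn), M_inv h hm,
      h.e_mul _ (conj_mem hrk.2 hm) m hm, h1,
      ← h.e_mul _ (conj_mem r.2.2 hm) m hm] at hn
    rw [V₁_iff h hw hw1 hw2 hm]
    have hx := mul_mem (conj_mem r.2.2 hm) hm
    -- apply `g`
    have h2 : e (g * ((r : G) * m * (r : G)⁻¹ * m) * g⁻¹) = A₀.mulVec (e (g * m * g⁻¹)) +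
        e (g * m * g⁻¹) := by
      rw [← hg₀' _ (conj_mem hgC.2 hm), ← h.e_mul _ (conj_mem hg₀C.2 (conj_mem hgC.2 hm)) _
        (conj_mem hgC.2 hm), hr']
      congr 1; group
    have h3 := hAf (e (g * m * g⁻¹)) (by
      rw [← h2]
      rcases hn with hn | hn
      · left
        rw [wd h hgC hx M.one_mem (by rw [hn, e_one h])]
        simp [e_one h]
      · right
        rw [wd h hgC hx hwM hn, hg'])
    rcases h3 with h3 | h3
    · left
      rw [← e_one h]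
      apply wd' h hgC hm M.one_mem
      rw [h3]
      simp [e_one h]
    · right
      apply wd' h hgC hm hwM
      rw [h3, hg']

end six

end Cfsg.Agent.Omega.NO1.Nat.SixA

end

section


/-!
# THEOREM NAT (#13408), step (6)

`R = V Q₁` (`R_eq`), `H` is irreducible on `M/V₁` (`dich`), `[Q₁,J₁] ≤ M` (`comm_J`).
-/

set_option autoImplicit false
set_option linter.unusedSectionVars false

namespace Cfsg.Agent.Omega.NO1.Nat.SixB

open Subgroup Cfsg Cfsg.Agent.ZN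
open Cfsg.Agent.Omega.NO1.Nat.SixIn (SixIn C₁ J₁)
open Cfsg.Agent.Omega.NO1.Nat.SixA

universe u

variable {G : Type u} [Group G] [Finite G] {S : Sylow 2 G} {z : G} {V V₁ M : Subgroup G}
  {e : G → Fin 3 → ZMod 2} (h : SixIn S z V V₁ M e)

include h

theorem cent₁ {c x : G} (hc : c ∈ V₁) (hx : x ∈ centralizer (V₁ : Set G)) : c * x = x * c :=
  (cent_iff.1 hx c hc).symm

theorem comm_R {r m : G} (hr : r ∈ o2 (centralizer (V₁ : Set G))) (hm : m ∈ M) :
    r * m * r⁻¹ * m⁻¹ ∈ V₁ := by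
  obtain ⟨v, hv, hv'⟩ := exists_V h
  have hrH := R_le_H h hr
  have hmH := M_le_H h hm
  have hnM : r * m * r⁻¹ * m⁻¹ ∈ M := mul_mem (conj_mem (h.H_M hrH) hm) (inv_mem hm)
  refine h.V_M v hv hv' _ hnM ?_
  have hc := h.quad v hv r hr
  have hd := comm_mem h hv hm
  set c := v * r * v⁻¹ * r⁻¹ with hc'
  set d := v * m * v⁻¹ * m⁻¹ with hd'
  have h1 : v * r * v⁻¹ = c * r := by rw [hc']; group
  have h2 : v * m * v⁻¹ = d * m := by rw [hd']; group
  have h3 : c * r * (d * m) = r * m * (c * d) := by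
    calc c * r * (d * m) = (c * r) * (d * m) := rfl
      _ = (r * c) * (m * d) := by rw [cent₁ h hc hrH, cent₁ h hd hmH]
      _ = r * (c * m) * d := by group
      _ = r * (m * c) * d := by rw [cent₁ h hc hmH]
      _ = _ := by group
  have h4 : d * m * (c * r) = m * r * (c * d) := by
    calc d * m * (c * r) = (m * d) * (r * c) := by rw [cent₁ h hc hrH, cent₁ h hd hmH]
      _ = m * (d * r) * c := by group
      _ = m * (r * d) * c := by rw [cent₁ h hd hrH]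
      _ = m * r * (d * c) := by group
      _ = _ := by rw [cent₁ h hd (V_le_H h (h.V₁_le hc))]
  have h5 : v * (r * m * r⁻¹ * m⁻¹) * v⁻¹ = r * m * r⁻¹ * m⁻¹ := by
    calc v * (r * m * r⁻¹ * m⁻¹) * v⁻¹
        = (v * r * v⁻¹) * (v * m * v⁻¹) * ((v * m * v⁻¹) * (v * r * v⁻¹))⁻¹ := by group
      _ = (c * r) * (d * m) * ((d * m) * (c * r))⁻¹ := by rw [h1, h2]
      _ = r * m * (c * d) * (m * r * (c * d))⁻¹ := by rw [h3, h4]
      _ = _ := by group
  exact mul_inv_eq_iff_eq_mul.1 h5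

theorem gen2 {X : Subgroup G} (hV : V₁ ≤ X) (hX : X ≤ M) {a b : G} (ha : a ∈ X) (hb : b ∈ X)
    (ha' : a ∉ V₁) (hb' : b ∉ V₁) (hab : a * b ∉ V₁) : M ≤ X := by
  have h1 : Nat.card X ∣ 2 ^ 4 := by
    have := Subgroup.card_dvd_of_le hX
    rwa [h.M_card] at this
  obtain ⟨k, hk, hk'⟩ := (Nat.dvd_prime_pow Nat.prime_two).1 h1
  have h2 : Nat.card V₁ * V₁.relIndex X = Nat.card X := by
    have := relIndex_mul_relIndex ⊥ V₁ X bot_le hV
    rwa [relIndex_bot_left, relIndex_bot_left] at this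
  rw [h.V₁_card, hk'] at h2
  have h3 : V₁.relIndex X ≠ 1 := fun h3 => ha' (relIndex_eq_one.1 h3 ha)
  have h4 : V₁.relIndex X ≠ 2 := fun h4 => hab (by
    have h5 := (mul_mem_iff_of_index_two h4 (a := ⟨a, ha⟩) (b := ⟨b, hb⟩)).2
      (iff_of_false (by rwa [mem_subgroupOf]) (by rwa [mem_subgroupOf]))
    rwa [mem_subgroupOf] at h5)
  have h5 : k = 4 := by
    interval_cases k
    · omega
    · omega
    · omega
    · omega
    · rfl
  subst h5
  exact (Subgroup.eq_of_le_of_card_ge hX (by rw [h.M_card, hk']; norm_num)).ge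

/-- `H` is irreducible on `M/V₁` -/
theorem dich {X : Subgroup G} (hV : V₁ ≤ X) (hX : X ≤ M)
    (hN : centralizer (V₁ : Set G) ≤ normalizer (X : Set G)) : X ≤ V₁ ∨ M ≤ X := by
  by_cases hc : X ≤ V₁
  · exact Or.inl hc
  · right
    obtain ⟨a, ha, ha'⟩ := SetLike.not_le_iff_exists.1 hc
    obtain ⟨ρ, -, hρ, -, hρ'⟩ := exists_rho h
    have haM := hX ha
    have hb := conj_mem (hN hρ) ha
    refine gen2 h hV hX hb ha ?_ ha' ?_
    · intro h1
      have h2 := V₁_cent h h1 (inv_mem hρ)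
      rw [inv_inv] at h2
      have h3 : ρ⁻¹ * (ρ * a * ρ⁻¹) * ρ = a := by group
      rw [h3] at h2
      exact ha' (h2 ▸ h1)
    · intro h1
      apply ha'
      apply hρ' a haM
      rwa [M_inv h haM]

theorem mem_R_of_Q {x : G} (hx : x ∈ o2 (centralizer (M : Set G))) : x ∈ o2 (centralizer (V₁ : Set G)) :=
  ((mem_Q h).1 hx).1

/-- `e([r,m])` is additive in `r` -/
theorem delta_mul {r s m : G} (hr : r ∈ o2 (centralizer (V₁ : Set G)))
    (hs : s ∈ o2 (centralizer (V₁ : Set G))) (hm : m ∈ M) :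
    e (r * s * m * (r * s)⁻¹ * m⁻¹) = e (r * m * r⁻¹ * m⁻¹) + e (s * m * s⁻¹ * m⁻¹) := by
  have h1 := comm_R h hr hm
  have h2 := comm_R h hs hm
  rw [add_comm, ← h.e_mul _ (h.V₁_le_M h2) _ (h.V₁_le_M h1)]
  congr 1
  calc r * s * m * (r * s)⁻¹ * m⁻¹ = (r * (s * m * s⁻¹ * m⁻¹) * r⁻¹) * (r * m * r⁻¹ * m⁻¹) := by group
    _ = _ := by rw [V₁_cent h h2 (R_le_H h hr)]

theorem delta_mul' {r m n : G} (hr : r ∈ o2 (centralizer (V₁ : Set G))) (hm : m ∈ M) (hn : n ∈ M) :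
    e (r * (m * n) * r⁻¹ * (m * n)⁻¹) = e (r * m * r⁻¹ * m⁻¹) + e (r * n * r⁻¹ * n⁻¹) := by
  have h1 := comm_R h hr hm
  have h2 := comm_R h hr hn
  rw [add_comm, ← h.e_mul _ (h.V₁_le_M h2) _ (h.V₁_le_M h1)]
  congr 1
  have h3 : r * n * r⁻¹ * n⁻¹ * (r * m * r⁻¹ * m⁻¹) = r * m * r⁻¹ * m⁻¹ * (r * n * r⁻¹ * n⁻¹) :=
    h.M_comm _ (h.V₁_le_M h2) _ (h.V₁_le_M h1)
  have h4 := V₁_cent h h2 (M_le_H h hm)
  rw [h3]
  calc r * (m * n) * r⁻¹ * (m * n)⁻¹ = r * m * r⁻¹ * m⁻¹ * (m * (r * n * r⁻¹ * n⁻¹) * m⁻¹) := by group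
    _ = _ := by rw [h4]

theorem act_of_delta {r m : G} (hr : r ∈ o2 (centralizer (V₁ : Set G))) (hm : m ∈ M)
    (h0 : e (r * m * r⁻¹ * m⁻¹) = 0) : e (r * m * r⁻¹) = e m := by
  have h1 := conj_mem (h.H_M (R_le_H h hr)) hm
  rw [h.e_mul _ h1 _ (inv_mem hm), M_inv h hm] at h0
  have h2 := congrArg (· + e m) h0
  simp only [zero_add] at h2
  rw [add_assoc, vec_add_self, add_zero] at h2
  exact h2

/-- `R = V Q₁` -/
theorem R_eq {r : G} (hr : r ∈ o2 (centralizer (V₁ : Set G))) :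
    ∃ v ∈ V, ∃ q ∈ o2 (centralizer (M : Set G)), r = v * q := by
  obtain ⟨w, hw, hw1, hw2⟩ := exists_w h
  obtain ⟨ρ, -, hρ, -, hρ'⟩ := exists_rho h
  obtain ⟨a, ha, ha'⟩ := exists_M h
  have hb := conj_mem (h.H_M hρ) ha
  set b := ρ * a * ρ⁻¹ with hbdef
  have hb' : b ∉ V₁ := by
    intro h1
    have h2 := V₁_cent h h1 (inv_mem hρ)
    rw [inv_inv] at h2
    have h3 : ρ⁻¹ * (ρ * a * ρ⁻¹) * ρ = a := by group
    rw [hbdef, h3] at h2
    rw [hbdef] at h1
    exact ha' (h2 ▸ h1)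
  have hab : b * a ∉ V₁ := by
    intro h1
    apply ha'
    apply hρ' a ha
    rwa [M_inv h ha]
  -- an element of `R` which is trivial on `a`, `b` mod `z` is in `D₁`
  have key : ∀ x ∈ o2 (centralizer (V₁ : Set G)), e (x * a * x⁻¹ * a⁻¹) = 0 →
      e (x * b * x⁻¹ * b⁻¹) = 0 → x ∈ o2 (centralizer (M : Set G)) := by
    intro x hx h1 h2
    let X : Subgroup G :=
      { carrier := {m | m ∈ M ∧ e (x * m * x⁻¹ * m⁻¹) = 0}
        one_mem' := ⟨one_mem _, by simp [e_one h]⟩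
        mul_mem' := fun {m n} hm hn => ⟨mul_mem hm.1 hn.1, by
          rw [delta_mul' h hx hm.1 hn.1, hm.2, hn.2, add_zero]⟩
        inv_mem' := fun {m} hm => by
          rw [M_inv h hm.1]; exact hm }
    have hMX : M ≤ X := by
      refine gen2 h (fun y hy => ⟨h.V₁_le_M hy, ?_⟩) (fun y hy => hy.1) (a := b) (b := a)
        ⟨hb, h2⟩ ⟨ha, h1⟩ hb' ha' hab
      rw [V₁_cent h hy (R_le_H h hx)]
      simp [e_one h]
    refine (mem_Q h).2 ⟨hx, h.faith x (H_le_C₁ h (R_le_H h hx)) fun m hm => ?_⟩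
    exact act_of_delta h hx hm (hMX hm).2
  let f : V →* Multiplicative (Vec × Vec) :=
    { toFun := fun v => Multiplicative.ofAdd (e (v * a * (v : G)⁻¹ * a⁻¹), e (v * b * (v : G)⁻¹ * b⁻¹))
      map_one' := by simp [e_one h]
      map_mul' := fun x y => by
        rw [← ofAdd_add]
        congr 1
        exact Prod.ext (delta_mul h (h.V_le x.2) (h.V_le y.2) ha) (delta_mul h (h.V_le x.2) (h.V_le y.2) hb) }
  have hk : Nat.card f.ker ≤ 4 := by
    rw [← h.V₁_card]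
    have h1 : f.ker.map V.subtype ≤ V₁ := by
      rintro _ ⟨v, hv, rfl⟩
      have h2 : (e (v * a * (v : G)⁻¹ * a⁻¹), e (v * b * (v : G)⁻¹ * b⁻¹)) = 0 :=
        congrArg Multiplicative.toAdd (MonoidHom.mem_ker.1 hv)
      exact (V_Q h v.2).1 (key v (h.V_le v.2) (congrArg Prod.fst h2) (congrArg Prod.snd h2))
    have h2 := Subgroup.card_le_of_le h1
    rwa [Subgroup.card_map_of_injective V.subtype_injective] at h2
  have h1 : Nat.card f.ker * Nat.card f.range = 16 := by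
    rw [← h.V_card, ← Subgroup.index_ker f]
    exact f.ker.card_mul_index
  have h2 : 4 ≤ Nat.card f.range := by
    by_contra hlt
    push Not at hlt
    have : Nat.card f.ker * Nat.card f.range ≤ 4 * 3 := Nat.mul_le_mul hk (by omega)
    omega
  have hval : ∀ x ∈ o2 (centralizer (V₁ : Set G)), ∀ m ∈ M, e (x * m * x⁻¹ * m⁻¹) ∈ ({0, e w} : Set Vec) := by
    intro x hx m hm
    have h3 := comm_R h hx hm
    rcases (V₁_iff h hw hw1 hw2 (h.V₁_le_M h3)).1 h3 with h4 | h4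
    · exact Or.inl h4
    · exact Or.inr h4
  let T : Set (Vec × Vec) := ({0, e w} : Set Vec) ×ˢ ({0, e w} : Set Vec)
  have hT : T.ncard ≤ 4 := by
    have h3 : ({0, e w} : Set Vec).ncard ≤ 2 := by
      have := Set.ncard_insert_le (0 : Vec) {e w}
      rwa [Set.ncard_singleton] at this
    calc T.ncard = ({0, e w} : Set Vec).ncard * ({0, e w} : Set Vec).ncard := Set.ncard_prod
      _ ≤ 2 * 2 := Nat.mul_le_mul h3 h3
  have hrT : Multiplicative.toAdd '' (f.range : Set (Multiplicative (Vec × Vec))) = T := by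
    apply Set.eq_of_subset_of_ncard_le _ _ (Set.toFinite _)
    · rintro _ ⟨_, ⟨v, rfl⟩, rfl⟩
      exact ⟨hval v (h.V_le v.2) a ha, hval v (h.V_le v.2) b hb⟩
    · refine hT.trans ?_
      rw [Set.ncard_image_of_injective _ Multiplicative.toAdd.injective]
      exact h2
  have h3 : (e (r * a * r⁻¹ * a⁻¹), e (r * b * r⁻¹ * b⁻¹)) ∈ T := ⟨hval r hr a ha, hval r hr b hb⟩
  rw [← hrT] at h3
  obtain ⟨_, ⟨v, rfl⟩, hv⟩ := h3
  have hv1 : e (v * a * (v : G)⁻¹ * a⁻¹) = e (r * a * r⁻¹ * a⁻¹) := congrArg Prod.fst hv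
  have hv2 : e (v * b * (v : G)⁻¹ * b⁻¹) = e (r * b * r⁻¹ * b⁻¹) := congrArg Prod.snd hv
  refine ⟨v, v.2, (v : G)⁻¹ * r, ?_, by group⟩
  refine key _ (mul_mem (inv_mem (h.V_le v.2)) hr) ?_ ?_
  · rw [V_inv h v.2, delta_mul h (h.V_le v.2) hr ha, ← hv1, vec_add_self]
  · rw [V_inv h v.2, delta_mul h (h.V_le v.2) hr hb, ← hv2, vec_add_self]

theorem C₁_norm_Q : C₁ z M ≤ normalizer (o2 (centralizer (M : Set G)) : Set G) :=
  fun _ hg => ZN.normalizer_le_normalizer_o2 _ (norm_cent hg.2)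

/-- `[Q₁,J₁] ≤ M` -/
theorem comm_J : ∀ j ∈ J₁ z V M, ∀ q ∈ o2 (centralizer (M : Set G)), q * j * q⁻¹ * j⁻¹ ∈ M := by
  refine comm_closure ?_ ?_
  · rintro _ ⟨c, hc, v, hv, rfl⟩
    exact mul_mem (mul_mem hc.2 (V_le_C₁ h hv).2) (inv_mem hc.2)
  · rintro _ ⟨c, hc, v, hv, rfl⟩ q hq
    have h1 := conj_mem' (C₁_norm_Q h hc) hq
    have h2 := inv_mem (h.quad v hv _ (mem_R_of_Q h h1))
    have h3 := conj_mem hc.2 (h.V₁_le_M h2)
    rwa [show c * (v * (c⁻¹ * q * c) * v⁻¹ * (c⁻¹ * q * c)⁻¹)⁻¹ * c⁻¹ =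
      q * (c * v * c⁻¹) * q⁻¹ * (c * v * c⁻¹)⁻¹ by group] at h3

end Cfsg.Agent.Omega.NO1.Nat.SixB

end

section


/-!
# THEOREM NAT (#13408), step (6)

`step6` : some `t ∈ N(V) ∩ N(V₁) ∩ N(M)` moves `z`.
-/

set_option autoImplicit false
set_option linter.unusedSectionVars false

namespace Cfsg.Agent.Omega.NO1.Nat.SixC

open Subgroup Cfsg Cfsg.Agent.ZN Cfsg.Agent.Omega.MinPar
open Cfsg.Agent.Omega.NO1.Nat.SixIn (SixIn C₁ J₁)
open Cfsg.Agent.Omega.NO1.Nat.SixA Cfsg.Agent.Omega.NO1.Nat.SixB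

universe u

section cover

variable {G : Type u} [Group G] [Finite G]

/-- `R = VQ`, `V ∩ Q ≥ V₁ ≥ M ∩ Q`, `|V| = |M|` implies `R = MQ`. -/
theorem cover {R Q V M V₁ : Subgroup G} (hQ : Q ≤ R) (hn : R ≤ normalizer (Q : Set G))
    (hV : V ≤ R) (hM : M ≤ R) (hVc : Nat.card V = 16) (hMc : Nat.card M = 16)
    (hV₁c : Nat.card V₁ = 4) (h1 : V₁ ≤ V) (h1Q : V₁ ≤ Q) (h3 : ∀ x ∈ M, x ∈ Q → x ∈ V₁)
    (h4 : ∀ r ∈ R, ∃ v ∈ V, v⁻¹ * r ∈ Q) : ∀ r ∈ R, ∃ m ∈ M, m⁻¹ * r ∈ Q := by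
  have hnor : (Q.subgroupOf R).Normal := (normal_subgroupOf_iff_le_normalizer hQ).2 hn
  let p := QuotientGroup.mk' (Q.subgroupOf R)
  have hp : ∀ x : R, x ∈ Q.subgroupOf R → p x = 1 := fun x hx => (QuotientGroup.eq_one_iff x).2 hx
  have hp' : ∀ x : R, p x = 1 → (x : G) ∈ Q := fun x hx => (QuotientGroup.eq_one_iff x).1 hx
  let fV : V →* R ⧸ Q.subgroupOf R := p.comp (inclusion hV)
  let fM : M →* R ⧸ Q.subgroupOf R := p.comp (inclusion hM)
  have hVs : fV.range = ⊤ := by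
    rw [MonoidHom.range_eq_top]
    intro y
    obtain ⟨r, rfl⟩ := QuotientGroup.mk'_surjective _ y
    obtain ⟨v, hv, hv'⟩ := h4 r r.2
    refine ⟨⟨v, hv⟩, ?_⟩
    have h5 : p ((inclusion hV ⟨v, hv⟩)⁻¹ * r) = 1 := hp _ hv'
    rw [map_mul, map_inv] at h5
    exact (inv_mul_eq_one.1 h5)
  have hk1 : 4 ≤ Nat.card fV.ker := by
    have h5 : V₁.subgroupOf V ≤ fV.ker := fun x hx => MonoidHom.mem_ker.2 (hp _ (h1Q hx))
    have h6 := Subgroup.card_le_of_le h5
    rwa [Nat.card_congr (subgroupOfEquivOfLe h1).toEquiv, hV₁c] at h6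
  have hk2 : Nat.card fM.ker ≤ 4 := by
    have h5 : fM.ker.map M.subtype ≤ V₁ := by
      rintro _ ⟨x, hx, rfl⟩
      exact h3 x x.2 (hp' _ (MonoidHom.mem_ker.1 hx))
    have h6 := Subgroup.card_le_of_le h5
    rwa [Subgroup.card_map_of_injective M.subtype_injective, hV₁c] at h6
  have hc1 : Nat.card fV.ker * Nat.card fV.range = 16 := by
    rw [← hVc, ← Subgroup.index_ker fV]
    exact fV.ker.card_mul_index
  have hc2 : Nat.card fM.ker * Nat.card fM.range = 16 := by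
    rw [← hMc, ← Subgroup.index_ker fM]
    exact fM.ker.card_mul_index
  have h5 : Nat.card (R ⧸ Q.subgroupOf R) ≤ 4 := by
    rw [hVs, Subgroup.card_top] at hc1
    by_contra hlt
    push Not at hlt
    have : 4 * 5 ≤ Nat.card fV.ker * Nat.card (R ⧸ Q.subgroupOf R) := Nat.mul_le_mul hk1 hlt
    omega
  have h6 : 4 ≤ Nat.card fM.range := by
    by_contra hlt
    push Not at hlt
    have : Nat.card fM.ker * Nat.card fM.range ≤ 4 * 3 := Nat.mul_le_mul hk2 (by omega)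
    omega
  have h7 : fM.range = ⊤ := Subgroup.eq_top_of_le_card _ (h5.trans h6)
  intro r hr
  obtain ⟨m, hm⟩ : p ⟨r, hr⟩ ∈ fM.range := by rw [h7]; trivial
  refine ⟨m, m.2, ?_⟩
  have h8 : p ((inclusion hM m)⁻¹ * ⟨r, hr⟩) = 1 := by
    rw [map_mul, map_inv, inv_mul_eq_one]
    exact hm
  exact hp' _ h8

end cover

variable {G : Type u} [Group G] [Finite G] {S : Sylow 2 G} {z : G} {V V₁ M : Subgroup G}
  {e : G → Fin 3 → ZMod 2} {t : G}

/-- `M^t` -/
def Mt (t : G) (M : Subgroup G) : Subgroup G := M.map (MulAut.conj t).toMonoidHom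

theorem mem_Mt {x : G} : x ∈ Mt t M ↔ t⁻¹ * x * t ∈ M := by
  constructor
  · rintro ⟨y, hy, rfl⟩
    have : t⁻¹ * (MulAut.conj t).toMonoidHom y * t = y := by simp [MulAut.conj_apply]; group
    rwa [this]
  · intro h1
    exact ⟨_, h1, by simp [MulAut.conj_apply]; group⟩

theorem mem_Mt_of {x : G} (hx : x ∈ M) : t * x * t⁻¹ ∈ Mt t M := ⟨x, hx, rfl⟩

theorem card_Mt : Nat.card (Mt t M) = Nat.card M :=
  Subgroup.card_map_of_injective (MulAut.conj t).injective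

theorem conj_mem_iff {K : Subgroup G} (ht : t ∈ normalizer (K : Set G)) {x : G} :
    t⁻¹ * x * t ∈ K ↔ x ∈ K := by
  constructor
  · intro h1
    have := conj_mem ht h1
    rwa [show t * (t⁻¹ * x * t) * t⁻¹ = x by group] at this
  · exact conj_mem' ht

section one

variable (h : SixIn S z V V₁ M e) (ht : t ∈ normalizer (V : Set G)) (ht₁ : t ∈ normalizer (V₁ : Set G))

omit [Finite G] in
theorem t_H (ht₁ : t ∈ normalizer (V₁ : Set G)) :
    t ∈ normalizer (centralizer (V₁ : Set G) : Set G) := norm_cent ht₁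

omit [Finite G] in
theorem t_R (ht₁ : t ∈ normalizer (V₁ : Set G)) :
    t ∈ normalizer (o2 (centralizer (V₁ : Set G)) : Set G) :=
  ZN.normalizer_le_normalizer_o2 _ (t_H ht₁)

include h ht₁

theorem V₁_le_Mt : V₁ ≤ Mt t M := fun _ hx => mem_Mt.2 (h.V₁_le_M (conj_mem' ht₁ hx))

theorem conj3 (a x : G) : t⁻¹ * (a * x * a⁻¹) * t = (t⁻¹ * a * t) * (t⁻¹ * x * t) * (t⁻¹ * a * t)⁻¹ := by
  group

theorem H_norm_Mt : centralizer (V₁ : Set G) ≤ normalizer (Mt t M : Set G) := by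
  refine le_normalizer_of fun g hg x hx => mem_Mt.2 ?_
  rw [conj3 h ht₁]
  exact conj_mem (h.H_M (conj_mem' (t_H ht₁) hg)) (mem_Mt.1 hx)

theorem H_norm_Qt : centralizer (V₁ : Set G) ≤
    normalizer (Mt t (o2 (centralizer (M : Set G))) : Set G) := by
  refine le_normalizer_of fun g hg x hx => mem_Mt.2 ?_
  rw [conj3 h ht₁]
  exact conj_mem (C₁_norm_Q h (H_le_C₁ h (conj_mem' (t_H ht₁) hg))) (mem_Mt.1 hx)

theorem Mt_le_R : Mt t M ≤ o2 (centralizer (V₁ : Set G)) := fun _ hx =>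
  (conj_mem_iff (t_R ht₁)).1 (mem_R_of_Q h (M_le_Q h (mem_Mt.1 hx)))

theorem mem_Qt {x : G} : x ∈ Mt t (o2 (centralizer (M : Set G))) ↔
    x ∈ o2 (centralizer (V₁ : Set G)) ∧ ∀ m ∈ Mt t M, x * m = m * x := by
  rw [mem_Mt, mem_Q h, conj_mem_iff (t_R ht₁)]
  refine and_congr_right fun _ => ⟨fun h1 m hm => ?_, fun h1 m hm => ?_⟩
  · have h2 := h1 _ (mem_Mt.1 hm)
    calc x * m = t * (t⁻¹ * x * t * (t⁻¹ * m * t)) * t⁻¹ := by group
      _ = t * (t⁻¹ * m * t * (t⁻¹ * x * t)) * t⁻¹ := by rw [h2]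
      _ = m * x := by group
  · have h2 := h1 _ (mem_Mt_of hm)
    calc t⁻¹ * x * t * m = t⁻¹ * (x * (t * m * t⁻¹)) * t := by group
      _ = t⁻¹ * (t * m * t⁻¹ * x) * t := by rw [h2]
      _ = _ := by group

/-- `[x,r] ∈ V₁` for all `r ∈ R` -/
def Quad (V₁ : Subgroup G) (x : G) : Prop :=
  ∀ r ∈ o2 (centralizer (V₁ : Set G)), x * r * x⁻¹ * r⁻¹ ∈ V₁

omit [Finite G] h ht₁ in
theorem Quad.mul {x y : G} (hx : Quad V₁ x) (hy : Quad V₁ y) (hxR : x ∈ centralizer (V₁ : Set G)) :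
    Quad V₁ (x * y) := by
  intro r hr
  have h1 := hx r hr
  have h2 := hy r hr
  have h3 : x * (y * r * y⁻¹ * r⁻¹) * x⁻¹ = y * r * y⁻¹ * r⁻¹ := by
    rw [cent_iff.1 hxR _ h2]; group
  have h4 := mul_mem h2 h1
  rw [← h3] at h4
  rwa [show x * (y * r * y⁻¹ * r⁻¹) * x⁻¹ * (x * r * x⁻¹ * r⁻¹) = x * y * r * (x * y)⁻¹ * r⁻¹ by
    group] at h4

omit [Finite G] h ht₁ in
theorem Quad.conj {x g : G} (hx : Quad V₁ x) (hg : g ∈ normalizer (V₁ : Set G)) :
    Quad V₁ (g * x * g⁻¹) := by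
  intro r hr
  have h0 := ZN.normalizer_le_normalizer_o2 _ (t_H hg)
  have h1 := conj_mem hg (hx _ (conj_mem' h0 hr))
  rwa [show g * (x * (g⁻¹ * r * g) * x⁻¹ * (g⁻¹ * r * g)⁻¹) * g⁻¹ =
    g * x * g⁻¹ * r * (g * x * g⁻¹)⁻¹ * r⁻¹ by group] at h1

omit ht₁ in
theorem J_moves : ¬ J₁ z V M ≤ normalizer (V₁ : Set G) := by
  intro hJ
  obtain ⟨w, hw, hw1, hw2⟩ := exists_w h
  obtain ⟨m, hm, hm'⟩ := exists_M h
  have hwM := h.V₁_le_M hw
  have hem : e m ≠ 0 := fun h0 => hm' ((V₁_iff h hw hw1 hw2 hm).2 (Or.inl h0))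
  obtain ⟨g, hg, hg'⟩ := tran h hwM (e_ne h hwM hw1 hw2) hem
  have h1 := conj_mem (hJ hg) hw
  apply hm'
  rw [V₁_iff h hw hw1 hw2 hm, ← hg']
  exact (V₁_iff h hw hw1 hw2 (h.V₁_le_M h1)).1 h1

/-- Case (i). -/
theorem case_i (hcomm : ∀ m ∈ M, ∀ m' ∈ Mt t M, m * m' = m' * m) (hne : ¬ M ≤ Mt t M) : False := by
  obtain ⟨ρ, hρJ, hρ, hodd, hρ'⟩ := exists_rho h
  -- `M ∩ M^t = V₁`
  have hint : M ⊓ Mt t M ≤ V₁ := by
    have hN : centralizer (V₁ : Set G) ≤ normalizer ((M ⊓ Mt t M : Subgroup G) : Set G) := by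
      refine le_normalizer_of fun g hg x hx => ?_
      obtain ⟨hx1, hx2⟩ := mem_inf.1 hx
      exact mem_inf.2 ⟨conj_mem (h.H_M hg) hx1, conj_mem (H_norm_Mt h ht₁ hg) hx2⟩
    rcases dich h (le_inf h.V₁_le_M (V₁_le_Mt h ht₁)) inf_le_left hN with h1 | h1
    · exact h1
    · exact absurd (h1.trans inf_le_right) hne
  -- `ρ` centralises `M^t`
  have hρM : ∀ m' ∈ Mt t M, ρ * m' = m' * ρ := by
    intro m' hm'
    have hQ : m' ∈ o2 (centralizer (M : Set G)) :=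
      (mem_Q h).2 ⟨Mt_le_R h ht₁ hm', fun m hm => (hcomm m hm m' hm').symm⟩
    have h1 := inv_mem (comm_J h ρ hρJ m' hQ)
    have h2 : ρ * m' * ρ⁻¹ * m'⁻¹ ∈ V₁ := by
      apply hint
      refine mem_inf.2 ⟨?_, mul_mem (conj_mem (H_norm_Mt h ht₁ hρ) hm') (inv_mem hm')⟩
      rwa [show (m' * ρ * m'⁻¹ * ρ⁻¹)⁻¹ = ρ * m' * ρ⁻¹ * m'⁻¹ by group] at h1
    set c := ρ * m' * ρ⁻¹ * m'⁻¹ with hc
    have h3 : ρ * m' * ρ⁻¹ = c * m' := by rw [hc]; group
    have h4 : ∀ k : ℕ, ρ ^ k * m' * (ρ ^ k)⁻¹ = c ^ k * m' := by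
      intro k
      induction k with
      | zero => simp
      | succ k ih =>
        calc ρ ^ (k + 1) * m' * (ρ ^ (k + 1))⁻¹ = ρ ^ k * (ρ * m' * ρ⁻¹) * (ρ ^ k)⁻¹ := by
              rw [pow_succ]; group
          _ = ρ ^ k * (c * m') * (ρ ^ k)⁻¹ := by rw [h3]
          _ = (ρ ^ k * c * (ρ ^ k)⁻¹) * (ρ ^ k * m' * (ρ ^ k)⁻¹) := by group
          _ = c * (c ^ k * m') := by rw [ih, V₁_cent h h2 (pow_mem hρ k)]
          _ = c ^ (k + 1) * m' := by rw [pow_succ']; group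
    have h5 := h4 (orderOf ρ)
    rw [pow_orderOf_eq_one, one_mul, inv_one, mul_one, right_eq_mul] at h5
    obtain ⟨k, hk⟩ := hodd
    have h6 : c * c = 1 := h.V_sq c (h.V₁_le h2)
    have h7 : c = 1 := by
      rw [hk, pow_succ, pow_mul, pow_two, h6, one_pow, one_mul] at h5
      exact h5
    rw [h7, one_mul] at h3
    exact mul_inv_eq_iff_eq_mul.1 h3
  obtain ⟨v, hv, hv'⟩ := exists_V h
  have hvH := V_le_H h hv
  set v₀ := v * (ρ * v⁻¹ * ρ⁻¹) with hv₀
  have hv₀c : ∀ m' ∈ Mt t M, v₀ * m' = m' * v₀ := by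
    intro m' hm'
    have h1 := hρM _ (conj_mem' (H_norm_Mt h ht₁ hvH) hm')
    have h2 := hρM _ (conj_mem' (H_norm_Mt h ht₁ hρ) hm')
    have h2' : ρ⁻¹ * m' * ρ = m' := by
      rw [mul_assoc, ← hρM m' hm']; group
    calc v₀ * m' = v * ρ * v⁻¹ * (ρ⁻¹ * m' * ρ) * ρ⁻¹ := by rw [hv₀]; group
      _ = v * (ρ * (v⁻¹ * m' * v)) * v⁻¹ * ρ⁻¹ := by rw [h2']; group
      _ = v * (v⁻¹ * m' * v * ρ) * v⁻¹ * ρ⁻¹ := by rw [h1]
      _ = m' * v₀ := by rw [hv₀]; group
  have hρR : ρ * v⁻¹ * ρ⁻¹ ∈ o2 (centralizer (V₁ : Set G)) :=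
    conj_mem (ZN.le_normalizer_o2 _ hρ) (inv_mem (h.V_le hv))
  have hv₀R : v₀ ∈ o2 (centralizer (V₁ : Set G)) := mul_mem (h.V_le hv) hρR
  -- `v₀` does not centralise `M`
  have hv₀M : ¬ ∀ m ∈ M, v₀ * m = m * v₀ := by
    intro hc
    obtain ⟨m, hm, hm'⟩ := exists_M h
    apply hm'
    apply hρ' m hm
    have hm2 := conj_mem (h.H_M hρ) hm
    refine h.V_M v hv hv' _ (mul_mem hm2 (inv_mem hm)) ?_
    have hcm := comm_mem h hv hm
    set c := v * m * v⁻¹ * m⁻¹ with hcdef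
    have h1 : v * m * v⁻¹ = c * m := by rw [hcdef]; group
    have h2 : v * (ρ * m * ρ⁻¹) * v⁻¹ = c * (ρ * m * ρ⁻¹) := by
      have h3 := conj_mem (V_le_C₁ h hv).2 hm2
      have h4 := hc _ h3
      calc v * (ρ * m * ρ⁻¹) * v⁻¹ = v₀⁻¹ * (v₀ * (v * (ρ * m * ρ⁻¹) * v⁻¹)) := by group
        _ = v₀⁻¹ * (v * (ρ * m * ρ⁻¹) * v⁻¹ * v₀) := by rw [h4]
        _ = ρ * (v * m * v⁻¹) * ρ⁻¹ := by rw [hv₀]; group
        _ = ρ * (c * m) * ρ⁻¹ := by rw [h1]
        _ = (ρ * c * ρ⁻¹) * (ρ * m * ρ⁻¹) := by group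
        _ = c * (ρ * m * ρ⁻¹) := by rw [V₁_cent h hcm hρ]
    rw [← mul_inv_eq_iff_eq_mul]
    calc v * (ρ * m * ρ⁻¹ * m⁻¹) * v⁻¹ = (v * (ρ * m * ρ⁻¹) * v⁻¹) * (v * m * v⁻¹)⁻¹ := by group
      _ = c * (ρ * m * ρ⁻¹) * (c * m)⁻¹ := by rw [h1, h2]
      _ = c * (ρ * m * ρ⁻¹ * m⁻¹) * c⁻¹ := by group
      _ = ρ * m * ρ⁻¹ * m⁻¹ := by
        rw [h.M_comm c (h.V₁_le_M hcm) _ (mul_mem hm2 (inv_mem hm))]; group
  obtain ⟨v', hv'V, q, hq, hvq⟩ := R_eq h hv₀R
  have hv'1 : v' ∉ V₁ := by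
    intro h1
    apply hv₀M
    rw [hvq]
    exact ((mem_Q h).1 (mul_mem (M_le_Q h (h.V₁_le_M h1)) hq)).2
  -- `x = t⁻¹ v₀ t`
  have hxQ : t⁻¹ * v₀ * t ∈ o2 (centralizer (M : Set G)) := by
    refine (mem_Q h).2 ⟨conj_mem' (t_R ht₁) hv₀R, fun m hm => ?_⟩
    have h1 := hv₀c _ (mem_Mt_of hm)
    calc t⁻¹ * v₀ * t * m = t⁻¹ * (v₀ * (t * m * t⁻¹)) * t := by group
      _ = t⁻¹ * (t * m * t⁻¹ * v₀) * t := by rw [h1]
      _ = _ := by group
  have hxquad : Quad V₁ (t⁻¹ * v₀ * t) := by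
    have h1 : Quad V₁ v₀ :=
      Quad.mul (fun r hr => h.quad v hv r hr)
        (Quad.conj (fun r hr => h.quad _ (inv_mem hv) r hr)
          (centralizer_le_normalizer _ hρ)) hvH
    have h2 := Quad.conj h1 (inv_mem ht₁)
    rwa [inv_inv] at h2
  set x := t⁻¹ * v₀ * t with hx
  apply J_moves h
  refine le_normalizer_of fun c hc w hw => ?_
  obtain ⟨m, hm, hmw⟩ := comm_surj h hv'V hv'1 (t * w * t⁻¹) (conj_mem ht₁ hw)
  have hmQ : t⁻¹ * m * t ∈ o2 (centralizer (M : Set G)) := by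
    refine (mem_Q h).2 ⟨conj_mem' (t_R ht₁) (mem_R_of_Q h (M_le_Q h hm)), fun n hn => ?_⟩
    have h1 := hcomm m hm _ (mem_Mt_of hn)
    calc t⁻¹ * m * t * n = t⁻¹ * (m * (t * n * t⁻¹)) * t := by group
      _ = t⁻¹ * (t * n * t⁻¹ * m) * t := by rw [h1]
      _ = _ := by group
  have hw2 : x * (t⁻¹ * m * t) * x⁻¹ * (t⁻¹ * m * t)⁻¹ = w := by
    have h1 : q * m = m * q := ((mem_Q h).1 hq).2 m hm
    calc x * (t⁻¹ * m * t) * x⁻¹ * (t⁻¹ * m * t)⁻¹ = t⁻¹ * (v₀ * m * v₀⁻¹ * m⁻¹) * t := by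
          rw [hx]; group
      _ = t⁻¹ * (v' * (q * m) * (v' * q)⁻¹ * m⁻¹) * t := by rw [hvq]; group
      _ = t⁻¹ * (v' * m * v'⁻¹ * m⁻¹) * t := by rw [h1]; group
      _ = w := by rw [hmw]; group
  set y := t⁻¹ * m * t with hy
  have hcC := J_le_C₁ h hc
  have hy2 := conj_mem (C₁_norm_Q h hcC) hmQ
  have h1 := comm_J h c hc x hxQ
  -- `c x c⁻¹ = n x`, `n ∈ M`
  set n := (x * c * x⁻¹ * c⁻¹)⁻¹ with hn
  have hnM : n ∈ M := inv_mem h1
  have hcx : c * x * c⁻¹ = n * x := by rw [hn]; group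
  have h2 : n * (x * (c * y * c⁻¹) * x⁻¹) = x * (c * y * c⁻¹) * x⁻¹ * n :=
    (((mem_Q h).1 (mul_mem (mul_mem hxQ hy2) (inv_mem hxQ))).2 n hnM).symm
  have h3 : c * w * c⁻¹ = x * (c * y * c⁻¹) * x⁻¹ * (c * y * c⁻¹)⁻¹ := by
    calc c * w * c⁻¹ = c * (x * y * x⁻¹ * y⁻¹) * c⁻¹ := by rw [hw2]
      _ = (c * x * c⁻¹) * (c * y * c⁻¹) * (c * x * c⁻¹)⁻¹ * (c * y * c⁻¹)⁻¹ := by group
      _ = n * (x * (c * y * c⁻¹) * x⁻¹) * n⁻¹ * (c * y * c⁻¹)⁻¹ := by rw [hcx]; group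
      _ = _ := by rw [h2]; group
  rw [h3]
  exact hxquad _ (mem_R_of_Q h hy2)

/-- `M ∩ Q₁^t = V₁` if `[M,M^t] ≠ 1` -/
theorem inter (hnc : ∃ m ∈ M, ∃ m' ∈ Mt t M, m * m' ≠ m' * m) {x : G} (hx : x ∈ M)
    (hxQ : x ∈ Mt t (o2 (centralizer (M : Set G)))) : x ∈ V₁ := by
  have hN : centralizer (V₁ : Set G) ≤
      normalizer ((M ⊓ Mt t (o2 (centralizer (M : Set G))) : Subgroup G) : Set G) := by
    refine le_normalizer_of fun g hg x hx => ?_
    obtain ⟨hx1, hx2⟩ := mem_inf.1 hx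
    exact mem_inf.2 ⟨conj_mem (h.H_M hg) hx1, conj_mem (H_norm_Qt h ht₁ hg) hx2⟩
  have hV₁ : V₁ ≤ Mt t (o2 (centralizer (M : Set G))) := fun y hy =>
    mem_Mt.2 (M_le_Q h (h.V₁_le_M (conj_mem' ht₁ hy)))
  rcases dich h (le_inf h.V₁_le_M hV₁) inf_le_left hN with h1 | h1
  · exact h1 (mem_inf.2 ⟨hx, hxQ⟩)
  · exfalso
    obtain ⟨m, hm, m', hm', hmm⟩ := hnc
    exact hmm (((mem_Qt h ht₁).1 ((h1.trans inf_le_right) hm)).2 m' hm')

/-- `M^t ∩ Q₁ = V₁` if `[M,M^t] ≠ 1` -/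
theorem inter' (hnc : ∃ m ∈ M, ∃ m' ∈ Mt t M, m * m' ≠ m' * m) {x : G} (hx : x ∈ Mt t M)
    (hxQ : x ∈ o2 (centralizer (M : Set G))) : x ∈ V₁ := by
  rw [← conj_mem_iff ht₁]
  obtain ⟨m, hm, m', hm', hmm⟩ := hnc
  refine inter h (inv_mem ht₁) ⟨t⁻¹ * m' * t, mem_Mt.1 hm', t⁻¹ * m * t, ?_, ?_⟩ (mem_Mt.1 hx) ?_
  · rw [mem_Mt]
    rwa [show t⁻¹⁻¹ * (t⁻¹ * m * t) * t⁻¹ = m by group]
  · intro h1
    apply hmm
    calc m * m' = t * (t⁻¹ * m * t * (t⁻¹ * m' * t)) * t⁻¹ := by group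
      _ = t * (t⁻¹ * m' * t * (t⁻¹ * m * t)) * t⁻¹ := by rw [h1]
      _ = _ := by group
  · rw [mem_Mt]
    rwa [show t⁻¹⁻¹ * (t⁻¹ * x * t) * t⁻¹ = x by group]

include ht in
/-- Case (ii). -/
theorem case_ii (htz : t * z * t⁻¹ ≠ z) : ∀ m ∈ M, ∀ m' ∈ Mt t M, m * m' = m' * m := by
  by_contra hcon
  push Not at hcon
  have hnc : ∃ m ∈ M, ∃ m' ∈ Mt t M, m * m' ≠ m' * m := hcon
  set Q := o2 (centralizer (M : Set G)) with hQdef
  set R := o2 (centralizer (V₁ : Set G)) with hRdef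
  have hQR : Q ≤ R := fun x hx => mem_R_of_Q h hx
  have hQtR : Mt t Q ≤ R := fun x hx => ((mem_Qt h ht₁).1 hx).1
  have hV₁Q : V₁ ≤ Q := h.V₁_le_M.trans (M_le_Q h)
  have hV₁Qt : V₁ ≤ Mt t Q := fun y hy => mem_Mt.2 (hV₁Q (conj_mem' ht₁ hy))
  have hMR : M ≤ R := (M_le_Q h).trans hQR
  have hMtQt : Mt t M ≤ Mt t Q := fun x hx => mem_Mt.2 (M_le_Q h (mem_Mt.1 hx))
  have hRQ : R ≤ normalizer (Q : Set G) :=
    (R_le_H h).trans ((H_le_C₁ h).trans (C₁_norm_Q h))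
  have hRQt : R ≤ normalizer (Mt t Q : Set G) := (R_le_H h).trans (H_norm_Qt h ht₁)
  have hR1 : ∀ r ∈ R, ∃ v ∈ V, v⁻¹ * r ∈ Q := by
    intro r hr
    obtain ⟨v, hv, q, hq, rfl⟩ := R_eq h hr
    exact ⟨v, hv, by rwa [inv_mul_cancel_left]⟩
  have hR2 : ∀ r ∈ R, ∃ v ∈ V, v⁻¹ * r ∈ Mt t Q := by
    intro r hr
    obtain ⟨v, hv, hq⟩ := hR1 _ (conj_mem' (t_R ht₁) hr)
    refine ⟨t * v * t⁻¹, conj_mem ht hv, mem_Mt.2 ?_⟩
    rwa [show t⁻¹ * ((t * v * t⁻¹)⁻¹ * r) * t = v⁻¹ * (t⁻¹ * r * t) by group]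
  have hR3 : ∀ r ∈ R, ∃ m ∈ Mt t M, m⁻¹ * r ∈ Q :=
    cover hQR hRQ h.V_le (Mt_le_R h ht₁) h.V_card (by rw [card_Mt, h.M_card]) h.V₁_card h.V₁_le
      hV₁Q (fun x hx hxQ => inter' h ht₁ hnc hx hxQ) hR1
  have hR4 : ∀ r ∈ R, ∃ m ∈ M, m⁻¹ * r ∈ Mt t Q :=
    cover hQtR hRQt h.V_le hMR h.V_card h.M_card h.V₁_card h.V₁_le hV₁Qt
      (fun x hx hxQ => inter h ht₁ hnc hx hxQ) hR2
  -- `V ∩ Q₁^t = V₁`
  have hVQt : ∀ v ∈ V, v ∈ Mt t Q → v ∈ V₁ := fun v hv hvq =>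
    (conj_mem_iff ht₁).1 ((V_Q h (conj_mem' ht hv)).1 (mem_Mt.1 hvq))
  -- squares
  have hsq1 : ∀ q ∈ Q, ∃ k ∈ Q, k ∈ Mt t Q ∧ q * q = k * k := by
    intro q hq
    obtain ⟨m, hm, hk⟩ := hR4 q (hQR hq)
    have hk' : m⁻¹ * q ∈ Q := mul_mem (inv_mem (M_le_Q h hm)) hq
    refine ⟨m⁻¹ * q, hk', hk, ?_⟩
    have h1 := ((mem_Q h).1 hq).2 m hm
    rw [M_inv h hm]
    calc q * q = (m * m) * (q * q) := by rw [h.M_sq m hm, one_mul]
      _ = m * (m * q) * q := by group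
      _ = m * (q * m) * q := by rw [h1]
      _ = _ := by group
  have hsq2 : ∀ q ∈ Mt t Q, ∃ k ∈ Q, k ∈ Mt t Q ∧ q * q = k * k := by
    intro q hq
    obtain ⟨m, hm, hk⟩ := hR3 q (hQtR hq)
    have hk' : m⁻¹ * q ∈ Mt t Q := mul_mem (inv_mem (hMtQt hm)) hq
    refine ⟨m⁻¹ * q, hk, hk', ?_⟩
    have h1 := ((mem_Qt h ht₁).1 hq).2 m hm
    have hmm : m * m = 1 := by
      have h2 := h.M_sq _ (mem_Mt.1 hm)
      calc m * m = t * (t⁻¹ * m * t * (t⁻¹ * m * t)) * t⁻¹ := by group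
        _ = 1 := by rw [h2]; group
    rw [inv_eq_of_mul_eq_one_left hmm]
    calc q * q = (m * m) * (q * q) := by rw [hmm, one_mul]
      _ = m * (m * q) * q := by group
      _ = m * (q * m) * q := by rw [h1]
      _ = _ := by group
  by_cases htriv : ∀ q ∈ Q, q * q = 1
  · -- all squares trivial
    obtain ⟨v, hv, hv'⟩ := exists_V h
    obtain ⟨m', hm', hq⟩ := hR3 v (h.V_le hv)
    obtain ⟨m, hm, hk⟩ := hR4 _ (hQR hq)
    have hk' : m⁻¹ * (m'⁻¹ * v) ∈ Q := mul_mem (inv_mem (M_le_Q h hm)) hq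
    set k := m⁻¹ * (m'⁻¹ * v) with hkdef
    have hvk : v = m' * m * k := by rw [hkdef]; group
    have hkm : k * m = m * k := ((mem_Q h).1 hk').2 m hm
    have hkm' : k * m' = m' * k := ((mem_Qt h ht₁).1 hk).2 m' hm'
    have hkk := htriv k hk'
    have hmm : m * m = 1 := h.M_sq m hm
    have hmm' : m' * m' = 1 := by
      have h2 := h.M_sq _ (mem_Mt.1 hm')
      calc m' * m' = t * (t⁻¹ * m' * t * (t⁻¹ * m' * t)) * t⁻¹ := by group
        _ = 1 := by rw [h2]; group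
    have hvv := h.V_sq v hv
    have h1 : m' * m * (m' * m) = 1 := by
      calc m' * m * (m' * m) = m' * m * (m' * m) * (k * k) := by rw [hkk, mul_one]
        _ = m' * m * m' * (m * k) * k := by group
        _ = m' * m * m' * (k * m) * k := by rw [hkm]
        _ = m' * m * (m' * k) * m * k := by group
        _ = m' * m * (k * m') * m * k := by rw [hkm']
        _ = (m' * m * k) * (m' * m * k) := by group
        _ = 1 := by rw [← hvk, hvv]
    have hcomm : m * m' = m' * m := by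
      have h2 : (m' * m)⁻¹ = m' * m := inv_eq_of_mul_eq_one_left h1
      rwa [mul_inv_rev, inv_eq_of_mul_eq_one_left hmm, inv_eq_of_mul_eq_one_left hmm'] at h2
    by_cases hm'1 : m' ∈ V₁
    · apply hv'
      rw [← V_Q h hv, hvk]
      exact mul_mem (mul_mem (hV₁Q hm'1) (M_le_Q h hm)) hk'
    by_cases hm1 : m ∈ V₁
    · apply hv'
      apply hVQt v hv
      rw [hvk]
      exact mul_mem (mul_mem (hMtQt hm') (hV₁Qt hm1)) hk
    apply hm1
    obtain ⟨v', hv'V, q₂, hq₂, hvq⟩ := R_eq h (Mt_le_R h ht₁ hm')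
    refine h.V_M v' hv'V ?_ m hm ?_
    · intro h2
      apply hm'1
      apply inter' h ht₁ hnc hm'
      rw [hvq]
      exact mul_mem (hV₁Q h2) hq₂
    · have h2 : q₂ * m = m * q₂ := ((mem_Q h).1 hq₂).2 m hm
      have h3 : v' = m' * q₂⁻¹ := by rw [hvq]; group
      have h4 : q₂⁻¹ * m = m * q₂⁻¹ := by
        calc q₂⁻¹ * m = q₂⁻¹ * (m * q₂) * q₂⁻¹ := by group
          _ = q₂⁻¹ * (q₂ * m) * q₂⁻¹ := by rw [h2]
          _ = _ := by group
      rw [h3, mul_assoc, h4, ← mul_assoc, ← hcomm, mul_assoc]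
  · -- `U = ⟨squares⟩`
    set U : Subgroup G := closure {x | ∃ q ∈ Q, x = q * q} with hU
    have hUt : U = closure {x | ∃ q ∈ Mt t Q, x = q * q} := by
      apply le_antisymm
      · rw [hU, closure_le]
        rintro _ ⟨q, hq, rfl⟩
        obtain ⟨k, -, hk, hqk⟩ := hsq1 q hq
        rw [hqk]
        exact subset_closure ⟨k, hk, rfl⟩
      · rw [closure_le]
        rintro _ ⟨q, hq, rfl⟩
        obtain ⟨k, hk, -, hqk⟩ := hsq2 q hq
        rw [hqk]
        exact subset_closure ⟨k, hk, rfl⟩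
    have hUQ : U ≤ Q := by
      rw [hU, closure_le]
      rintro _ ⟨q, hq, rfl⟩
      exact mul_mem hq hq
    have hU1 : U ≠ ⊥ := by
      intro h0
      apply htriv
      intro q hq
      have : q * q ∈ U := subset_closure ⟨q, hq, rfl⟩
      rwa [h0, mem_bot] at this
    have hU2 : IsPGroup 2 U := (ZN.isPGroup_o2 _).to_le hUQ
    have hCU : C₁ z M ≤ normalizer (U : Set G) := by
      refine le_normalizer_of fun g hg x hx => ?_
      have h1 : U ≤ U.comap (MulAut.conj g).toMonoidHom := by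
        conv_lhs => rw [hU]
        rw [closure_le]
        rintro _ ⟨q, hq, rfl⟩
        change g * (q * q) * g⁻¹ ∈ U
        rw [show g * (q * q) * g⁻¹ = (g * q * g⁻¹) * (g * q * g⁻¹) by group]
        exact subset_closure ⟨_, conj_mem (C₁_norm_Q h hg) hq, rfl⟩
      exact h1 hx
    have htU : t ∈ normalizer (U : Set G) := by
      refine mem_normalizer_of (fun x hx => ?_) fun x hx => ?_
      · have h1 : U ≤ U.comap (MulAut.conj t).toMonoidHom := by
          conv_lhs => rw [hU]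
          rw [closure_le]
          rintro _ ⟨q, hq, rfl⟩
          change t * (q * q) * t⁻¹ ∈ U
          rw [show t * (q * q) * t⁻¹ = (t * q * t⁻¹) * (t * q * t⁻¹) by group, hUt]
          exact subset_closure ⟨_, mem_Mt_of hq, rfl⟩
        exact h1 hx
      · have h1 : U ≤ U.comap (MulAut.conj t⁻¹).toMonoidHom := by
          conv_lhs => rw [hUt]
          rw [closure_le]
          rintro _ ⟨q, hq, rfl⟩
          change t⁻¹ * (q * q) * t⁻¹⁻¹ ∈ U
          rw [show t⁻¹ * (q * q) * t⁻¹⁻¹ = (t⁻¹ * q * t) * (t⁻¹ * q * t) by group]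
          exact subset_closure ⟨_, mem_Mt.1 hq, rfl⟩
        have h2 := h1 hx
        change t⁻¹ * x * t⁻¹⁻¹ ∈ U at h2
        rwa [inv_inv] at h2
    set L := normalizer (U : Set G) with hL
    have hSL : (S : Subgroup G) ≤ L := (S_le_C₁ h).trans hCU
    have hloc : IsLoc (S : Subgroup G) L := isLoc_normalizer S hU2 hU1 hSL
    set A := o2 L ⊓ centralizer (o2 L : Set G) with hA
    have hAn : ∀ g ∈ L, ∀ x ∈ A, g * x * g⁻¹ ∈ A := by
      intro g hg x hx
      obtain ⟨hx1, hx2⟩ := mem_inf.1 hx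
      have h1 := ZN.le_normalizer_o2 L hg
      exact mem_inf.2 ⟨conj_mem h1 hx1, conj_mem (norm_cent h1) hx2⟩
    have hzA : z ∈ A := by
      have h1 : z ∈ (S : Subgroup G) ⊓ centralizer ((S : Subgroup G) : Set G) := by
        have h3 : zc (S : Subgroup G) ≤ (S : Subgroup G) ⊓ centralizer ((S : Subgroup G) : Set G) :=
          (closure_le _).2 fun x hx => hx.1
        exact h3 (by rw [h.zc_eq]; exact mem_zpowers z)
      obtain ⟨hz1, hz2⟩ := mem_inf.1 h1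
      have h4 : z ∈ centralizer (o2 L : Set G) := centralizer_le (hloc.o2_le S) hz2
      exact mem_inf.2 ⟨hloc.char2 S h.char2 (mem_inf.2 ⟨hSL hz1, h4⟩), h4⟩
    have hwA : t * z * t⁻¹ ∈ A := hAn t htU z hzA
    have hw : t * z * t⁻¹ ∈ V₁ := conj_mem ht₁ h.z_mem
    have hw1 : t * z * t⁻¹ ≠ 1 := fun h1 => h.z_ne (by simpa using h1)
    have hMA : M ≤ A := by
      intro m hm
      by_cases hem : e m = 0
      · rcases h.e_ker m hm hem with rfl | rfl
        · exact one_mem _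
        · exact hzA
      · obtain ⟨g, hg, hg'⟩ := tran h (h.V₁_le_M hw) (e_ne h (h.V₁_le_M hw) hw1 htz) hem
        have hgC := J_le_C₁ h hg
        have h1 := hAn g (hCU hgC) _ hwA
        rcases e_eq h (conj_mem hgC.2 (h.V₁_le_M hw)) hm hg' with h2 | h2
        · rw [h2]; exact h1
        · rw [h2]; exact mul_mem h1 hzA
    obtain ⟨m, hm, m', hm', hmm⟩ := hnc
    apply hmm
    have h1 := hAn t htU _ (hMA (mem_Mt.1 hm'))
    rw [show t * (t⁻¹ * m' * t) * t⁻¹ = m' by group] at h1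
    exact cent_iff.1 (mem_inf.1 (hMA hm)).2 m' (mem_inf.1 h1).1

end one

/-- **Step (6)**: some `t ∈ N(V) ∩ N(V₁) ∩ N(M)` moves `z`. -/
theorem step6 (h : SixIn S z V V₁ M e) : ∃ t ∈ normalizer (M : Set G), t ∈ normalizer (V₁ : Set G) ∧
    t * z * t⁻¹ ≠ z := by
  obtain ⟨t, ht, ht₁, htz⟩ := h.tor
  refine ⟨t, ?_, ht₁, htz⟩
  have h1 := case_ii h ht ht₁ htz
  have h2 : M ≤ Mt t M := by
    by_contra hne
    exact case_i h ht₁ h1 hne
  have h3 : M = Mt t M := Subgroup.eq_of_le_of_card_ge h2 (by rw [card_Mt])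
  refine mem_normalizer_of (fun x hx => ?_) fun x hx => ?_
  · have := mem_Mt_of (t := t) hx
    rwa [← h3] at this
  · rw [h3] at hx
    exact mem_Mt.1 hx

end Cfsg.Agent.Omega.NO1.Nat.SixC

end

section


/-!
# THEOREM NAT (#13408), step (7): general lemmas

* `fixmod` : fixed points of a `p`-element on an invariant set;
* `orb` : orbit-stabiliser for conjugation;
* `exists_pel` : `p ∣ |B : A|` gives a `p`-element of `B` outside `A`;
* `rank_of` : a group with Sylow 2-subgroup `S ⊵ M = 2⁴`, `|S/M| ≤ 8`, `M` without transvections, `S/M` not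
  elementary abelian, has sectional 2-rank at most 4.
-/

set_option autoImplicit false
set_option linter.unusedSectionVars false

namespace Cfsg.Agent.Omega.NO1.Nat.SevenA

open Subgroup Cfsg
open Cfsg.Agent.Omega.NO1.Nat.SixA
open Cfsg.Agent.TwoFusion.SectionalRank (ElemSection sectionalPRankLE_iff exists_sylow_section
  card_eq_relIndex_mul)

variable {G : Type*} [Group G]

/-- Fixed points of a `p`-element on an invariant set. -/
theorem fixmod [Finite G] {p : ℕ} [Fact p.Prime] {f : G} {k : ℕ} (hf : f ^ p ^ k = 1) (X : Set G)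
    (hX : ∀ x ∈ X, f * x * f⁻¹ ∈ X) : X.ncard ≡ {x ∈ X | f * x = x * f}.ncard [MOD p] := by
  have hX' : ∀ g ∈ zpowers f, ∀ x ∈ X, g * x * g⁻¹ ∈ X := by
    intro g hg
    rw [← mem_powers_iff_mem_zpowers] at hg
    obtain ⟨n, rfl⟩ := hg
    dsimp only
    induction n with
    | zero => intro x hx; simpa using hx
    | succ n ih =>
      intro x hx
      have h1 := hX _ (ih x hx)
      rwa [show f * (f ^ n * x * (f ^ n)⁻¹) * f⁻¹ = f ^ (n + 1) * x * (f ^ (n + 1))⁻¹ by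
        rw [pow_succ']; group] at h1
  let act : MulAction (zpowers f) X :=
    { smul := fun g x => ⟨g * x * (g : G)⁻¹, hX' g g.2 x x.2⟩
      one_smul := fun x => Subtype.ext (by
        change ((1 : zpowers f) : G) * x * ((1 : zpowers f) : G)⁻¹ = x
        simp)
      mul_smul := fun s t x => Subtype.ext (by
        change ((s * t : zpowers f) : G) * x * ((s * t : zpowers f) : G)⁻¹ =
          s * (t * x * (t : G)⁻¹) * (s : G)⁻¹
        push_cast
        group) }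
  have hsmul : ∀ (g : zpowers f) (x : X), ((g • x : X) : G) = g * x * (g : G)⁻¹ := fun g x => rfl
  have hp : IsPGroup p (zpowers f) := by
    rintro ⟨g, hg⟩
    refine ⟨k, Subtype.ext ?_⟩
    obtain ⟨n, rfl⟩ := mem_zpowers_iff.1 hg
    change (f ^ n) ^ p ^ k = 1
    rw [← zpow_natCast, ← zpow_mul, mul_comm, zpow_mul, zpow_natCast, hf, one_zpow]
  have h1 := hp.card_modEq_card_fixedPoints X
  have h2 : Nat.card (MulAction.fixedPoints (zpowers f) X) = {x ∈ X | f * x = x * f}.ncard := by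
    have h3 : (Subtype.val '' (MulAction.fixedPoints (zpowers f) X) : Set G) =
        {x ∈ X | f * x = x * f} := by
      ext y
      constructor
      · rintro ⟨x, hx, rfl⟩
        refine ⟨x.2, ?_⟩
        have h4 := congrArg Subtype.val (hx ⟨f, mem_zpowers f⟩)
        rw [hsmul] at h4
        exact mul_inv_eq_iff_eq_mul.1 h4
      · rintro ⟨hy, hy'⟩
        refine ⟨⟨y, hy⟩, fun g => Subtype.ext ?_, rfl⟩
        rw [hsmul]
        obtain ⟨n, hn⟩ := mem_zpowers_iff.1 g.2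
        have h5 : Commute (g : G) y := by
          rw [← hn]
          exact (show Commute f y from hy').zpow_left n
        change (g : G) * y * (g : G)⁻¹ = y
        rw [h5.eq]; group
    rw [← h3, Set.ncard_image_of_injective _ Subtype.val_injective]
    rfl
  rw [← h2]
  exact h1

/-- Orbit-stabiliser for conjugation. -/
theorem orb [Finite G] (X : Subgroup G) (a : G) :
    (centralizer ({a} : Set G)).relIndex X = {y | ∃ x ∈ X, x * a * x⁻¹ = y}.ncard := by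
  let act : MulAction X G := MulAction.compHom G ((MulAut.conj : G →* MulAut G).comp X.subtype)
  have hsmul : ∀ (x : X) (y : G), x • y = x * y * (x : G)⁻¹ := fun x y => rfl
  have h1 : MulAction.stabilizer X a = (centralizer ({a} : Set G)).subgroupOf X := by
    ext x
    rw [MulAction.mem_stabilizer_iff, mem_subgroupOf, mem_centralizer_singleton_iff, hsmul,
      mul_inv_eq_iff_eq_mul]
  have h2 : {y | ∃ x ∈ X, x * a * x⁻¹ = y} = MulAction.orbit X a := by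
    ext y
    constructor
    · rintro ⟨x, hx, rfl⟩
      exact ⟨⟨x, hx⟩, rfl⟩
    · rintro ⟨x, rfl⟩
      exact ⟨x, x.2, rfl⟩
  rw [relIndex, ← h1, MulAction.index_stabilizer, h2]

/-- `p ∣ |B : A|` gives a `p`-element of `B` outside `A`. -/
theorem exists_pel [Finite G] {p : ℕ} [hp : Fact p.Prime] {A B : Subgroup G} (hAB : p ∣ A.relIndex B) :
    ∃ b ∈ B, b ∉ A ∧ ∃ k, b ^ p ^ k = 1 := by
  obtain ⟨P⟩ : Nonempty (Sylow p B) := inferInstance
  by_contra hcon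
  push Not at hcon
  have h1 : (P : Subgroup B) ≤ A.subgroupOf B := by
    intro x hx
    rw [mem_subgroupOf]
    by_contra hxA
    obtain ⟨k, hk⟩ := P.isPGroup' ⟨x, hx⟩
    refine hcon x x.2 hxA k ?_
    have := congrArg (fun y : P => ((y : B) : G)) hk
    simpa using this
  have h2 : (A.subgroupOf B).index ∣ (P : Subgroup B).index := index_dvd_of_le h1
  exact P.not_dvd_index (hAB.trans h2)

/-- a 2-element of `X ≥ S` is conjugate in `X` to an element of `S` -/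
theorem exists_conj_mem [Finite G] {p : ℕ} [hp : Fact p.Prime] (S : Sylow p G) {X : Subgroup G}
    (hSX : (S : Subgroup G) ≤ X) {c : G} (hc : c ∈ X) {k : ℕ} (hk : c ^ p ^ k = 1) :
    ∃ g ∈ X, g * c * g⁻¹ ∈ (S : Subgroup G) := by
  have h1 : IsPGroup p (zpowers (⟨c, hc⟩ : X)) := by
    rintro ⟨g, hg⟩
    refine ⟨k, Subtype.ext ?_⟩
    obtain ⟨n, rfl⟩ := mem_zpowers_iff.1 hg
    have h2 : (⟨c, hc⟩ : X) ^ p ^ k = 1 := Subtype.ext hk
    change ((⟨c, hc⟩ : X) ^ n) ^ p ^ k = 1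
    rw [← zpow_natCast, ← zpow_mul, mul_comm, zpow_mul, zpow_natCast, h2, one_zpow]
  obtain ⟨P, hP⟩ := h1.exists_le_sylow
  obtain ⟨g, hg⟩ := MulAction.exists_smul_eq X P (S.subtype hSX)
  refine ⟨g, g.2, ?_⟩
  have h3 : (⟨c, hc⟩ : X) ∈ P := hP (mem_zpowers _)
  have h4 : g * ⟨c, hc⟩ * g⁻¹ ∈ ((S.subtype hSX : Sylow p X) : Subgroup X) := by
    rw [← hg, Sylow.coe_subgroup_smul]
    exact Subgroup.smul_mem_pointwise_smul _ (MulAut.conj g) _ h3
  exact h4

theorem sup_dec {X M : Subgroup G} (hX : X ≤ normalizer (M : Set G)) {y : G} (hy : y ∈ M ⊔ X) :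
    ∃ x ∈ X, ∃ m ∈ M, y = x * m := by
  rw [sup_eq_closure] at hy
  induction hy using closure_induction with
  | mem x hx =>
    rcases hx with hx | hx
    · exact ⟨1, one_mem _, x, hx, by simp⟩
    · exact ⟨x, hx, 1, one_mem _, by simp⟩
  | one => exact ⟨1, one_mem _, 1, one_mem _, by simp⟩
  | mul a b _ _ ha hb =>
    obtain ⟨x, hx, m, hm, rfl⟩ := ha
    obtain ⟨x', hx', m', hm', rfl⟩ := hb
    refine ⟨x * x', mul_mem hx hx', x'⁻¹ * m * x' * m', mul_mem (conj_mem' (hX hx') hm) hm', ?_⟩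
    group
  | inv a _ ha =>
    obtain ⟨x, hx, m, hm, rfl⟩ := ha
    refine ⟨x⁻¹, inv_mem hx, x * m⁻¹ * x⁻¹, conj_mem (hX hx) (inv_mem hm), ?_⟩
    group

/-- The rank of a group with Sylow 2-subgroup `S ⊵ M = 2⁴`. -/
theorem rank_of [Finite G] (S : Sylow 2 G) {M : Subgroup G} (hMc : Nat.card M = 16)
    (hSM : (S : Subgroup G) ≤ normalizer (M : Set G))
    (hcomm : ∀ x ∈ M, ∀ y ∈ M, x * y = y * x) (hi : M.relIndex S ≤ 8) (hMS : M ≤ S)
    (htr : ∀ s ∈ (S : Subgroup G), s ∉ M → Nat.card ↥(M ⊓ centralizer ({s} : Set G)) ≤ 4)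
    (hsq : ∃ s ∈ (S : Subgroup G), s * s ∉ M) : SectionalPRankLE 2 4 G := by
  rw [sectionalPRankLE_iff]
  intro X₀ Y₀ h₀
  obtain ⟨X, Y, hXS, hXY, hc⟩ := exists_sylow_section S h₀
  -- enough for `X ≤ S`
  suffices hmain : Nat.card X ≤ 2 ^ 4 * Nat.card Y by
    have h1 : 0 < Nat.card Y := Nat.card_pos
    have h2 : Nat.card X₀ * Nat.card Y ≤ (2 ^ 4 * Nat.card Y₀) * Nat.card Y := by
      rw [hc]
      calc Nat.card X * Nat.card Y₀ ≤ (2 ^ 4 * Nat.card Y) * Nat.card Y₀ :=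
            Nat.mul_le_mul_right _ hmain
        _ = _ := by ring
    exact Nat.le_of_mul_le_mul_right h2 h1
  by_cases hXM : X ≤ M
  · have h1 := Subgroup.card_le_of_le hXM
    have h2 : 0 < Nat.card Y := Nat.card_pos
    rw [hMc] at h1
    omega
  obtain ⟨s, hs, hsM⟩ := SetLike.not_le_iff_exists.1 hXM
  -- `|X ∩ M| ≤ 4 |Y ∩ M|`
  have h1 : Nat.card ↥(M ⊓ X) ≤ 4 * Nat.card ↥(M ⊓ Y) := by
    have hval : ∀ m ∈ M ⊓ X, s * m * s⁻¹ * m⁻¹ ∈ M ⊓ Y := by
      intro m hm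
      obtain ⟨hm1, hm2⟩ := mem_inf.1 hm
      exact mem_inf.2 ⟨mul_mem (conj_mem (hSM (hXS hs)) hm1) (inv_mem hm1), hXY.comm s hs m hm2⟩
    let f : ↥(M ⊓ X) →* ↥(M ⊓ Y) :=
      { toFun := fun m => ⟨s * m * s⁻¹ * (m : G)⁻¹, hval m m.2⟩
        map_one' := by
          apply Subtype.ext; simp
        map_mul' := fun x y => by
          apply Subtype.ext
          have h2 := hcomm _ (mem_inf.1 (hval y y.2)).1 _ (inv_mem (mem_inf.1 x.2).1)
          change s * (x * y) * s⁻¹ * ((x : G) * y)⁻¹ =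
            (s * x * s⁻¹ * (x : G)⁻¹) * (s * y * s⁻¹ * (y : G)⁻¹)
          calc s * (x * y) * s⁻¹ * ((x : G) * y)⁻¹
              = s * x * s⁻¹ * (s * y * s⁻¹ * (y : G)⁻¹ * (x : G)⁻¹) := by group
            _ = s * x * s⁻¹ * ((x : G)⁻¹ * (s * y * s⁻¹ * (y : G)⁻¹)) := by rw [h2]
            _ = _ := by group }
    have hk : Nat.card f.ker ≤ 4 := by
      have h3 : f.ker.map (M ⊓ X).subtype ≤ M ⊓ centralizer ({s} : Set G) := by
        rintro _ ⟨m, hm, rfl⟩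
        refine mem_inf.2 ⟨(mem_inf.1 m.2).1, ?_⟩
        have h4 : s * m * s⁻¹ * (m : G)⁻¹ = 1 := congrArg Subtype.val (MonoidHom.mem_ker.1 hm)
        rw [mem_centralizer_singleton_iff]
        change (m : G) * s = s * m
        calc (m : G) * s = 1 * m * s := by rw [one_mul]
          _ = s * m * s⁻¹ * (m : G)⁻¹ * m * s := by rw [h4]
          _ = s * m := by group
      have h4 := Subgroup.card_le_of_le h3
      rw [Subgroup.card_map_of_injective (M ⊓ X).subtype_injective] at h4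
      exact h4.trans (htr s (hXS hs) hsM)
    have h3 : Nat.card f.ker * Nat.card f.range = Nat.card ↥(M ⊓ X) := by
      rw [← Subgroup.index_ker f]
      exact f.ker.card_mul_index
    rw [← h3]
    exact Nat.mul_le_mul hk (Subgroup.card_le_card_group _)
  -- `|X : X ∩ M| ≤ 4 |Y : Y ∩ M|`
  have h2 : M.relIndex X ≤ 4 * M.relIndex Y := by
    have hne : ∀ A B : Subgroup G, A.relIndex B ≠ 0 := fun A B => index_ne_zero_of_finite (H := A.subgroupOf B)
    have h3 : M.relIndex X ≤ 8 := (relIndex_le_of_le_right hXS (hne _ _)).trans hi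
    by_cases h4 : M.relIndex Y = 1
    · by_contra hlt
      rw [h4] at hlt
      push Not at hlt
      have hYM : Y ≤ M := relIndex_eq_one.1 h4
      have h5 : M.relIndex X ≤ M.relIndex (M ⊔ X) := relIndex_le_of_le_right le_sup_right (hne _ _)
      have h6 : M.relIndex (M ⊔ X) * (M ⊔ X).relIndex S = M.relIndex S :=
        relIndex_mul_relIndex _ _ _ le_sup_left (sup_le hMS hXS)
      have h7 : (M ⊔ X).relIndex S = 1 := by
        have h8 := hne (M ⊔ X) S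
        by_contra h9
        have h10 : 5 * 2 ≤ M.relIndex (M ⊔ X) * (M ⊔ X).relIndex S :=
          Nat.mul_le_mul (by omega) (by omega)
        omega
      obtain ⟨r, hr, hrM⟩ := hsq
      obtain ⟨x, hx, m, hm, rfl⟩ := sup_dec (hXS.trans hSM) (relIndex_eq_one.1 h7 hr)
      apply hrM
      have h8 : x * x ∈ M := by
        have := hXY.pow x hx
        rw [pow_two] at this
        exact hYM this
      have h9 := conj_mem' (hSM (hXS hx)) hm
      have h10 := mul_mem (mul_mem h8 h9) hm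
      rwa [show x * x * (x⁻¹ * m * x) * m = x * m * (x * m) by group] at h10
    · have h5 := hne M Y
      have h6 : 2 ≤ M.relIndex Y := by omega
      omega
  have h5 : Nat.card X = M.relIndex X * Nat.card ↥(M ⊓ X) := by
    have := card_eq_relIndex_mul X (M ⊓ X) inf_le_right
    rwa [inf_relIndex_right] at this
  have h6 : Nat.card Y = M.relIndex Y * Nat.card ↥(M ⊓ Y) := by
    have := card_eq_relIndex_mul Y (M ⊓ Y) inf_le_right
    rwa [inf_relIndex_right] at this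
  rw [h5, h6]
  calc M.relIndex X * Nat.card ↥(M ⊓ X) ≤ (4 * M.relIndex Y) * (4 * Nat.card ↥(M ⊓ Y)) :=
        Nat.mul_le_mul h2 h1
    _ = _ := by ring

end Cfsg.Agent.Omega.NO1.Nat.SevenA

end

section


/-!
# THEOREM NAT (#13408), step (7): `Q₁ = M`

`N = N_G(M)` is transitive on `M^#`, `J_N = ⟨V^N⟩`; a counting argument for the action of `J_N` on a coset of `M`
in `Q₁` gives `Q₁ = M`.
-/

set_option autoImplicit false
set_option linter.unusedSectionVars false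

namespace Cfsg.Agent.Omega.NO1.Nat.SevenB

open Subgroup Cfsg Cfsg.Agent.ZN Cfsg.Agent.Omega.MinPar
open Cfsg.Agent.Omega.NO1.Nat.SixIn (SixIn C₁ J₁)
open Cfsg.Agent.Omega.NO1.Nat.SixA Cfsg.Agent.Omega.NO1.Nat.SixB Cfsg.Agent.Omega.NO1.Nat.SixC
open Cfsg.Agent.Omega.NO1.Nat.SevenA

universe u

variable {G : Type u} [Group G] [Finite G] {S : Sylow 2 G} {z : G} {V V₁ M : Subgroup G}
  {e : G → Fin 3 → ZMod 2}

/-- `J_N = ⟨V^N⟩`, `N = N_G(M)` -/
def JN (V M : Subgroup G) : Subgroup G :=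
  closure {x | ∃ n ∈ normalizer (M : Set G), ∃ v ∈ V, x = n * v * n⁻¹}

section

variable (h : SixIn S z V V₁ M e)
include h

theorem mem_zc {x : G} (hx : x ∈ zc (S : Subgroup G)) : x = 1 ∨ x = z := by
  rw [h.zc_eq] at hx
  obtain ⟨k, rfl⟩ := mem_zpowers_iff.1 hx
  rcases Int.even_or_odd k with hk | hk
  · left
    obtain ⟨j, rfl⟩ := hk
    rw [← two_mul, zpow_mul, zpow_ofNat, pow_two, h.z_sq, one_zpow]
  · right
    obtain ⟨j, rfl⟩ := hk
    rw [zpow_add, zpow_mul, zpow_ofNat, pow_two, h.z_sq, one_zpow, one_mul, zpow_one]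

theorem mem_zc_of {x : G} (hx : x ∈ (S : Subgroup G)) (hx2 : x * x = 1)
    (hc : ∀ s ∈ (S : Subgroup G), s * x = x * s) : x ∈ zc (S : Subgroup G) :=
  subset_closure ⟨mem_inf.2 ⟨hx, cent_iff.2 fun s hs => (hc s hs).symm⟩, by
    rw [pow_two]; exact hx2⟩

theorem V_le_S : V ≤ (S : Subgroup G) := le_of_le_normalizer S (V_isPGroup h) h.S_V

theorem M_le_S : M ≤ (S : Subgroup G) := le_of_le_normalizer S (M_isPGroup h) h.S_M

theorem Q_le_S : o2 (centralizer (M : Set G)) ≤ (S : Subgroup G) :=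
  le_of_le_normalizer S (ZN.isPGroup_o2 _) ((S_le_C₁ h).trans (C₁_norm_Q h))

/-- `S` moves `V₁/⟨z⟩` -/
theorem S_moves {w : G} (hw : w ∈ V₁) (h1 : w ≠ 1) (h2 : w ≠ z) :
    ∃ s ∈ (S : Subgroup G), s * w * s⁻¹ = w * z := by
  by_contra hcon
  push Not at hcon
  have h3 : ∀ s ∈ (S : Subgroup G), s * w = w * s := by
    intro s hs
    rcases V₁_cases h hw h1 h2 (conj_mem (h.S_V₁ hs) hw) with h4 | h4 | h4 | h4
    · exact absurd (conj_eq_one_iff.1 h4) h1
    · exfalso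
      apply h2
      have h5 := mem_centralizer_singleton_iff.1 (S_le_z h hs)
      calc w = s⁻¹ * (s * w * s⁻¹) * s := by group
        _ = s⁻¹ * (z * s) := by rw [h4]; group
        _ = s⁻¹ * (s * z) := by rw [h5]
        _ = z := by group
    · exact mul_inv_eq_iff_eq_mul.1 h4
    · exact absurd h4 (hcon s hs)
  rcases mem_zc h (mem_zc_of h (V_le_S h (h.V₁_le hw)) (h.V_sq w (h.V₁_le hw)) h3) with h4 | h4
  · exact h1 h4
  · exact h2 h4

/-! ### `J_N` -/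

theorem V_le_N : V ≤ normalizer (M : Set G) := fun _ hv => (V_le_C₁ h hv).2

theorem JN_le : JN V M ≤ normalizer (M : Set G) := by
  rw [JN, closure_le]
  rintro _ ⟨n, hn, v, hv, rfl⟩
  exact mul_mem (mul_mem hn (V_le_N h hv)) (inv_mem hn)

omit h [Finite G] in
theorem N_norm_JN : normalizer (M : Set G) ≤ normalizer (JN V M : Set G) := by
  refine le_normalizer_of fun g hg x hx => ?_
  have h1 : JN V M ≤ (JN V M).comap (MulAut.conj g).toMonoidHom := by
    conv_lhs => rw [JN]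
    rw [closure_le]
    rintro _ ⟨n, hn, v, hv, rfl⟩
    change g * (n * v * n⁻¹) * g⁻¹ ∈ JN V M
    exact subset_closure ⟨g * n, mul_mem hg hn, v, hv, by group⟩
  exact h1 hx

omit h [Finite G] in
theorem J₁_le_JN : J₁ z V M ≤ JN V M := by
  rw [J₁, closure_le]
  rintro _ ⟨c, hc, v, hv, rfl⟩
  exact subset_closure ⟨c, hc.2, v, hv, rfl⟩

omit h [Finite G] in
theorem V_le_JN : V ≤ JN V M := fun v hv => subset_closure ⟨1, one_mem _, v, hv, by group⟩

omit h [Finite G] in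
theorem N_norm_D : normalizer (M : Set G) ≤ normalizer (centralizer (M : Set G) : Set G) := norm_cent

omit h in
theorem N_norm_Q : normalizer (M : Set G) ≤ normalizer (o2 (centralizer (M : Set G)) : Set G) :=
  fun _ hg => ZN.normalizer_le_normalizer_o2 _ (norm_cent hg)

/-- `[D₁,J_N] ≤ Q₁` -/
theorem comm_D : ∀ j ∈ JN V M, ∀ d ∈ centralizer (M : Set G),
    d * j * d⁻¹ * j⁻¹ ∈ o2 (centralizer (M : Set G)) := by
  refine comm_closure ?_ ?_
  · rintro _ ⟨n, hn, v, hv, rfl⟩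
    exact N_norm_Q (mul_mem (mul_mem hn (V_le_N h hv)) (inv_mem hn))
  · rintro _ ⟨n, hn, v, hv, rfl⟩ d hd
    have h1 := conj_mem' (N_norm_D hn) hd
    have h2 : n⁻¹ * d * n * v * (n⁻¹ * d * n)⁻¹ * v⁻¹ ∈ o2 (centralizer (M : Set G)) := by
      rw [Q_eq h]
      refine mem_inf.2 ⟨?_, ?_⟩
      · exact mul_mem (conj_mem (ZN.le_normalizer_o2 _ (D_le_H h h1)) (h.V_le hv))
          (inv_mem (h.V_le hv))
      · have h3 := conj_mem (N_norm_D (V_le_N h hv)) (inv_mem h1)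
        have h4 := mul_mem h1 h3
        rwa [show n⁻¹ * d * n * (v * (n⁻¹ * d * n)⁻¹ * v⁻¹) =
          n⁻¹ * d * n * v * (n⁻¹ * d * n)⁻¹ * v⁻¹ by group] at h4
    have h3 := conj_mem (N_norm_Q hn) h2
    rwa [show n * (n⁻¹ * d * n * v * (n⁻¹ * d * n)⁻¹ * v⁻¹) * n⁻¹ =
      d * (n * v * n⁻¹) * d⁻¹ * (n * v * n⁻¹)⁻¹ by group] at h3

/-- `[Q₁,J_N] ≤ M` -/
theorem comm_Q : ∀ j ∈ JN V M, ∀ q ∈ o2 (centralizer (M : Set G)), q * j * q⁻¹ * j⁻¹ ∈ M := by
  refine comm_closure ?_ ?_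
  · rintro _ ⟨n, hn, v, hv, rfl⟩
    exact mul_mem (mul_mem hn (V_le_N h hv)) (inv_mem hn)
  · rintro _ ⟨n, hn, v, hv, rfl⟩ q hq
    have h1 := conj_mem' (N_norm_Q hn) hq
    have h2 := inv_mem (h.quad v hv _ (mem_R_of_Q h h1))
    have h3 := conj_mem hn (h.V₁_le_M h2)
    rwa [show n * (v * (n⁻¹ * q * n) * v⁻¹ * (n⁻¹ * q * n)⁻¹)⁻¹ * n⁻¹ =
      q * (n * v * n⁻¹) * q⁻¹ * (n * v * n⁻¹)⁻¹ by group] at h3

/-- `N` is transitive on `M^#` -/
theorem N_tran {m : G} (hm : m ∈ M) (hm1 : m ≠ 1) :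
    ∃ n ∈ normalizer (M : Set G), n * z * n⁻¹ = m := by
  obtain ⟨t, htM, ht₁, htz⟩ := step6 h
  have hw : t * z * t⁻¹ ∈ V₁ := conj_mem ht₁ h.z_mem
  have hw1 : t * z * t⁻¹ ≠ 1 := fun h1 => h.z_ne (conj_eq_one_iff.1 h1)
  by_cases hem : e m = 0
  · rcases h.e_ker m hm hem with h1 | h1
    · exact absurd h1 hm1
    · exact ⟨1, one_mem _, by rw [h1]; group⟩
  · obtain ⟨g, hg, hg'⟩ := tran h (h.V₁_le_M hw) (e_ne h (h.V₁_le_M hw) hw1 htz) hem
    have hgC := J_le_C₁ h hg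
    rcases e_eq h (conj_mem hgC.2 (h.V₁_le_M hw)) hm hg' with h2 | h2
    · exact ⟨g * t, mul_mem hgC.2 htM, by rw [h2]; group⟩
    · obtain ⟨s, hs, hs'⟩ := S_moves h hw hw1 htz
      refine ⟨g * s * t, mul_mem (mul_mem hgC.2 (h.S_M hs)) htM, ?_⟩
      have h3 := C₁_z h hgC
      calc g * s * t * z * (g * s * t)⁻¹ = g * (s * (t * z * t⁻¹) * s⁻¹) * g⁻¹ := by group
        _ = g * (t * z * t⁻¹ * z) * g⁻¹ := by rw [hs']
        _ = g * (t * z * t⁻¹) * g⁻¹ * (g * z * g⁻¹) := by group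
        _ = m := by rw [h3, h2]

/-- `C_M(J_N) = 1` -/
theorem fix_JN {m : G} (hm : m ∈ M) (hc : ∀ j ∈ JN V M, j * m = m * j) : m = 1 := by
  by_contra hm1
  obtain ⟨n, hn, hnm⟩ := N_tran h hm hm1
  have h1 : ∀ m' ∈ M, ∀ j ∈ JN V M, j * m' = m' * j := by
    intro m' hm' j hj
    by_cases h1 : m' = 1
    · rw [h1]; simp
    obtain ⟨n', hn', hnm'⟩ := N_tran h hm' h1
    have hk : n * n'⁻¹ ∈ normalizer (M : Set G) := mul_mem hn (inv_mem hn')
    have h2 := hc _ (conj_mem (N_norm_JN hk) hj)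
    have h3 : (n * n'⁻¹)⁻¹ * m * (n * n'⁻¹) = m' := by rw [← hnm, ← hnm']; group
    calc j * m' = (n * n'⁻¹)⁻¹ * (n * n'⁻¹ * j * (n * n'⁻¹)⁻¹ * m) * (n * n'⁻¹) := by
          rw [← h3]; group
      _ = (n * n'⁻¹)⁻¹ * (m * (n * n'⁻¹ * j * (n * n'⁻¹)⁻¹)) * (n * n'⁻¹) := by rw [h2]
      _ = m' * j := by rw [← h3]; group
  obtain ⟨v, hv, hv'⟩ := exists_V h
  obtain ⟨m₀, hm₀, hm₀'⟩ := exists_M h
  exact hm₀' (h.V_M v hv hv' m₀ hm₀ (h1 m₀ hm₀ v (V_le_JN hv)))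

/-! ### indices -/

/-- `|N : C_N(z)| = 15` -/
theorem relIndex_z : (centralizer ({z} : Set G)).relIndex (normalizer (M : Set G)) = 15 := by
  rw [orb]
  have h1 : {y | ∃ x ∈ normalizer (M : Set G), x * z * x⁻¹ = y} = (M : Set G) \ {1} := by
    ext y
    constructor
    · rintro ⟨x, hx, rfl⟩
      refine ⟨conj_mem hx (z_mem_M h), fun h2 => h.z_ne (conj_eq_one_iff.1 h2)⟩
    · rintro ⟨hy, hy1⟩
      exact N_tran h hy hy1
  rw [h1, Set.ncard_sdiff_singleton_of_mem (one_mem M)]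
  have h2 : (M : Set G).ncard = 16 := by rw [← h.M_card]; rfl
  rw [h2]

/-- `|N : D₁| = 2520` -/
theorem relIndex_DN : (centralizer (M : Set G)).relIndex (normalizer (M : Set G)) = 2520 := by
  have h1 := relIndex_mul_relIndex (centralizer (M : Set G)) (C₁ z M) (normalizer (M : Set G))
    (D_le_C₁ h) inf_le_right
  rw [relIndex_D h, C₁, inf_relIndex_right, relIndex_z h] at h1
  rw [← h1]

omit h [Finite G] in
/-- `|J : C ∩ J|` divides `|A : C|` for a normal subgroup `J` -/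
theorem relIndex_dvd_of_normal {A : Type*} [Group A] [Finite A] (J C : Subgroup A) [J.Normal] :
    C.relIndex J ∣ C.index := by
  have h1 : Nat.card J * J.relIndex (J ⊔ C) = Nat.card ↥(J ⊔ C) := by
    have := relIndex_mul_relIndex ⊥ J (J ⊔ C) bot_le le_sup_left
    rwa [relIndex_bot_left, relIndex_bot_left] at this
  have h2 : Nat.card ↥(J ⊓ C) * J.relIndex C = Nat.card C := by
    have := relIndex_mul_relIndex ⊥ (J ⊓ C) C bot_le inf_le_right
    rwa [relIndex_bot_left, relIndex_bot_left, inf_relIndex_right] at this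
  have h3 : Nat.card ↥(J ⊓ C) * C.relIndex J = Nat.card J := by
    have := relIndex_mul_relIndex ⊥ (J ⊓ C) J bot_le inf_le_left
    rwa [relIndex_bot_left, relIndex_bot_left, inf_relIndex_left] at this
  have h4 : Nat.card C * C.relIndex (J ⊔ C) = Nat.card ↥(J ⊔ C) := by
    have := relIndex_mul_relIndex ⊥ C (J ⊔ C) bot_le le_sup_right
    rwa [relIndex_bot_left, relIndex_bot_left] at this
  rw [relIndex_sup_left] at h1
  have h5 : Nat.card C * C.relIndex (J ⊔ C) = Nat.card C * C.relIndex J := by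
    rw [h4, ← h1, ← h3]
    conv_rhs => rw [← h2]
    ring
  have h6 := Nat.eq_of_mul_eq_mul_left Nat.card_pos h5
  rw [← h6]
  exact relIndex_dvd_index_of_le le_sup_right

omit h [Finite G] in
theorem relIndex_dvd_of_norm [Finite G] {J C N : Subgroup G} (hJ : J ≤ N)
    (hN : N ≤ normalizer (J : Set G)) : C.relIndex J ∣ C.relIndex N := by
  have h1 : (J.subgroupOf N).Normal := (normal_subgroupOf_iff_le_normalizer hJ).2 hN
  have h2 := relIndex_dvd_of_normal (J.subgroupOf N) (C.subgroupOf N)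
  rwa [relIndex_subgroupOf hJ] at h2

omit h [Finite G] in
theorem card_vec_ne : {u : Vec | u ≠ 0}.ncard = 7 := by
  rw [Set.ncard_eq_toFinset_card']
  decide

/-- `|J_N : C(z)| = 15` -/
theorem relIndex_zJ : (centralizer ({z} : Set G)).relIndex (JN V M) = 15 := by
  obtain ⟨t, htM, ht₁, htz⟩ := step6 h
  have hw : t * z * t⁻¹ ∈ V₁ := conj_mem ht₁ h.z_mem
  have hw1 : t * z * t⁻¹ ≠ 1 := fun h1 => h.z_ne (conj_eq_one_iff.1 h1)
  have h1 : (centralizer ({z} : Set G)).relIndex (JN V M) ∣ 15 := by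
    rw [← relIndex_z h]
    exact relIndex_dvd_of_norm (JN_le h) N_norm_JN
  have h2 : 7 ≤ (centralizer ({z} : Set G)).relIndex (JN V M) := by
    rw [orb, ← card_vec_ne]
    have h3 : {u : Vec | u ≠ 0} ⊆
        (fun y => e (t * y * t⁻¹)) '' {y | ∃ x ∈ JN V M, x * z * x⁻¹ = y} := by
      intro u hu
      obtain ⟨g, hg, hg'⟩ := tran h (h.V₁_le_M hw) (e_ne h (h.V₁_le_M hw) hw1 htz) hu
      refine ⟨t⁻¹ * g * t * z * (t⁻¹ * g * t)⁻¹, ⟨t⁻¹ * g * t,
        conj_mem' (N_norm_JN htM) (J₁_le_JN hg), rfl⟩, ?_⟩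
      dsimp only
      rw [← hg']
      congr 1
      group
    exact (Set.ncard_le_ncard h3 (Set.toFinite _)).trans (Set.ncard_image_le (Set.toFinite _))
  obtain ⟨k, hk⟩ := h1
  have h3 : k < 3 := by
    by_contra h3
    have : 7 * 3 ≤ (centralizer ({z} : Set G)).relIndex (JN V M) * k := Nat.mul_le_mul h2 (by omega)
    omega
  interval_cases k <;> omega

/-- a 5-element of `J_N` without fixed points on `M` -/
theorem exists_five : ∃ f ∈ JN V M, (∃ k, f ^ 5 ^ k = 1) ∧ f ∉ centralizer (M : Set G) := by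
  have hp : Fact (Nat.Prime 5) := ⟨by norm_num⟩
  obtain ⟨f, hf, hf', hk⟩ := exists_pel (p := 5) (A := centralizer ({z} : Set G)) (B := JN V M)
    (by rw [relIndex_zJ h]; norm_num)
  refine ⟨f, hf, hk, fun h1 => hf' ?_⟩
  exact H_le_z h (D_le_H h h1)

/-- a 7-element of `J_N` -/
theorem exists_seven : ∃ f ∈ JN V M, (∃ k, f ^ 7 ^ k = 1) ∧ f ∉ centralizer (M : Set G) := by
  have hp : Fact (Nat.Prime 7) := ⟨by norm_num⟩
  have h1 : (centralizer (M : Set G)).relIndex (J₁ z V M) = 168 := by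
    rw [← relIndex_subgroupOf (J_le_C₁ h), ← ker_act h, relIndex_ker]
    have h2 : ((J₁ z V M).subgroupOf (C₁ z M)).map (act h) = ⊤ := by
      rw [eq_top_iff]
      intro A _
      obtain ⟨g, hg, hg'⟩ := full_mat h A.1 (by
        intro h0
        have h1 := (Matrix.isUnit_iff_isUnit_det A.1).1 A.isUnit
        rw [h0] at h1
        exact not_isUnit_zero h1)
      refine ⟨⟨g, J_le_C₁ h hg⟩, hg, Units.ext (mat_ext h fun m hm => ?_)⟩
      rw [act_apply h _ hm]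
      exact hg' m hm
    rw [h2, Subgroup.card_top, card_gl h]
  obtain ⟨f, hf, hf', hk⟩ := exists_pel (p := 7) (A := centralizer (M : Set G)) (B := J₁ z V M)
    (by rw [h1]; norm_num)
  exact ⟨f, J₁_le_JN hf, hk, hf'⟩

/-- `|C_M(f)|` for a `p`-element -/
theorem card_fix {p : ℕ} [Fact p.Prime] {f : G} {k : ℕ} (hf : f ^ p ^ k = 1)
    (hN : f ∈ normalizer (M : Set G)) (hD : f ∉ centralizer (M : Set G)) :
    16 ≡ Nat.card ↥(M ⊓ centralizer ({f} : Set G)) [MOD p] ∧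
      ∃ j < 4, Nat.card ↥(M ⊓ centralizer ({f} : Set G)) = 2 ^ j := by
  have h1 := fixmod hf (M : Set G) fun x hx => conj_mem hN hx
  have h2 : {x ∈ (M : Set G) | f * x = x * f} = ((M ⊓ centralizer ({f} : Set G) : Subgroup G) : Set G) := by
    ext x
    constructor
    · rintro ⟨hx, hx'⟩
      exact mem_inf.2 ⟨hx, mem_centralizer_singleton_iff.2 hx'.symm⟩
    · intro hx
      obtain ⟨hx, hx'⟩ := mem_inf.1 hx
      exact ⟨hx, (mem_centralizer_singleton_iff.1 hx').symm⟩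
  have h3 : (M : Set G).ncard = 16 := by rw [← h.M_card]; rfl
  rw [h2, h3] at h1
  refine ⟨h1, ?_⟩
  have h4 : Nat.card ↥(M ⊓ centralizer ({f} : Set G)) ∣ 2 ^ 4 := by
    have := Subgroup.card_dvd_of_le (inf_le_left : M ⊓ centralizer ({f} : Set G) ≤ M)
    rwa [h.M_card] at this
  obtain ⟨j, hj, hj'⟩ := (Nat.dvd_prime_pow Nat.prime_two).1 h4
  refine ⟨j, lt_of_le_of_ne hj fun h5 => hD ?_, hj'⟩
  have h6 : M ⊓ centralizer ({f} : Set G) = M :=
    Subgroup.eq_of_le_of_card_ge inf_le_left (by rw [hj', h5, h.M_card]; norm_num)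
  refine cent_iff.2 fun m hm => ?_
  rw [← h6] at hm
  exact (mem_centralizer_singleton_iff.1 (mem_inf.1 hm).2).symm

/-- a 2-element of `J_N ∩ D₁` is in `Q₁` -/
theorem mem_Q_of_two {a : G} (ha : a ∈ JN V M) (haD : a ∈ centralizer (M : Set G)) {k : ℕ}
    (hk : a ^ 2 ^ k = 1) : a ∈ o2 (centralizer (M : Set G)) := by
  have h1 : IsPGroup 2 (zpowers a) := by
    rintro ⟨g, hg⟩
    refine ⟨k, Subtype.ext ?_⟩
    obtain ⟨n, rfl⟩ := mem_zpowers_iff.1 hg
    change (a ^ n) ^ 2 ^ k = 1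
    rw [← zpow_natCast, ← zpow_mul, mul_comm, zpow_mul, zpow_natCast, hk, one_zpow]
  have haN : zpowers a ≤ normalizer (o2 (centralizer (M : Set G)) : Set G) := by
    rw [zpowers_le]
    exact ZN.le_normalizer_o2 _ haD
  have h2 : IsPGroup 2 (zpowers a ⊔ o2 (centralizer (M : Set G)) : Subgroup G) :=
    IsPGroup.to_sup_of_normal_right' h1 (ZN.isPGroup_o2 _) haN
  have h3 : zpowers a ⊔ o2 (centralizer (M : Set G)) ≤ centralizer (M : Set G) :=
    sup_le (by rwa [zpowers_le]) (ZN.o2_le _)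
  have h4 : centralizer (M : Set G) ≤
      normalizer ((zpowers a ⊔ o2 (centralizer (M : Set G)) : Subgroup G) : Set G) := by
    refine le_normalizer_of fun d hd x hx => ?_
    set W := zpowers a ⊔ o2 (centralizer (M : Set G)) with hW
    have h5 : W ≤ W.comap (MulAut.conj d).toMonoidHom := by
      refine sup_le ?_ fun y hy => ?_
      · rw [zpowers_le]
        change d * a * d⁻¹ ∈ W
        have h6 := comm_D h a ha d hd
        have h7 : d * a * d⁻¹ * a⁻¹ * a ∈ W :=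
          mul_mem ((le_sup_right : _ ≤ W) h6) ((le_sup_left : _ ≤ W) (mem_zpowers a))
        rwa [inv_mul_cancel_right] at h7
      · change d * y * d⁻¹ ∈ W
        exact (le_sup_right : _ ≤ W) (conj_mem (ZN.le_normalizer_o2 _ hd) hy)
    exact h5 hx
  exact ZN.le_o2 h3 h2 h4 ((le_sup_left : _ ≤ zpowers a ⊔ o2 (centralizer (M : Set G))) (mem_zpowers a))

end

end Cfsg.Agent.Omega.NO1.Nat.SevenB

end

section


/-!
# THEOREM NAT (#13408), step (7)

* `Q_le_M` : `Q₁ = M`;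
* `SixIn.false` : the configuration `SixIn` is impossible if `G` has sectional 2-rank at least 5.
-/

set_option autoImplicit false
set_option linter.unusedSectionVars false

namespace Cfsg.Agent.Omega.NO1.Nat.Seven

open Subgroup Cfsg Cfsg.Agent.ZN Cfsg.Agent.Omega.MinPar
open Cfsg.Agent.Omega.NO1.Nat.SixIn (SixIn C₁ J₁)
open Cfsg.Agent.Omega.NO1.Nat.SixA Cfsg.Agent.Omega.NO1.Nat.SixB Cfsg.Agent.Omega.NO1.Nat.SixC
open Cfsg.Agent.Omega.NO1.Nat.SevenA Cfsg.Agent.Omega.NO1.Nat.SevenB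

universe u

variable {G : Type u} [Group G] [Finite G] {S : Sylow 2 G} {z : G} {V V₁ M : Subgroup G}
  {e : G → Fin 3 → ZMod 2} (h : SixIn S z V V₁ M e)
include h

/-- an element of `Q₁ - M` which is central of order 2 in `S/M` -/
theorem exists_x (hQM : ¬ o2 (centralizer (M : Set G)) ≤ M) :
    ∃ x ∈ o2 (centralizer (M : Set G)), x ∉ M ∧ x * x ∈ M ∧
      ∀ s ∈ (S : Subgroup G), s * x * s⁻¹ * x⁻¹ ∈ M := by
  have hp : Fact (Nat.Prime 2) := ⟨Nat.prime_two⟩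
  set Q := o2 (centralizer (M : Set G)) with hQ
  have hMn : (M.subgroupOf (S : Subgroup G)).Normal :=
    (normal_subgroupOf_iff_le_normalizer (M_le_S h)).2 h.S_M
  have hQn : (Q.subgroupOf (S : Subgroup G)).Normal :=
    (normal_subgroupOf_iff_le_normalizer (Q_le_S h)).2 ((S_le_C₁ h).trans (C₁_norm_Q h))
  let p := QuotientGroup.mk' (M.subgroupOf (S : Subgroup G))
  have hp1 : Function.Surjective p := QuotientGroup.mk'_surjective _
  have hpk : ∀ y : (S : Subgroup G), p y = 1 → (y : G) ∈ M := fun y hy => (QuotientGroup.eq_one_iff y).1 hy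
  have hN : ((Q.subgroupOf (S : Subgroup G)).map p).Normal := hQn.map p hp1
  have hne : (Q.subgroupOf (S : Subgroup G)).map p ≠ ⊥ := by
    intro h0
    apply hQM
    intro x hx
    have hxS := Q_le_S h hx
    have h1 : p ⟨x, hxS⟩ ∈ (Q.subgroupOf (S : Subgroup G)).map p := ⟨⟨x, hxS⟩, hx, rfl⟩
    rw [h0, mem_bot] at h1
    exact hpk _ h1
  have hSp : IsPGroup 2 ((S : Subgroup G) ⧸ M.subgroupOf (S : Subgroup G)) :=
    S.isPGroup'.of_surjective p hp1
  obtain ⟨y, hy, hyc, hyo⟩ := Involutions.NormalFour.exists_mem_center_of_normal hSp _ hne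
  obtain ⟨⟨x, hxS⟩, hx, rfl⟩ := hy
  refine ⟨x, hx, ?_, ?_, ?_⟩
  · intro hxM
    have h1 : p ⟨x, hxS⟩ = 1 := (QuotientGroup.eq_one_iff _).2 hxM
    rw [h1, orderOf_one] at hyo
    omega
  · have h1 := pow_orderOf_eq_one (p ⟨x, hxS⟩)
    rw [hyo, ← map_pow] at h1
    have h2 := hpk _ h1
    rw [pow_two] at h2
    exact h2
  · intro s hs
    have h1 := (mem_center_iff.1 hyc) (p ⟨s, hs⟩)
    have h2 : p (⟨s, hs⟩ * ⟨x, hxS⟩ * ⟨s, hs⟩⁻¹ * ⟨x, hxS⟩⁻¹) = 1 := by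
      rw [map_mul, map_mul, map_mul, map_inv, map_inv, h1]
      group
    exact hpk _ h2

theorem Q_le_M : o2 (centralizer (M : Set G)) ≤ M := by
  by_contra hQM
  obtain ⟨x, hx, hxM, hx2, hxS⟩ := exists_x h hQM
  set Q := o2 (centralizer (M : Set G)) with hQ
  have hMQ : ∀ m ∈ M, ∀ q ∈ Q, q * m = m * q := fun m hm q hq => ((mem_Q h).1 hq).2 m hm
  -- `J_N` acts on `Q/M` trivially
  have hJq : ∀ j ∈ JN V M, ∀ q ∈ Q, ∃ m ∈ M, j * q * j⁻¹ = q * m := by
    intro j hj q hq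
    have h1 := inv_mem (comm_Q h j hj q hq)
    refine ⟨_, h1, ?_⟩
    rw [hMQ _ h1 q hq]
    group
  have hQn : JN V M ≤ normalizer (Q : Set G) := (JN_le h).trans N_norm_Q
  -- `x² = 1`
  have hxx : x * x = 1 := by
    apply fix_JN h hx2
    intro j hj
    obtain ⟨m, hm, hjx⟩ := hJq j hj x hx
    have h1 : j * (x * x) * j⁻¹ = x * x := by
      calc j * (x * x) * j⁻¹ = (j * x * j⁻¹) * (j * x * j⁻¹) := by group
        _ = x * m * (x * m) := by rw [hjx]
        _ = x * (m * x) * m := by group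
        _ = x * (x * m) * m := by rw [hMQ m hm x hx]
        _ = x * x * (m * m) := by group
        _ = x * x := by rw [h.M_sq m hm, mul_one]
    exact mul_inv_eq_iff_eq_mul.1 h1
  -- `x ∈ Z(Q)`
  have hxQ : ∀ q ∈ Q, x * q = q * x := by
    intro q hq
    have hc : q * x * q⁻¹ * x⁻¹ ∈ M := hxS q (Q_le_S h hq)
    have h1 : q * x * q⁻¹ * x⁻¹ = 1 := by
      apply fix_JN h hc
      intro j hj
      obtain ⟨m, hm, hjx⟩ := hJq j hj x hx
      obtain ⟨n, hn, hjq⟩ := hJq j hj q hq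
      have h2 : j * (q * x * q⁻¹ * x⁻¹) * j⁻¹ = q * x * q⁻¹ * x⁻¹ := by
        calc j * (q * x * q⁻¹ * x⁻¹) * j⁻¹
            = (j * q * j⁻¹) * (j * x * j⁻¹) * (j * q * j⁻¹)⁻¹ * (j * x * j⁻¹)⁻¹ := by group
          _ = (q * n) * (x * m) * (q * n)⁻¹ * (x * m)⁻¹ := by rw [hjx, hjq]
          _ = q * (n * x) * (m * n⁻¹) * q⁻¹ * m⁻¹ * x⁻¹ := by group
          _ = q * (x * n) * (n⁻¹ * m) * q⁻¹ * m⁻¹ * x⁻¹ := by
            rw [hMQ n hn x hx, h.M_comm m hm _ (inv_mem hn)]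
          _ = q * x * (m * q⁻¹) * m⁻¹ * x⁻¹ := by group
          _ = q * x * (q⁻¹ * m) * m⁻¹ * x⁻¹ := by rw [hMQ m hm _ (inv_mem hq)]
          _ = _ := by group
      exact mul_inv_eq_iff_eq_mul.1 h2
    calc x * q = (q * x * q⁻¹ * x⁻¹)⁻¹ * (q * x) := by group
      _ = q * x := by rw [h1]; group
  -- the coset `X = xM`
  set X : Set G := {y | x⁻¹ * y ∈ M} with hX
  have hXQ : ∀ y ∈ X, y ∈ Q := fun y hy => by
    have := mul_mem hx (M_le_Q h hy)
    rwa [mul_inv_cancel_left] at this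
  have hXc : ∀ y ∈ X, ∀ q ∈ Q, y * q = q * y := by
    intro y hy q hq
    have h1 := hMQ _ hy q hq
    calc y * q = x * (x⁻¹ * y * q) := by group
      _ = x * (q * (x⁻¹ * y)) := by rw [h1]
      _ = (x * q) * (x⁻¹ * y) := by group
      _ = (q * x) * (x⁻¹ * y) := by rw [hxQ q hq]
      _ = q * y := by group
  have hXcard : X.ncard = 16 := by
    have h1 : X = (fun m => x * m) '' (M : Set G) := by
      ext y
      constructor
      · intro hy
        exact ⟨x⁻¹ * y, hy, by simp⟩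
      · rintro ⟨m, hm, rfl⟩
        change x⁻¹ * (x * m) ∈ M
        rwa [inv_mul_cancel_left]
    rw [h1, Set.ncard_image_of_injective _ (mul_right_injective x)]
    rw [← h.M_card]; rfl
  have hXJ : ∀ j ∈ JN V M, ∀ y ∈ X, j * y * j⁻¹ ∈ X := by
    intro j hj y hy
    obtain ⟨m, hm, hjx⟩ := hJq j hj x hx
    have h1 := conj_mem (JN_le h hj) hy
    have h2 : x⁻¹ * (j * y * j⁻¹) = m * (j * (x⁻¹ * y) * j⁻¹) := by
      calc x⁻¹ * (j * y * j⁻¹) = x⁻¹ * (j * x * j⁻¹) * (j * (x⁻¹ * y) * j⁻¹) := by group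
        _ = m * (j * (x⁻¹ * y) * j⁻¹) := by rw [hjx]; group
    change x⁻¹ * (j * y * j⁻¹) ∈ M
    rw [h2]
    exact mul_mem hm h1
  have hXS : ∀ s ∈ (S : Subgroup G), ∀ y ∈ X, s * y * s⁻¹ ∈ X := by
    intro s hs y hy
    have h1 := conj_mem (h.S_M hs) hy
    have h2 := conj_mem' (h.S_M (Q_le_S h hx)) (hxS s hs)
    have h3 := mul_mem h2 h1
    change x⁻¹ * (s * y * s⁻¹) ∈ M
    rwa [show x⁻¹ * (s * x * s⁻¹ * x⁻¹) * x * (s * (x⁻¹ * y) * s⁻¹) = x⁻¹ * (s * y * s⁻¹) by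
      group] at h3
  -- number of fixed points
  have hfixX : ∀ f y₀ : G, y₀ ∈ X → f * y₀ = y₀ * f →
      {y ∈ X | f * y = y * f}.ncard = Nat.card ↥(M ⊓ centralizer ({f} : Set G)) := by
    intro f y₀ hy₀ hfy
    have h1 : {y ∈ X | f * y = y * f} =
        (fun m => y₀ * m) '' ((M ⊓ centralizer ({f} : Set G) : Subgroup G) : Set G) := by
      ext y
      constructor
      · rintro ⟨hy, hy'⟩
        refine ⟨y₀⁻¹ * y, mem_inf.2 ⟨?_, ?_⟩, by simp⟩
        · have := mul_mem (inv_mem (show x⁻¹ * y₀ ∈ M from hy₀)) (show x⁻¹ * y ∈ M from hy)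
          rwa [show (x⁻¹ * y₀)⁻¹ * (x⁻¹ * y) = y₀⁻¹ * y by group] at this
        · rw [mem_centralizer_singleton_iff]
          have h2 : y₀⁻¹ * f = f * y₀⁻¹ := by
            calc y₀⁻¹ * f = y₀⁻¹ * (f * y₀) * y₀⁻¹ := by group
              _ = y₀⁻¹ * (y₀ * f) * y₀⁻¹ := by rw [hfy]
              _ = f * y₀⁻¹ := by group
          rw [mul_assoc, ← hy', ← mul_assoc, h2, mul_assoc]
      · rintro ⟨m, hm, rfl⟩
        obtain ⟨hm1, hm2⟩ := mem_inf.1 hm
        rw [mem_centralizer_singleton_iff] at hm2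
        refine ⟨?_, ?_⟩
        · change x⁻¹ * (y₀ * m) ∈ M
          rw [← mul_assoc]
          exact mul_mem hy₀ hm1
        · dsimp only
          rw [← mul_assoc, hfy, mul_assoc, ← hm2, mul_assoc]
    rw [h1, Set.ncard_image_of_injective _ (mul_right_injective y₀)]
    rfl
  -- the 5-element
  have hp5 : Fact (Nat.Prime 5) := ⟨by norm_num⟩
  have hp7 : Fact (Nat.Prime 7) := ⟨by norm_num⟩
  obtain ⟨f, hf, ⟨kf, hkf⟩, hfD⟩ := exists_five h
  obtain ⟨g, hg, ⟨kg, hkg⟩, hgD⟩ := exists_seven h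
  have hcf : Nat.card ↥(M ⊓ centralizer ({f} : Set G)) = 1 := by
    obtain ⟨h1, j, hj, hj'⟩ := card_fix h hkf (JN_le h hf) hfD
    rw [hj'] at h1 ⊢
    unfold Nat.ModEq at h1
    interval_cases j <;> first | (exfalso; revert h1; decide) | norm_num
  have hcg : Nat.card ↥(M ⊓ centralizer ({g} : Set G)) = 2 := by
    obtain ⟨h1, j, hj, hj'⟩ := card_fix h hkg (JN_le h hg) hgD
    rw [hj'] at h1 ⊢
    unfold Nat.ModEq at h1
    interval_cases j <;> first | (exfalso; revert h1; decide) | norm_num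
  have h5 := fixmod hkf X fun y hy => hXJ f hf y hy
  obtain ⟨y₀, hy₀, hfy⟩ : {y ∈ X | f * y = y * f}.Nonempty := by
    rw [← Set.ncard_pos (Set.toFinite _)]
    rw [hXcard] at h5
    unfold Nat.ModEq at h5
    omega
  have hy₀Q := hXQ y₀ hy₀
  -- the orbit of `y₀`
  set O : Set G := {y | ∃ j ∈ JN V M, j * y₀ * j⁻¹ = y} with hO
  have hOX : O ⊆ X := by
    rintro _ ⟨j, hj, rfl⟩
    exact hXJ j hj y₀ hy₀
  have hOJ : ∀ j ∈ JN V M, ∀ y ∈ O, j * y * j⁻¹ ∈ O := by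
    rintro j hj _ ⟨k, hk, rfl⟩
    exact ⟨j * k, mul_mem hj hk, by group⟩
  have hOcard : O.ncard ≤ 16 := by
    rw [← hXcard]
    exact Set.ncard_le_ncard hOX (Set.toFinite _)
  have hO5 := fixmod hkf O fun y hy => hOJ f hf y hy
  have hO5' : {y ∈ O | f * y = y * f}.ncard = 1 := by
    apply le_antisymm
    · rw [← hcf, ← hfixX f y₀ hy₀ hfy]
      exact Set.ncard_le_ncard (fun y hy => ⟨hOX hy.1, hy.2⟩) (Set.toFinite _)
    · rw [Nat.one_le_iff_ne_zero, ← Nat.pos_iff_ne_zero, Set.ncard_pos (Set.toFinite _)]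
      exact ⟨y₀, ⟨1, one_mem _, by group⟩, hfy⟩
  have hO7 := fixmod hkg O fun y hy => hOJ g hg y hy
  have hO7' : {y ∈ O | g * y = y * g}.ncard ≤ 2 := by
    rcases Set.eq_empty_or_nonempty {y ∈ O | g * y = y * g} with h1 | ⟨y₁, hy₁, hgy⟩
    · rw [h1, Set.ncard_empty]; omega
    · rw [← hcg, ← hfixX g y₁ (hOX hy₁) hgy]
      exact Set.ncard_le_ncard (fun y hy => ⟨hOX hy.1, hy.2⟩) (Set.toFinite _)
  -- `|O| ≠ 16`
  have hO16 : O.ncard ≠ 16 := by
    intro h16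
    rw [hO, ← orb] at h16
    have h1 : 16 ∣ Q.relIndex (JN V M) := by
      rw [← h16]
      refine relIndex_dvd_of_le_left _ fun q hq => ?_
      rw [mem_centralizer_singleton_iff]
      exact (hXc y₀ hy₀ q hq).symm
    have h2 : ¬ 2 ∣ Q.relIndex (JN V M ⊓ centralizer (M : Set G)) := by
      intro hdvd
      have hp2 : Fact (Nat.Prime 2) := ⟨Nat.prime_two⟩
      obtain ⟨b, hb, hbQ, k, hk⟩ := exists_pel hdvd
      obtain ⟨hb1, hb2⟩ := mem_inf.1 hb
      exact hbQ (mem_Q_of_two h hb1 hb2 hk)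
    have h3 : (centralizer (M : Set G)).relIndex (JN V M) ∣ 2520 := by
      rw [← relIndex_DN h]
      exact relIndex_dvd_of_norm (JN_le h) N_norm_JN
    have h4 : Q.relIndex (JN V M) = Q.relIndex (JN V M ⊓ centralizer (M : Set G)) *
        (centralizer (M : Set G)).relIndex (JN V M) := by
      have h5 : (Q ⊓ JN V M) ≤ JN V M ⊓ centralizer (M : Set G) :=
        le_inf inf_le_right (inf_le_left.trans (ZN.o2_le _))
      have h6 := relIndex_mul_relIndex (Q ⊓ JN V M) (JN V M ⊓ centralizer (M : Set G)) (JN V M) h5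
        inf_le_left
      rw [inf_relIndex_right, inf_relIndex_left] at h6
      rw [← h6]
      congr 1
      have h7 : Q ⊓ JN V M = Q ⊓ (JN V M ⊓ centralizer (M : Set G)) := by
        apply le_antisymm
        · exact le_inf inf_le_left h5
        · exact le_inf inf_le_left (inf_le_right.trans inf_le_left)
      rw [h7, inf_relIndex_right]
    rw [h4] at h1
    have h5 : Nat.Coprime 16 (Q.relIndex (JN V M ⊓ centralizer (M : Set G))) := by
      rw [show 16 = 2 ^ 4 by norm_num]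
      exact Nat.Coprime.pow_left 4 ((Nat.Prime.coprime_iff_not_dvd Nat.prime_two).2 h2)
    have h6 := (h5.dvd_of_dvd_mul_left h1).trans h3
    omega
  have hO1 : O.ncard = 1 := by
    rw [hO5'] at hO5
    have key : ∀ a b : ℕ, a ≤ 16 → a ≠ 16 → a % 5 = 1 % 5 → a % 7 = b % 7 → b ≤ 2 → a = 1 := by
      intro a b h1 h2 h3 h4 h5
      clear * - h1 h2 h3 h4 h5
      interval_cases a <;> first | rfl | (exfalso; omega)
    exact key _ _ hOcard hO16 hO5 hO7 hO7'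
  -- `y₀` is centralised by `J_N`
  have hy₀J : ∀ j ∈ JN V M, j * y₀ = y₀ * j := by
    intro j hj
    obtain ⟨a, ha⟩ := Set.ncard_eq_one.1 hO1
    have h1 : y₀ ∈ O := ⟨1, one_mem _, by group⟩
    have h2 : j * y₀ * j⁻¹ ∈ O := ⟨j, hj, rfl⟩
    rw [ha, Set.mem_singleton_iff] at h1 h2
    rw [← h1] at h2
    exact mul_inv_eq_iff_eq_mul.1 h2
  -- and by `S`
  have hy₀S : ∀ s ∈ (S : Subgroup G), s * y₀ = y₀ * s := by
    intro s hs
    have h1 : x⁻¹ * (s * y₀ * s⁻¹) ∈ M := hXS s hs y₀ hy₀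
    have h2 := mul_mem (inv_mem (show x⁻¹ * y₀ ∈ M from hy₀)) h1
    rw [show (x⁻¹ * y₀)⁻¹ * (x⁻¹ * (s * y₀ * s⁻¹)) = y₀⁻¹ * (s * y₀ * s⁻¹) by group] at h2
    have h3 : y₀⁻¹ * (s * y₀ * s⁻¹) = 1 := by
      apply fix_JN h h2
      intro j hj
      have h4 := hy₀J j hj
      have h5 := hy₀J _ (conj_mem' (N_norm_JN (h.S_M hs)) hj)
      have h6 : j * (s * y₀ * s⁻¹) = s * y₀ * s⁻¹ * j := by
        calc j * (s * y₀ * s⁻¹) = s * (s⁻¹ * j * s * y₀) * s⁻¹ := by group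
          _ = s * (y₀ * (s⁻¹ * j * s)) * s⁻¹ := by rw [h5]
          _ = _ := by group
      have h7 : j * y₀⁻¹ = y₀⁻¹ * j := by
        calc j * y₀⁻¹ = y₀⁻¹ * (y₀ * j) * y₀⁻¹ := by group
          _ = y₀⁻¹ * (j * y₀) * y₀⁻¹ := by rw [h4]
          _ = _ := by group
      calc j * (y₀⁻¹ * (s * y₀ * s⁻¹)) = (j * y₀⁻¹) * (s * y₀ * s⁻¹) := by group
        _ = (y₀⁻¹ * j) * (s * y₀ * s⁻¹) := by rw [h7]
        _ = y₀⁻¹ * (j * (s * y₀ * s⁻¹)) := by group
        _ = y₀⁻¹ * (s * y₀ * s⁻¹ * j) := by rw [h6]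
        _ = _ := by group
    have h4 : s * y₀ * s⁻¹ = y₀ := by
      have := inv_mul_eq_one.1 h3
      exact this.symm
    exact mul_inv_eq_iff_eq_mul.1 h4
  have hy₀2 : y₀ * y₀ = 1 := by
    have h1 : x⁻¹ * y₀ * x = x * (x⁻¹ * y₀) := (hMQ _ hy₀ x hx).symm
    have h2 := h.M_sq _ hy₀
    calc y₀ * y₀ = x * (x⁻¹ * y₀) * (x * (x⁻¹ * y₀)) := by group
      _ = x * (x⁻¹ * y₀) * (x⁻¹ * y₀ * x) := by rw [h1]
      _ = x * (x⁻¹ * y₀ * (x⁻¹ * y₀)) * x := by group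
      _ = 1 := by rw [h2, mul_one, hxx]
  apply hxM
  have hy₀M : y₀ ∈ M := by
    rcases mem_zc h (mem_zc_of h (Q_le_S h hy₀Q) hy₀2 hy₀S) with h1 | h1
    · rw [h1]; exact one_mem _
    · rw [h1]; exact z_mem_M h
  have h1 := mul_mem hy₀M (inv_mem (show x⁻¹ * y₀ ∈ M from hy₀))
  rwa [show y₀ * (x⁻¹ * y₀)⁻¹ = x by group] at h1

/-- `C_G(M) = M` -/
theorem D_le_M : centralizer (M : Set G) ≤ M := by
  have hQ : o2 (centralizer (M : Set G)) = M := le_antisymm (Q_le_M h) (M_le_Q h)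
  have hM1 : M ≠ ⊥ := by
    intro h0
    have := h.M_card
    rw [h0, Subgroup.card_bot] at this
    omega
  have h1 := NOne.LemmaT.char2_of_normal
    (MinSimple.Basic.char2_normalizer h.char2 (M_isPGroup h) hM1)
    (centralizer_le_normalizer (M : Set G)) norm_cent
  rw [hQ] at h1
  exact (le_inf le_rfl le_rfl).trans h1

theorem relIndex_S : M.relIndex (S : Subgroup G) ≤ 8 := by
  have hD : centralizer (M : Set G) = M := le_antisymm (D_le_M h) (M_le_D h)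
  have hp : Fact (Nat.Prime 2) := ⟨Nat.prime_two⟩
  have h1 := relIndex_mul_relIndex M (S : Subgroup G) (C₁ z M) (M_le_S h) (S_le_C₁ h)
  have h2 := relIndex_D h
  rw [hD] at h2
  rw [h2] at h1
  obtain ⟨n, hn⟩ := IsPGroup.iff_card.1 S.isPGroup'
  have h3 : M.relIndex (S : Subgroup G) ∣ 2 ^ n := by
    rw [← hn]
    exact relIndex_dvd_card _ _
  obtain ⟨k, -, hk⟩ := (Nat.dvd_prime_pow Nat.prime_two).1 h3
  rw [hk] at h1 ⊢
  have h4 : k ≤ 3 := by
    by_contra hlt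
    push Not at hlt
    have h5 : 16 ∣ 2 ^ k := by
      rw [show 16 = 2 ^ 4 by norm_num]
      exact pow_dvd_pow 2 hlt
    have h6 : 16 ∣ 168 := by
      rw [← h1]
      exact h5.mul_right _
    omega
  calc 2 ^ k ≤ 2 ^ 3 := Nat.pow_le_pow_right (by norm_num) h4
    _ = 8 := by norm_num

/-- no transvections on `M` -/
theorem no_transv {s : G} (hs : s ∈ (S : Subgroup G)) (hsM : s ∉ M) :
    Nat.card ↥(M ⊓ centralizer ({s} : Set G)) ≤ 4 := by
  by_contra hlt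
  push Not at hlt
  have hsN := h.S_M hs
  have h1 : 8 ≤ Nat.card ↥(M ⊓ centralizer ({s} : Set G)) := by
    have h4 : Nat.card ↥(M ⊓ centralizer ({s} : Set G)) ∣ 2 ^ 4 := by
      have := Subgroup.card_dvd_of_le (inf_le_left : M ⊓ centralizer ({s} : Set G) ≤ M)
      rwa [h.M_card] at this
    obtain ⟨j, hj, hj'⟩ := (Nat.dvd_prime_pow Nat.prime_two).1 h4
    rw [hj'] at hlt ⊢
    interval_cases j <;> omega
  have hval : ∀ m ∈ M, s * m * s⁻¹ * m⁻¹ ∈ M := fun m hm => mul_mem (conj_mem hsN hm) (inv_mem hm)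
  let f : M →* M :=
    { toFun := fun m => ⟨s * m * s⁻¹ * (m : G)⁻¹, hval m m.2⟩
      map_one' := by
        apply Subtype.ext; simp
      map_mul' := fun x y => by
        apply Subtype.ext
        have h2 := h.M_comm _ (hval y y.2) _ (inv_mem x.2)
        change s * (x * y) * s⁻¹ * ((x : G) * y)⁻¹ =
          (s * x * s⁻¹ * (x : G)⁻¹) * (s * y * s⁻¹ * (y : G)⁻¹)
        calc s * (x * y) * s⁻¹ * ((x : G) * y)⁻¹
            = s * x * s⁻¹ * (s * y * s⁻¹ * (y : G)⁻¹ * (x : G)⁻¹) := by group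
          _ = s * x * s⁻¹ * ((x : G)⁻¹ * (s * y * s⁻¹ * (y : G)⁻¹)) := by rw [h2]
          _ = _ := by group }
  have hk : 8 ≤ Nat.card f.ker := by
    have h3 : M ⊓ centralizer ({s} : Set G) ≤ f.ker.map M.subtype := by
      intro m hm
      obtain ⟨hm1, hm2⟩ := mem_inf.1 hm
      rw [mem_centralizer_singleton_iff] at hm2
      refine ⟨⟨m, hm1⟩, MonoidHom.mem_ker.2 (Subtype.ext ?_), rfl⟩
      change s * m * s⁻¹ * m⁻¹ = 1
      rw [← hm2]; group
    have h4 := Subgroup.card_le_of_le h3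
    rw [Subgroup.card_map_of_injective M.subtype_injective] at h4
    exact h1.trans h4
  have h2 : Nat.card f.ker * Nat.card f.range = 16 := by
    rw [← h.M_card, ← Subgroup.index_ker f]
    exact f.ker.card_mul_index
  have h3 : Nat.card f.range ≤ 2 := by
    by_contra h4
    push Not at h4
    have : 8 * 3 ≤ Nat.card f.ker * Nat.card f.range := Nat.mul_le_mul hk h4
    omega
  -- the centre of the transvection
  have hex : ∃ c ∈ M, c ≠ 1 ∧ ∀ m ∈ M, s * m * s⁻¹ * m⁻¹ = 1 ∨ s * m * s⁻¹ * m⁻¹ = c := by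
    by_contra hcon
    push Not at hcon
    apply hsM
    apply D_le_M h
    refine cent_iff.2 fun m hm => ?_
    by_contra hne
    have hc1 : s * m * s⁻¹ * m⁻¹ ≠ 1 := fun h5 => hne (by
      calc s * m = s * m * s⁻¹ * m⁻¹ * (m * s) := by group
        _ = m * s := by rw [h5, one_mul])
    obtain ⟨m', hm', h5, h6⟩ := hcon _ (hval m hm) hc1
    have h7 : ({1, ⟨_, hval m hm⟩, ⟨_, hval m' hm'⟩} : Set M) ⊆ f.range := by
      rintro y (rfl | rfl | rfl)
      · exact one_mem _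
      · exact ⟨⟨m, hm⟩, rfl⟩
      · exact ⟨⟨m', hm'⟩, rfl⟩
    have h8 : ({1, ⟨_, hval m hm⟩, ⟨_, hval m' hm'⟩} : Set M).ncard = 3 := by
      have ha : (1 : M) ≠ ⟨_, hval m hm⟩ := fun h9 => hc1 (congrArg Subtype.val h9).symm
      have hb : (1 : M) ≠ ⟨_, hval m' hm'⟩ := fun h9 => h5 (congrArg Subtype.val h9).symm
      have hc : (⟨_, hval m hm⟩ : M) ≠ ⟨_, hval m' hm'⟩ := fun h9 => h6 (congrArg Subtype.val h9).symm
      rw [Set.ncard_insert_of_notMem (by simp only [Set.mem_insert_iff, Set.mem_singleton_iff, not_or]; exact ⟨ha, hb⟩)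
        (Set.toFinite _), Set.ncard_pair hc]
    have h9 := Set.ncard_le_ncard h7 (Set.toFinite _)
    rw [h8] at h9
    have h10 : (f.range : Set M).ncard = Nat.card f.range := rfl
    omega
  obtain ⟨c, hc, hc1, hcs⟩ := hex
  obtain ⟨n, hn, hnc⟩ := N_tran h hc hc1
  have hs'N : n⁻¹ * s * n ∈ normalizer (M : Set G) := mul_mem (mul_mem (inv_mem hn) hsN) hn
  have hs' : ∀ m ∈ M, (n⁻¹ * s * n) * m * (n⁻¹ * s * n)⁻¹ * m⁻¹ = 1 ∨
      (n⁻¹ * s * n) * m * (n⁻¹ * s * n)⁻¹ * m⁻¹ = z := by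
    intro m hm
    have h5 : (n⁻¹ * s * n) * m * (n⁻¹ * s * n)⁻¹ * m⁻¹ =
        n⁻¹ * (s * (n * m * n⁻¹) * s⁻¹ * (n * m * n⁻¹)⁻¹) * n := by group
    rcases hcs _ (conj_mem hn hm) with h6 | h6
    · left; rw [h5, h6]; group
    · right; rw [h5, h6, ← hnc]; group
  have hs'C : n⁻¹ * s * n ∈ C₁ z M := by
    refine mem_inf.2 ⟨?_, hs'N⟩
    rw [mem_centralizer_singleton_iff]
    rcases hs' z (z_mem_M h) with h5 | h5
    · calc n⁻¹ * s * n * z = ((n⁻¹ * s * n) * z * (n⁻¹ * s * n)⁻¹ * z⁻¹) * (z * (n⁻¹ * s * n)) := by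
            group
        _ = z * (n⁻¹ * s * n) := by rw [h5, one_mul]
    · exfalso
      have h6 : (n⁻¹ * s * n) * z * (n⁻¹ * s * n)⁻¹ = z * z := by
        calc (n⁻¹ * s * n) * z * (n⁻¹ * s * n)⁻¹ = ((n⁻¹ * s * n) * z * (n⁻¹ * s * n)⁻¹ * z⁻¹) * z := by
              group
          _ = z * z := by rw [h5]
      rw [h.z_sq] at h6
      exact h.z_ne (conj_eq_one_iff.1 h6)
  have h5 := h.faith _ hs'C (fun m hm => by
    have h6 := conj_mem hs'N hm
    rcases hs' m hm with h7 | h7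
    · congr 1
      exact mul_inv_eq_one.1 h7
    · rw [mul_inv_eq_iff_eq_mul.1 h7, h.e_mul z (z_mem_M h) m hm, h.e_z, zero_add])
  apply hsM
  apply D_le_M h
  refine cent_iff.2 fun m hm => ?_
  have h6 := h5 _ (conj_mem' hn hm)
  calc s * m = n * (n⁻¹ * s * n * (n⁻¹ * m * n)) * n⁻¹ := by group
    _ = n * (n⁻¹ * m * n * (n⁻¹ * s * n)) * n⁻¹ := by rw [h6]
    _ = m * s := by group

/-- `S/M` is not elementary abelian -/
theorem exists_sq : ∃ s ∈ (S : Subgroup G), s * s ∉ M := by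
  let A : Matrix (Fin 3) (Fin 3) (ZMod 2) := !![1, 1, 0; 0, 1, 1; 0, 0, 1]
  have hA4 : A * A * A * A = 1 := by decide
  have hA2 : A * A ≠ 1 := by decide
  have hdet : A.det ≠ 0 := by
    intro h0
    have h1 := congrArg Matrix.det hA4
    rw [Matrix.det_mul, h0, mul_zero, Matrix.det_one] at h1
    exact zero_ne_one h1
  obtain ⟨g, hg, hg'⟩ := full_mat h A hdet
  set gc : C₁ z M := ⟨g, J_le_C₁ h hg⟩ with hgc
  have ha : (act h gc).1 = A := mat_ext h fun m hm => by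
    rw [act_apply h gc hm]; exact hg' m hm
  have ha4 : act h gc ^ 4 = 1 := Units.ext (by
    rw [Units.val_pow_eq_pow_val, ha]
    calc A ^ 4 = A * A * A * A := by rw [pow_succ, pow_succ, pow_two]
      _ = 1 := hA4)
  have ha2 : act h gc ^ 2 ≠ 1 := fun h0 => hA2 (by
    have h1 := congrArg Units.val h0
    rw [Units.val_pow_eq_pow_val, ha, pow_two] at h1
    exact h1)
  obtain ⟨a, b, hb, hab⟩ := Nat.exists_eq_two_pow_mul_odd (orderOf_pos gc).ne'
  have h1 : (gc ^ b) ^ 2 ^ a = 1 := by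
    rw [← pow_mul, mul_comm, ← hab, pow_orderOf_eq_one]
  have h2 : act h (gc ^ b * gc ^ b) ≠ 1 := by
    rw [← pow_add, map_pow]
    obtain ⟨k, rfl⟩ := hb
    rw [show 2 * k + 1 + (2 * k + 1) = 4 * k + 2 by ring, pow_add, pow_mul, ha4, one_pow, one_mul]
    exact ha2
  have h3 : g ^ b * g ^ b ∉ M := by
    intro h4
    apply h2
    rw [← MonoidHom.mem_ker, ker_act h, mem_subgroupOf]
    exact M_le_D h h4
  have hp : Fact (Nat.Prime 2) := ⟨Nat.prime_two⟩
  obtain ⟨x, hx, hxS⟩ := exists_conj_mem (p := 2) S (S_le_C₁ h) (c := g ^ b) (pow_mem gc.2 b) (k := a)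
    (congrArg Subtype.val h1)
  refine ⟨_, hxS, fun h4 => h3 ?_⟩
  have h5 := conj_mem' hx.2 h4
  rwa [show x⁻¹ * (x * g ^ b * x⁻¹ * (x * g ^ b * x⁻¹)) * x = g ^ b * g ^ b by group] at h5

/-- **Steps (6), (7) of THEOREM NAT**: the configuration `SixIn` is impossible if `G` has sectional 2-rank at
least 5. -/
theorem false (hr : ¬ SectionalPRankLE 2 4 G) : False :=
  hr (rank_of S h.M_card h.S_M h.M_comm (relIndex_S h) (M_le_S h) (fun _ hs hsM => no_transv h hs hsM)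
    (exists_sq h))

end Cfsg.Agent.Omega.NO1.Nat.Seven

end
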