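import Cfsg.Agent.Mrg.Omega.NO1.Nat.A1
import Cfsg.Agent.Mrg.Omega.FFMutual
import Cfsg.Agent.LieRecognition.FieldSemilinear
import Cfsg.Agent.Mrg.Omega.NO1.Types
import Cfsg.Agent.ZN.Plane

section


/-!
# THEOREM NAT (#13408), step (0): the coordinates of `V`

`Co F S P V ε`: `V ≤ S ≤ P ≤ N_G(V)`, `ε : V ≃ F²`, `SL₂(F)` is induced by a normal subgroup of `P`, `S` respects
the line `V₁ = {ε v 1 = 0}` and induces the upper unitriangular matrices.

* `Co.semi` : the elements of `P` act semilinearly;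
* `Co.exists_up` : the elements of `S ∩ C(V₁)` act as upper unitriangular matrices;
* `Co.relIndex_le` : elementary abelian 2-subgroups of `N_G(V₁) / C_G(V₁)` have order at most 2.
-/

set_option autoImplicit false
set_option linter.unusedSectionVars false

namespace Cfsg.Agent.Omega.NO1.NatA

open Subgroup Cfsg Cfsg.Agent.Omega.NoFF.Basic Cfsg.Agent.Omega.NOne.Frame
open Cfsg.Agent.Lib.SL2Mat
open Cfsg.Agent.Omega.NatPair (ap ap_zero' ap_one' ext2)
open Cfsg.Agent.ZN (o2 zc)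
open Cfsg.Agent.ZN.ChoiceBase (cj)

universe u

/-- `F` has at most one automorphism of order two. -/
theorem unique_invol (F : Type*) [Field F] [Finite F] {σ τ : F ≃+* F} (hσ : σ ≠ 1) (hτ : τ ≠ 1)
    (hσ2 : σ * σ = 1) (hτ2 : τ * τ = 1) : σ = τ := by
  classical
  have hc : IsCyclic (F ≃+* F) := LieRecognition.FieldSemilinear.isCyclic_ringAut F
  have hfin : Finite (F ≃+* F) := Finite.of_injective (fun σ : F ≃+* F => (σ : F → F)) DFunLike.coe_injective
  have := Fintype.ofFinite (F ≃+* F)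
  by_contra hne
  have h1 := hc.card_pow_eq_one_le (n := 2) (by norm_num)
  have h2 : ({1, σ, τ} : Finset (F ≃+* F)) ⊆ Finset.univ.filter (fun a => a ^ 2 = 1) := by
    intro x hx
    simp only [Finset.mem_insert, Finset.mem_singleton] at hx
    simp only [Finset.mem_filter, Finset.mem_univ, true_and]
    rcases hx with rfl | rfl | rfl
    · exact one_pow 2
    · rw [pow_two]; exact hσ2
    · rw [pow_two]; exact hτ2
  have h3 := Finset.card_le_card h2
  rw [Finset.card_eq_three.2 ⟨1, σ, τ, fun h => hσ h.symm, fun h => hτ h.symm, hne, rfl⟩] at h3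
  omega

/-- The index is at most 2 if the product of two outer elements is inner. -/
theorem relIndex_le_two {G : Type*} [Group G] {H A : Subgroup G}
    (h : ∀ a ∈ A, a ∉ H → ∀ b ∈ A, b ∉ H → a * b ∈ H) : H.relIndex A ≤ 2 := by
  by_cases hA : A ≤ H
  · rw [relIndex_eq_one.2 hA]; norm_num
  · rw [SetLike.le_def] at hA
    push Not at hA
    obtain ⟨a, ha, haH⟩ := hA
    have h1 : (H.subgroupOf A).index = 2 := by
      rw [Subgroup.index_eq_two_iff]
      refine ⟨⟨a, ha⟩, fun b => ?_⟩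
      by_cases hb : b ∈ H.subgroupOf A
      · refine Or.inr ⟨hb, fun h2 => haH ?_⟩
        exact (mul_mem_cancel_left (mem_subgroupOf.1 hb)).1 (mem_subgroupOf.1 h2)
      · exact Or.inl ⟨mem_subgroupOf.2 (h b b.2 (fun h2 => hb (mem_subgroupOf.2 h2)) a ha haH), hb⟩
    rw [relIndex, h1]

variable {G : Type u} [Group G] {F : Type} [Field F]

/-- The coordinates of `V`. -/
structure Co (F : Type) [Field F] (S P V : Subgroup G) (ε : G → Fin 2 → F) : Prop where
  PV : P ≤ normalizer (V : Set G)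
  SP : S ≤ P
  VS : V ≤ S
  comm : V ≤ centralizer (V : Set G)
  mul : ∀ v ∈ V, ∀ w ∈ V, ε (v * w) = ε v + ε w
  surj : ∀ x : Fin 2 → F, ∃ v ∈ V, ε v = x
  ker : ∀ v ∈ V, ε v = 0 ↔ v = 1
  lift : ∀ A : Matrix.SpecialLinearGroup (Fin 2) F, ∃ g ∈ P, ∀ v ∈ V, ε (g * v * g⁻¹) = ap A (ε v)
  norm : ∀ g ∈ P, ∀ h ∈ P, ∀ A : Matrix.SpecialLinearGroup (Fin 2) F,
    (∀ v ∈ V, ε (h * v * h⁻¹) = ap A (ε v)) → ∃ B : Matrix.SpecialLinearGroup (Fin 2) F,
      ∀ v ∈ V, ε (g * h * g⁻¹ * v * (g * h * g⁻¹)⁻¹) = ap B (ε v)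
  line : ∀ t ∈ S, ∀ v ∈ V, ε (t * v * t⁻¹) 1 = 0 ↔ ε v 1 = 0
  unip : ∀ b : F, ∃ t ∈ S, ∀ v ∈ V, ε (t * v * t⁻¹) = ap (up b) (ε v)

namespace Co

variable {S P V : Subgroup G} {ε : G → Fin 2 → F} (h : Co F S P V ε)
include h

theorem one : ε 1 = 0 := (h.ker 1 (one_mem _)).2 rfl

theorem inj {v w : G} (hv : v ∈ V) (hw : w ∈ V) (he : ε v = ε w) : v = w := by
  have h1 : ε (v * w⁻¹) = 0 := by
    have h2 := h.mul (v * w⁻¹) (mul_mem hv (inv_mem hw)) w hw
    rw [inv_mul_cancel_right, he] at h2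
    exact right_eq_add.1 h2
  exact mul_inv_eq_one.1 ((h.ker _ (mul_mem hv (inv_mem hw))).1 h1)

theorem inv {v : G} (hv : v ∈ V) : ε v⁻¹ = - ε v := by
  have h1 := h.mul v hv v⁻¹ (inv_mem hv)
  rw [mul_inv_cancel, h.one] at h1
  exact (neg_eq_of_add_eq_zero_right h1.symm).symm

theorem conj_mem {g v : G} (hg : g ∈ P) (hv : v ∈ V) : g * v * g⁻¹ ∈ V := norm_mem (h.PV hg) hv

/-- `g` acts semilinearly with automorphism `s`. -/
def Semi (V : Subgroup G) (ε : G → Fin 2 → F) (g : G) (s : F ≃+* F) : Prop :=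
  ∀ v ∈ V, ∀ w ∈ V, ∀ c : F, ε w = c • ε v → ε (g * w * g⁻¹) = s c • ε (g * v * g⁻¹)

theorem semi [Finite F] {g : G} (hg : g ∈ P) : ∃ s : F ≃+* F, Semi V ε g s := by
  choose iv hiv hiv2 using h.surj
  have hgi := inv_mem hg
  let T : (Fin 2 → F) → (Fin 2 → F) := fun x => ε (g * iv x * g⁻¹)
  let T' : (Fin 2 → F) → (Fin 2 → F) := fun x => ε (g⁻¹ * iv x * g⁻¹⁻¹)
  have hT : ∀ v ∈ V, T (ε v) = ε (g * v * g⁻¹) := by
    intro v hv
    have : iv (ε v) = v := h.inj (hiv _) hv (hiv2 _)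
    change ε (g * iv (ε v) * g⁻¹) = _
    rw [this]
  have hT' : ∀ v ∈ V, T' (ε v) = ε (g⁻¹ * v * g⁻¹⁻¹) := by
    intro v hv
    have : iv (ε v) = v := h.inj (hiv _) hv (hiv2 _)
    change ε (g⁻¹ * iv (ε v) * g⁻¹⁻¹) = _
    rw [this]
  have hadd : ∀ x y, T (x + y) = T x + T y := by
    intro x y
    have h1 : iv (x + y) = iv x * iv y := by
      refine h.inj (hiv _) (mul_mem (hiv _) (hiv _)) ?_
      rw [hiv2, h.mul _ (hiv _) _ (hiv _), hiv2, hiv2]
    change ε (g * iv (x + y) * g⁻¹) = _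
    rw [h1]
    have e : g * (iv x * iv y) * g⁻¹ = (g * iv x * g⁻¹) * (g * iv y * g⁻¹) := by group
    rw [e, h.mul _ (h.conj_mem hg (hiv _)) _ (h.conj_mem hg (hiv _))]
  have h1 : ∀ x, T' (T x) = x := by
    intro x
    have h2 := hT' (g * iv x * g⁻¹) (h.conj_mem hg (hiv _))
    change T' (ε (g * iv x * g⁻¹)) = x
    rw [h2]
    have e : g⁻¹ * (g * iv x * g⁻¹) * g⁻¹⁻¹ = iv x := by group
    rw [e, hiv2]
  have h2 : ∀ x, T (T' x) = x := by
    intro x
    have h2 := hT (g⁻¹ * iv x * g⁻¹⁻¹) (h.conj_mem hgi (hiv _))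
    change T (ε (g⁻¹ * iv x * g⁻¹⁻¹)) = x
    rw [h2]
    have e : g * (g⁻¹ * iv x * g⁻¹⁻¹) * g⁻¹ = iv x := by group
    rw [e, hiv2]
  obtain ⟨σ, hσ⟩ := NatPair.exists_semi T T' hadd h1 h2 (by
    intro A
    obtain ⟨k, hk, hkA⟩ := h.lift A
    obtain ⟨B, hB⟩ := h.norm g⁻¹ hgi k hk A hkA
    refine ⟨B, fun x => ?_⟩
    have h3 := hB (iv x) (hiv x)
    rw [hiv2] at h3
    rw [← h3]
    have h4 : ap A (T x) = ε (k * (g * iv x * g⁻¹) * k⁻¹) := (hkA _ (h.conj_mem hg (hiv _))).symm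
    rw [h4, hT' _ (h.conj_mem hk (h.conj_mem hg (hiv _)))]
    congr 1
    group)
  obtain ⟨s, hs⟩ := NatPair.exists_ringEquiv T T' hadd h1 σ hσ
  refine ⟨s, fun v hv w hw c hc => ?_⟩
  rw [← hT w hw, ← hT v hv, hc, hs]

/-- the line `V₁ = {ε v 1 = 0}` -/
def V1 (h : Co F S P V ε) : Subgroup G where
  carrier := {v | v ∈ V ∧ ε v 1 = 0}
  one_mem' := ⟨one_mem _, by rw [h.one]; rfl⟩
  mul_mem' := by
    rintro a b ⟨ha, ha'⟩ ⟨hb, hb'⟩
    exact ⟨mul_mem ha hb, by rw [h.mul a ha b hb, Pi.add_apply, ha', hb', add_zero]⟩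
  inv_mem' := by
    rintro a ⟨ha, ha'⟩
    exact ⟨inv_mem ha, by rw [h.inv ha, Pi.neg_apply, ha', neg_zero]⟩

theorem mem_V1 {v : G} : v ∈ h.V1 ↔ v ∈ V ∧ ε v 1 = 0 := Iff.rfl

theorem V1_le : h.V1 ≤ V := fun _ hv => hv.1

/-- `S` normalises `V₁`. -/
theorem S_norm_V1 : S ≤ normalizer (h.V1 : Set G) := by
  have key : ∀ t ∈ S, ∀ v ∈ h.V1, t * v * t⁻¹ ∈ h.V1 := fun t ht v hv =>
    ⟨h.conj_mem (h.SP ht) hv.1, (h.line t ht v hv.1).2 hv.2⟩
  intro t ht
  rw [mem_normalizer_iff]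
  intro v
  refine ⟨key t ht v, fun hv => ?_⟩
  have h6 := key t⁻¹ (inv_mem ht) _ hv
  have e : t⁻¹ * (t * v * t⁻¹) * t⁻¹⁻¹ = v := by group
  rwa [e] at h6

/-- `v ∈ V₁` if a nontrivial upper unitriangular element centralises it. -/
theorem mem_V1_of_up {x v : G} {a : F} (hx : ∀ v ∈ V, ε (x * v * x⁻¹) = ap (up a) (ε v)) (ha : a ≠ 0)
    (hv : v ∈ V) (hc : x * v = v * x) : v ∈ h.V1 := by
  refine ⟨hv, ?_⟩
  have h1 := congrFun (hx v hv) 0
  rw [hc, mul_inv_cancel_right, ap_zero', up_00, up_01, one_mul] at h1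
  exact (mul_eq_zero.1 (left_eq_add.1 h1)).resolve_left ha

/-- `C_V(S) ≤ V₁` -/
theorem fix_mem_V1 {z : G} (hz : z ∈ V) (hS : ∀ t ∈ S, t * z = z * t) : z ∈ h.V1 := by
  obtain ⟨t, ht, ht2⟩ := h.unip 1
  exact h.mem_V1_of_up ht2 one_ne_zero hz (hS t ht)

/-- coordinates on `V₁` with respect to `z` -/
theorem exists_smul {z v : G} (hz : z ∈ h.V1) (hz1 : z ≠ 1) (hv : v ∈ h.V1) : ∃ c : F, ε v = c • ε z := by
  have h0 : ε z 0 ≠ 0 := by
    intro h0
    exact hz1 ((h.ker z hz.1).1 (ext2 h0 hz.2))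
  refine ⟨ε v 0 * (ε z 0)⁻¹, ext2 ?_ ?_⟩
  · rw [Pi.smul_apply, smul_eq_mul, inv_mul_cancel_right₀ h0]
  · rw [Pi.smul_apply, hv.2, hz.2, smul_zero]

theorem ne_zero {v : G} (hv : v ∈ V) (hv1 : v ≠ 1) : ε v ≠ 0 := fun h0 => hv1 ((h.ker v hv).1 h0)

/-- The field automorphism is trivial iff `V₁` is centralised. -/
theorem cent_iff {x z : G} {s : F ≃+* F} (hx : x ∈ S) (hs : Semi V ε x s) (hz : z ∈ V)
    (hz1 : z ≠ 1) (hS : ∀ t ∈ S, t * z = z * t) : x ∈ centralizer (h.V1 : Set G) ↔ s = 1 := by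
  have hzV := h.fix_mem_V1 hz hS
  have hxz : x * z * x⁻¹ = z := by rw [hS x hx, mul_inv_cancel_right]
  constructor
  · intro hc
    ext c
    obtain ⟨v, hv, hvc⟩ := h.surj (c • ε z)
    have hv1 : v ∈ h.V1 := ⟨hv, by rw [hvc, Pi.smul_apply, hzV.2, smul_zero]⟩
    have h1 := hs z hz v hv c hvc
    have h2 : x * v * x⁻¹ = v := by rw [← mem_centralizer_iff.1 hc v hv1, mul_inv_cancel_right]
    rw [h2, hxz, hvc] at h1
    exact (smul_left_injective F (h.ne_zero hz hz1) h1).symm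
  · rintro rfl
    refine mem_centralizer_iff.2 fun v hv => ?_
    obtain ⟨c, hc⟩ := h.exists_smul hzV hz1 hv
    have h1 := hs z hz v hv.1 c hc
    rw [hxz] at h1
    have h2 : ε (x * v * x⁻¹) = ε v := by rw [h1, hc]; rfl
    have h3 := h.inj (h.conj_mem (h.SP hx) hv.1) hv.1 h2
    calc v * x = x * v * x⁻¹ * x := by rw [h3]
      _ = x * v := by group

/-- **The elements of `S ∩ C(V₁)` act as upper unitriangular matrices.** -/
theorem exists_up [Finite F] [CharP F 2] (hS2 : IsPGroup 2 S) {x z : G} (hx : x ∈ S)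
    (hz : z ∈ V) (hz1 : z ≠ 1) (hS : ∀ t ∈ S, t * z = z * t)
    (hc : x ∈ centralizer (h.V1 : Set G)) :
    ∃ a : F, ∀ v ∈ V, ε (x * v * x⁻¹) = ap (up a) (ε v) := by
  obtain ⟨s, hs⟩ := h.semi (h.SP hx)
  obtain rfl := (h.cent_iff hx hs hz hz1 hS).1 hc
  have hlin : ∀ v ∈ V, ∀ w ∈ V, ∀ c : F, ε w = c • ε v → ε (x * w * x⁻¹) = c • ε (x * v * x⁻¹) :=
    fun v hv w hw c hcw => hs v hv w hw c hcw
  obtain ⟨w, hw, hw1⟩ := h.surj ![0, 1]
  obtain ⟨u, hu, hu1⟩ := h.surj ![1, 0]
  have huV : u ∈ h.V1 := ⟨hu, by rw [hu1]; rfl⟩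
  have hxu : x * u * x⁻¹ = u := by rw [← mem_centralizer_iff.1 hc u huV, mul_inv_cancel_right]
  set μ := ε (x * w * x⁻¹) 1 with hμ
  -- the formula for one element
  have key : ∀ v ∈ V, ε (x * v * x⁻¹) = ![ε v 0 + ε v 1 * ε (x * w * x⁻¹) 0, ε v 1 * μ] := by
    intro v hv
    obtain ⟨v1, hv1, hv1e⟩ := h.surj (ε v 0 • ![1, 0])
    obtain ⟨v2, hv2, hv2e⟩ := h.surj (ε v 1 • ![0, 1])
    have h1 : v = v1 * v2 := by
      refine h.inj hv (mul_mem hv1 hv2) ?_
      rw [h.mul _ hv1 _ hv2, hv1e, hv2e]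
      apply ext2 <;> simp
    have h2 := hlin u hu v1 hv1 (ε v 0) (by rw [hv1e, hu1])
    have h3 := hlin w hw v2 hv2 (ε v 1) (by rw [hv2e, hw1])
    have e : x * v * x⁻¹ = (x * v1 * x⁻¹) * (x * v2 * x⁻¹) := by rw [h1]; group
    rw [e, h.mul _ (h.conj_mem (h.SP hx) hv1) _ (h.conj_mem (h.SP hx) hv2), h2, h3, hxu, hu1]
    apply ext2
    · simp
    · simp [hμ]
  -- `μ = 1`
  have hpow : ∀ n : ℕ, ∀ v ∈ V, ε (x ^ n * v * (x ^ n)⁻¹) 1 = ε v 1 * μ ^ n := by
    intro n
    induction n with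
    | zero => intro v _; simp
    | succ n ih =>
      intro v hv
      have e : x ^ (n + 1) * v * (x ^ (n + 1))⁻¹ = x ^ n * (x * v * x⁻¹) * (x ^ n)⁻¹ := by
        rw [pow_succ]; group
      rw [e, ih _ (h.conj_mem (h.SP hx) hv), key v hv, pow_succ]
      simp only [Matrix.cons_val_one, Matrix.cons_val_fin_one]
      ring
  obtain ⟨k, hk⟩ := hS2 ⟨x, hx⟩
  have hk' : x ^ 2 ^ k = 1 := congrArg Subtype.val hk
  have h1 := hpow (2 ^ k) w hw
  rw [hk', hw1] at h1
  have h2 : μ ^ 2 ^ k = 1 := by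
    have e : (1 : G) * w * (1 : G)⁻¹ = w := by group
    rw [e, hw1] at h1
    simpa using h1.symm
  have h3 : μ = 1 := by
    have h4 : (μ - 1) ^ 2 ^ k = 0 := by
      rw [sub_pow_char_pow, h2, one_pow, sub_self]
    exact sub_eq_zero.1 ((pow_eq_zero_iff (by positivity)).1 h4)
  refine ⟨ε (x * w * x⁻¹) 0, fun v hv => ?_⟩
  rw [key v hv, h3]
  apply ext2
  · rw [ap_zero', up_00, up_01]; simp [mul_comm]
  · rw [ap_one', up_10, up_11]; simp

omit h in
theorem Semi.mul {g k : G} {s t : F ≃+* F} (hk : k ∈ normalizer (V : Set G)) (hs : Semi V ε g s)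
    (ht : Semi V ε k t) : Semi V ε (g * k) (s * t) := by
  intro v hv w hw c hc
  have h1 := ht v hv w hw c hc
  have h2 := hs _ (norm_mem hk hv) _ (norm_mem hk hw) _ h1
  have e : ∀ y : G, g * k * y * (g * k)⁻¹ = g * (k * y * k⁻¹) * g⁻¹ := fun y => by group
  rw [e, e, h2]
  rfl

theorem Semi.unique {g : G} {s t : F ≃+* F} (hg : g ∈ P) (hs : Semi V ε g s) (ht : Semi V ε g t) : s = t := by
  obtain ⟨v, hv, hv1⟩ := h.surj ![1, 0]
  have hv1' : v ≠ 1 := by
    rintro rfl
    rw [h.one] at hv1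
    have := congrFun hv1 0
    simp at this
  have hgv : g * v * g⁻¹ ≠ 1 := by
    intro h1
    apply hv1'
    have : v = g⁻¹ * (g * v * g⁻¹) * g := by group
    rw [this, h1]; group
  ext c
  obtain ⟨w, hw, hw1⟩ := h.surj (c • ε v)
  have h1 := hs v hv w hw c hw1
  rw [ht v hv w hw c hw1] at h1
  exact (smul_left_injective F (h.ne_zero (h.conj_mem hg hv) hgv) h1).symm

theorem Semi.sq {g : G} {s : F ≃+* F} (hg : g ∈ P) (hs : Semi V ε g s) (hg2 : g * g = 1) : s * s = 1 := by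
  refine Semi.unique h (one_mem P) ?_ (fun v _ w _ c hc => ?_)
  · rw [← hg2]
    exact hs.mul (h.PV hg) hs
  · simpa using hc

/-- Two elements of order two of `S` which do not centralise `V₁`: their product does. -/
theorem mul_mem_cent [Finite F] {z : G} (hz : z ∈ V) (hz1 : z ≠ 1) (hS : ∀ t ∈ S, t * z = z * t) {x y : G}
    (hx : x ∈ S) (hy : y ∈ S) (hx2 : x * x = 1) (hy2 : y * y = 1)
    (hxc : x ∉ centralizer (h.V1 : Set G)) (hyc : y ∉ centralizer (h.V1 : Set G)) :
    x * y ∈ centralizer (h.V1 : Set G) := by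
  obtain ⟨s, hs⟩ := h.semi (h.SP hx)
  obtain ⟨t, ht⟩ := h.semi (h.SP hy)
  have h1 := hs.mul (h.PV (h.SP hy)) ht
  rw [h.cent_iff (mul_mem hx hy) h1 hz hz1 hS]
  have h2 := Semi.sq h (h.SP hx) hs hx2
  have h3 := Semi.sq h (h.SP hy) ht hy2
  have h4 := unique_invol F (σ := s) (τ := t) (fun h3 => hxc ((h.cent_iff hx hs hz hz1 hS).2 h3))
    (fun h3 => hyc ((h.cent_iff hy ht hz hz1 hS).2 h3)) h2 h3
  rw [h4]
  exact h3

end Co

/-- **Elementary abelian 2-subgroups of `N_G(V₁) / C_G(V₁)` have order at most 2.** -/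
theorem Co.relIndex_le [Finite G] [Finite F] (S : Sylow 2 G) {P V : Subgroup G} {ε : G → Fin 2 → F}
    (h : Co F (S : Subgroup G) P V ε) {z : G} (hz : z ∈ V) (hz1 : z ≠ 1)
    (hS : ∀ t ∈ (S : Subgroup G), t * z = z * t) {A : Subgroup G}
    (hA : A ≤ normalizer (h.V1 : Set G)) (hA2 : ∀ a ∈ A, a ^ 2 = 1) :
    (centralizer (h.V1 : Set G)).relIndex A ≤ 2 := by
  have hAp : IsPGroup 2 A := by
    rintro ⟨a, ha⟩
    exact ⟨1, Subtype.ext (by simpa using hA2 a ha)⟩
  obtain ⟨n, hn, h1⟩ := FFThm.exists_conj_le S h.S_norm_V1 hAp hA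
  have hcn : ∀ x : G, n * x * n⁻¹ ∈ centralizer (h.V1 : Set G) ↔ x ∈ centralizer (h.V1 : Set G) := by
    intro x
    exact ((mem_normalizer_iff.1 (NOne.LemmaT.normalizer_le_normalizer_centralizer _ hn)) x).symm
  have hsq : ∀ a ∈ A, (n * a * n⁻¹) * (n * a * n⁻¹) = 1 := by
    intro a ha
    have e : (n * a * n⁻¹) * (n * a * n⁻¹) = n * (a * a) * n⁻¹ := by group
    have h3 := hA2 a ha
    rw [pow_two] at h3
    rw [e, h3, mul_one, mul_inv_cancel]
  have hmem : ∀ a ∈ A, n * a * n⁻¹ ∈ (S : Subgroup G) := fun a ha => h1 (mem_map.2 ⟨a, ha, rfl⟩)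
  refine relIndex_le_two fun a ha haH b hb hbH => ?_
  rw [← hcn]
  have e : n * (a * b) * n⁻¹ = (n * a * n⁻¹) * (n * b * n⁻¹) := by group
  rw [e]
  exact h.mul_mem_cent hz hz1 hS (hmem a ha) (hmem b hb) (hsq a ha) (hsq b hb)
    (fun h2 => haH ((hcn a).1 h2)) (fun h2 => hbH ((hcn b).1 h2))

end Cfsg.Agent.Omega.NO1.NatA

end

section


/-!
# THEOREM NAT (#13408), step (0): the dichotomy

`Cfg S P`, `V = zl S P` with coordinates `Co F S P V ε`, `Q = O₂(C)`, `V₁ = {ε v 1 = 0}`.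

* `dich` : `|F| = 4` and `|Z| = 2`, or `V ∩ Q = V₁` and `Q ≤ C_G(V₁)`.
-/

set_option autoImplicit false
set_option linter.unusedSectionVars false

namespace Cfsg.Agent.Omega.NO1.NatA

open Subgroup Cfsg Cfsg.Agent.Omega.NoFF.Basic Cfsg.Agent.Omega.NOne.Frame
open Cfsg.Agent.Lib.SL2Mat Cfsg.Agent.Omega.NOne.NearFF
open Cfsg.Agent.Omega.NatPair (ap ap_zero' ap_one' ext2)
open Cfsg.Agent.ZN (o2 zc zl)
open Cfsg.Agent.Omega.NoFF.LinesPlug (CC)
open scoped Pointwise

universe u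

variable {G : Type u} [Group G] {F : Type} [Field F]

namespace Co

variable {S P V : Subgroup G} {ε : G → Fin 2 → F} (h : Co F S P V ε)
include h

/-- the commutator with an upper unitriangular element -/
theorem comm_up [CharP F 2] {x v : G} {a : F} (hxV : x ∈ normalizer (V : Set G))
    (hx : ∀ v ∈ V, ε (x * v * x⁻¹) = ap (up a) (ε v)) (hv : v ∈ V) :
    ε (v * x * v⁻¹ * x⁻¹) = ![a * ε v 1, 0] := by
  have e : v * x * v⁻¹ * x⁻¹ = v * (x * v⁻¹ * x⁻¹) := by group
  rw [e, h.mul _ hv _ (norm_mem hxV (inv_mem hv)), hx _ (inv_mem hv), h.inv hv]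
  apply ext2
  · rw [Pi.add_apply, ap_zero', up_00, up_01]
    simp [CharTwo.neg_eq]
    rw [← add_assoc, CharTwo.add_self_eq_zero, zero_add]
  · rw [Pi.add_apply, ap_one', up_10, up_11]
    simp

theorem comm_up_mem [CharP F 2] {x v : G} {a : F} (hxV : x ∈ normalizer (V : Set G))
    (hx : ∀ v ∈ V, ε (x * v * x⁻¹) = ap (up a) (ε v)) (hv : v ∈ V) : v * x * v⁻¹ * x⁻¹ ∈ h.V1 := by
  refine ⟨?_, by rw [h.comm_up hxV hx hv]; rfl⟩
  have e : v * x * v⁻¹ * x⁻¹ = v * (x * v⁻¹ * x⁻¹) := by group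
  rw [e]
  exact mul_mem hv (norm_mem hxV (inv_mem hv))

theorem exists_comm_up [CharP F 2] {x e : G} {a : F} (hxV : x ∈ normalizer (V : Set G))
    (hx : ∀ v ∈ V, ε (x * v * x⁻¹) = ap (up a) (ε v)) (ha : a ≠ 0) (he : e ∈ h.V1) :
    ∃ v ∈ V, v * x * v⁻¹ * x⁻¹ = e := by
  obtain ⟨v, hv, hv1⟩ := h.surj ![0, ε e 0 * a⁻¹]
  refine ⟨v, hv, h.inj (h.comm_up_mem hxV hx hv).1 he.1 ?_⟩
  rw [h.comm_up hxV hx hv, hv1]
  apply ext2
  · simp
    rw [mul_comm, inv_mul_cancel_right₀ ha]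
  · rw [he.2]; rfl

/-- `up a` centralises `V` iff `a = 0`. -/
theorem up_cent {x : G} {a : F} (hxV : x ∈ normalizer (V : Set G))
    (hx : ∀ v ∈ V, ε (x * v * x⁻¹) = ap (up a) (ε v)) : x ∈ centralizer (V : Set G) ↔ a = 0 := by
  constructor
  · intro hc
    obtain ⟨v, hv, hv1⟩ := h.surj ![0, 1]
    have h1 := hx v hv
    rw [← mem_centralizer_iff.1 hc v hv, mul_inv_cancel_right, hv1] at h1
    have h2 := congrFun h1 0
    rw [ap_zero', up_00, up_01] at h2
    simpa using h2.symm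
  · rintro rfl
    refine mem_centralizer_iff.2 fun v hv => ?_
    have h1 : x * v * x⁻¹ = v := by
      refine h.inj (norm_mem hxV hv) hv ?_
      rw [hx v hv]
      apply ext2
      · rw [ap_zero', up_00, up_01]; ring
      · rw [ap_one', up_10, up_11]; ring
    calc v * x = (x * v * x⁻¹) * x := by rw [h1]
      _ = x * v := by group

/-- `[V, x] ≤ V₁` implies that the field automorphism of `x` is trivial. -/
theorem eq_one_of_comm {x : G} {s : F ≃+* F} (hx : x ∈ P) (hs : Semi V ε x s)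
    (hc : ∀ v ∈ V, v * x * v⁻¹ * x⁻¹ ∈ h.V1) : s = 1 := by
  have h1 : ∀ v ∈ V, ε (x * v * x⁻¹) 1 = ε v 1 := by
    intro v hv
    have h2 := (hc v hv).2
    have e : v * x * v⁻¹ * x⁻¹ = v * (x * v * x⁻¹)⁻¹ := by group
    rw [e, h.mul _ hv _ (inv_mem (h.conj_mem hx hv)), h.inv (h.conj_mem hx hv), Pi.add_apply,
      Pi.neg_apply, ← sub_eq_add_neg] at h2
    exact (sub_eq_zero.1 h2).symm
  obtain ⟨v, hv, hv1⟩ := h.surj ![0, 1]
  ext c
  obtain ⟨w, hw, hwc⟩ := h.surj (c • ε v)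
  have h2 := congrFun (hs v hv w hw c hwc) 1
  rw [Pi.smul_apply, h1 v hv, h1 w hw, hwc, Pi.smul_apply, hv1] at h2
  simpa using h2.symm

/-- **The linear case.** -/
theorem lin_case [Finite G] [Finite F] [CharP F 2] (hS2 : IsPGroup 2 S) {z : G} (hz : z ∈ V) (hz1 : z ≠ 1)
    (hS : ∀ t ∈ S, t * z = z * t) {E D F' Q : Subgroup G} {v : G} (hn : Near V E D F' v)
    (hE : E = V ⊓ Q) (hDE : D ≠ E) (hVQ : V ≤ normalizer (Q : Set G)) (hQS : Q ≤ S) (hF' : F' ≤ Q)
    (hlin : F' ≤ centralizer (h.V1 : Set G)) : E = h.V1 ∧ Q ≤ centralizer (h.V1 : Set G) := by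
  have hSV : S ≤ normalizer (V : Set G) := h.SP.trans h.PV
  obtain ⟨f, hf, hfD⟩ : ∃ f ∈ F', f ∉ D := by
    by_contra hcon
    push Not at hcon
    apply hDE
    have h1 := hn.card
    rw [relIndex_eq_one.2 hcon] at h1
    exact le_antisymm hn.DE (relIndex_eq_one.1 h1.symm)
  have hup : ∀ x ∈ F', ∃ a : F, ∀ v ∈ V, ε (x * v * x⁻¹) = ap (up a) (ε v) :=
    fun x hx => h.exists_up hS2 (hQS (hF' hx)) hz hz1 hS (hlin hx)
  have hnV : ∀ x ∈ F', x ∈ normalizer (V : Set G) := fun x hx => hSV (hQS (hF' hx))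
  obtain ⟨a, ha⟩ := hup f hf
  have ha0 : a ≠ 0 := by
    intro h0
    have h1 : f ∈ F' ⊓ centralizer (V : Set G) := mem_inf.2 ⟨hf, (h.up_cent (hnV f hf) ha).2 h0⟩
    rw [hn.F_inf_cent] at h1
    exact hfD h1
  have hDV : D ≤ h.V1 := fun d hd => h.mem_V1_of_up ha ha0 (hn.DV hd) (hn.Dcent hd hf).symm
  have hEV : E = h.V1 := by
    apply le_antisymm
    · intro e he
      obtain ⟨f', hf', h1⟩ := hn.surj he
      obtain ⟨a', ha'⟩ := hup f' hf'
      have h2 : c v f' ∈ h.V1 := h.comm_up_mem (hnV f' hf') ha' hn.vV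
      exact inv_mem_iff.1 ((mul_mem_cancel_left h2).1 (hDV h1))
    · intro e he
      obtain ⟨w, hw, rfl⟩ := h.exists_comm_up (hnV f hf) ha ha0 he
      exact hn.comm w hw f hf
  refine ⟨hEV, fun x hx => ?_⟩
  obtain ⟨s, hs⟩ := h.semi (h.SP (hQS hx))
  rw [h.cent_iff (hQS hx) hs hz hz1 hS]
  refine h.eq_one_of_comm (h.SP (hQS hx)) hs fun v hv => ?_
  rw [← hEV, hE]
  exact comm_mem_inf hVQ ((hQS.trans h.SP).trans h.PV) hv hx

/-- `|F| = |V₁|` -/
theorem card_V1 : Nat.card h.V1 = Nat.card F := by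
  refine Nat.card_congr (Equiv.ofBijective (fun v : h.V1 => ε v 0) ⟨?_, ?_⟩)
  · intro v w hvw
    refine Subtype.ext (h.inj v.2.1 w.2.1 (ext2 hvw ?_))
    rw [v.2.2, w.2.2]
  · intro c
    obtain ⟨v, hv, hv1⟩ := h.surj ![c, 0]
    exact ⟨⟨v, hv, by rw [hv1]; rfl⟩, by change ε v 0 = c; rw [hv1]; rfl⟩

theorem card_V : Nat.card V = Nat.card F * Nat.card F := by
  have h1 : Nat.card V = Nat.card (Fin 2 → F) := by
    refine Nat.card_congr (Equiv.ofBijective (fun v : V => ε v) ⟨?_, ?_⟩)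
    · intro v w hvw
      exact Subtype.ext (h.inj v.2 w.2 hvw)
    · intro x
      obtain ⟨v, hv, hv1⟩ := h.surj x
      exact ⟨⟨v, hv⟩, hv1⟩
  rw [h1]
  simp [Nat.card_fun, pow_two]

end Co

/-! ### Counting in `F` -/

/-- the fixed field -/
theorem card_fix_sq {F : Type*} [Field F] [Finite F] {s : F ≃+* F} (hs : s ≠ 1) :
    Nat.card {c : F // s c = c} * Nat.card {c : F // s c = c} ≤ Nat.card F := by
  obtain ⟨c, hc⟩ : ∃ c, s c ≠ c := by
    by_contra h
    push Not at h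
    exact hs (by ext x; exact h x)
  rw [← Nat.card_prod]
  refine Nat.card_le_card_of_injective (fun p : {c : F // s c = c} × {c : F // s c = c} =>
    (p.1 : F) + c * p.2) ?_
  rintro ⟨⟨x, hx⟩, ⟨y, hy⟩⟩ ⟨⟨x', hx'⟩, ⟨y', hy'⟩⟩ h
  have h1 : x + c * y = x' + c * y' := h
  have h2 := congrArg s h1
  rw [map_add, map_mul, map_add, map_mul, hx, hy, hx', hy'] at h2
  have h3 : (s c - c) * (y - y') = 0 := by linear_combination h2 - h1
  have h4 : y = y' := sub_eq_zero.1 ((mul_eq_zero.1 h3).resolve_left (sub_ne_zero.2 hc))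
  subst h4
  have h5 : x = x' := add_right_cancel h1
  subst h5
  rfl

/-- the image of `c ↦ c - s c μ` -/
theorem card_image {F : Type*} [Field F] [Finite F] (s : F ≃+* F) {μ : F} (I : Set F)
    (hI : ∀ c, c - s c * μ ∈ I) : Nat.card F ≤ Nat.card I * Nat.card {c : F // s c = c} := by
  let L : F →+ F :=
    { toFun := fun c => c - s c * μ
      map_zero' := by simp
      map_add' := fun a b => by rw [map_add]; ring }
  have h1 : Nat.card L.ker ≤ Nat.card {c : F // s c = c} := by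
    by_cases h0 : ∃ c₀ ∈ L.ker, c₀ ≠ 0
    · obtain ⟨c₀, hc₀, hne⟩ := h0
      have hc0 : c₀ = s c₀ * μ := sub_eq_zero.1 hc₀
      refine Nat.card_le_card_of_injective (fun c : L.ker => (⟨(c : F) * c₀⁻¹, ?_⟩ : {c : F // s c = c})) ?_
      · have hc : (c : F) = s c * μ := sub_eq_zero.1 c.2
        have hs0 : s c₀ ≠ 0 := by
          intro h; apply hne; rw [hc0, h, zero_mul]
        have hμ : μ ≠ 0 := by
          intro h; apply hne; rw [hc0, h, mul_zero]
        rw [map_mul, map_inv₀]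
        nth_rewrite 2 [hc]
        nth_rewrite 2 [hc0]
        field_simp
      · intro a b hab
        have h2 : (a : F) * c₀⁻¹ = b * c₀⁻¹ := congrArg Subtype.val hab
        exact Subtype.ext (mul_right_cancel₀ (inv_ne_zero hne) h2)
    · push Not at h0
      have h2 : Nat.card L.ker ≤ 1 := by
        rw [Finite.card_le_one_iff_subsingleton]
        exact ⟨fun a b => Subtype.ext (by rw [h0 a a.2, h0 b b.2])⟩
      have h3 : 0 < Nat.card {c : F // s c = c} := by
        have : Nonempty {c : F // s c = c} := ⟨⟨0, map_zero s⟩⟩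
        exact Nat.card_pos
      omega
  have h2 : Nat.card L.range ≤ Nat.card I := by
    refine Nat.card_le_card_of_injective (fun y : L.range => (⟨y, ?_⟩ : I)) ?_
    · obtain ⟨c, hc⟩ := y.2
      rw [← hc]; exact hI c
    · intro a b hab
      exact Subtype.ext (congrArg (fun x : I => (x : F)) hab)
  have h3 : Nat.card F = Nat.card L.ker * Nat.card L.range := by
    have h4 := AddSubgroup.card_mul_index L.ker
    rw [AddSubgroup.index_ker] at h4
    exact h4.symm
  rw [h3, mul_comm]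
  exact Nat.mul_le_mul h2 h1

namespace Co

variable {S P V : Subgroup G} {ε : G → Fin 2 → F} (h : Co F S P V ε)
include h

/-- **The case of a field type element.** -/
theorem field_case [Finite G] [Finite F] [CharP F 2] (hS2 : IsPGroup 2 S) {z : G} (hz : z ∈ V) (hz1 : z ≠ 1)
    (hS : ∀ t ∈ S, t * z = z * t) {E D F' Q : Subgroup G} {v : G} (hn : Near V E D F' v)
    (hE : E = V ⊓ Q) (hSQ : S ≤ normalizer (Q : Set G)) (hQS : Q ≤ S)
    (hF' : F' ≤ Q) (hidx : (centralizer (h.V1 : Set G)).relIndex F' ≤ 2)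
    (hcard : Nat.card F' = Nat.card E)
    (hlin : ¬ F' ≤ centralizer (h.V1 : Set G)) : Nat.card F = 4 ∧ Nat.card E = 8 := by
  have hSV : S ≤ normalizer (V : Set G) := h.SP.trans h.PV
  rw [SetLike.le_def] at hlin
  push Not at hlin
  obtain ⟨f, hf, hfc⟩ := hlin
  have hfS : f ∈ S := hQS (hF' hf)
  have hfP : f ∈ P := h.SP hfS
  obtain ⟨s, hs⟩ := h.semi hfP
  have hs1 : s ≠ 1 := fun h1 => hfc ((h.cent_iff hfS hs hz hz1 hS).2 h1)
  set q := Nat.card F with hq
  set k := Nat.card {c : F // s c = c} with hk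
  have hkq : k * k ≤ q := card_fix_sq hs1
  -- `e ∈ E - V₁`
  obtain ⟨e, he, heV⟩ : ∃ e ∈ E, e ∉ h.V1 := by
    by_contra hcon
    push Not at hcon
    exact hs1 (h.eq_one_of_comm hfP hs fun w hw => hcon _ (hn.comm w hw f hf))
  have heV0 : ε e 1 ≠ 0 := fun h0 => heV ⟨hn.EV he, h0⟩
  -- `V₁ ≤ E`
  have hV1E : h.V1 ≤ E := by
    intro x hx
    obtain ⟨t, ht, ht1⟩ := h.unip (ε x 0 * (ε e 1)⁻¹)
    have h1 : e * t * e⁻¹ * t⁻¹ = x := by
      refine h.inj (h.comm_up_mem (hSV ht) ht1 (hn.EV he)).1 hx.1 ?_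
      rw [h.comm_up (hSV ht) ht1 (hn.EV he)]
      apply ext2
      · simp
        rw [inv_mul_cancel_right₀ heV0]
      · rw [hx.2]; rfl
    rw [← h1, hE]
    rw [hE] at he
    have e1 : e * t * e⁻¹ * t⁻¹ = e * (t * e⁻¹ * t⁻¹) := by group
    rw [e1]
    refine mul_mem he (mem_inf.2 ⟨norm_mem (hSV ht) (inv_mem he.1), norm_mem (hSQ ht) (inv_mem he.2)⟩)
  -- `|E| = q |I|`
  set I : Set F := {c | ∃ e ∈ E, ε e 1 = c} with hI
  have hEI : Nat.card E = q * Nat.card I := by
    let φ : E →* Multiplicative F :=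
      { toFun := fun x => Multiplicative.ofAdd (ε x 1)
        map_one' := by
          change Multiplicative.ofAdd (ε (1 : G) 1) = 1
          rw [h.one]; rfl
        map_mul' := fun x y => by
          change Multiplicative.ofAdd (ε ((x : G) * y) 1) = _
          rw [h.mul _ (hn.EV x.2) _ (hn.EV y.2)]; rfl }
    have h1 : φ.ker = h.V1.subgroupOf E := by
      ext x
      rw [MonoidHom.mem_ker, mem_subgroupOf]
      change Multiplicative.ofAdd (ε x 1) = 1 ↔ _
      rw [ofAdd_eq_one]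
      exact ⟨fun h1 => ⟨hn.EV x.2, h1⟩, fun h1 => h1.2⟩
    have h2 := Subgroup.card_mul_index φ.ker
    rw [index_ker, h1, Nat.card_congr (subgroupOfEquivOfLe hV1E).toEquiv, h.card_V1] at h2
    rw [← h2]
    congr 1
    refine Nat.card_congr (Equiv.ofBijective (fun y : φ.range => (⟨Multiplicative.toAdd (y : Multiplicative F), ?_⟩ : I))
      ⟨?_, ?_⟩)
    · obtain ⟨x, hx⟩ := y.2
      exact ⟨x, x.2, by rw [← hx]; rfl⟩
    · intro a b hab
      exact Subtype.ext (congrArg (fun x : I => Multiplicative.ofAdd (x : F)) hab)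
    · rintro ⟨c, x, hx, rfl⟩
      exact ⟨⟨φ ⟨x, hx⟩, ⟨x, hx⟩, rfl⟩, rfl⟩
  -- `q ≤ |I| k`
  have hIk : q ≤ Nat.card I * k := by
    obtain ⟨w, hw, hw1⟩ := h.surj ![0, 1]
    refine card_image s (μ := ε (f * w * f⁻¹) 1) I fun c => ?_
    obtain ⟨u, hu, hu1⟩ := h.surj (c • ε w)
    refine ⟨_, hn.comm u hu f hf, ?_⟩
    have e1 : u * f * u⁻¹ * f⁻¹ = u * (f * u * f⁻¹)⁻¹ := by group
    rw [e1, h.mul _ hu _ (inv_mem (h.conj_mem hfP hu)), h.inv (h.conj_mem hfP hu), Pi.add_apply,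
      Pi.neg_apply, hs w hw u hu c hu1, hu1, hw1]
    simp [sub_eq_add_neg]
  -- the upper bound
  have hup : Nat.card E ≤ 2 * q := by
    set F₀ := F' ⊓ centralizer (h.V1 : Set G) with hF₀
    have h1 : Nat.card F' ≤ 2 * Nat.card F₀ := by
      have h2 := relIndex_mul_relIndex ⊥ F₀ F' bot_le inf_le_left
      simp only [relIndex_bot_left] at h2
      have h3 : F₀.relIndex F' = (centralizer (h.V1 : Set G)).relIndex F' := inf_relIndex_left _ _
      rw [h3] at h2
      rw [← h2, mul_comm]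
      exact Nat.mul_le_mul_right _ hidx
    have h2 : Nat.card F₀ ≤ q := by
      by_cases hcase : F₀ ≤ centralizer (V : Set G)
      · -- `F₀ ≤ D ≤ C_V(f)`
        have h3 : F₀ ≤ D := by
          rw [← hn.F_inf_cent]
          exact le_inf inf_le_left hcase
        have h4 : Nat.card D ≤ q := by
          obtain ⟨c, hc⟩ : ∃ c, s c ≠ c := by
            by_contra h
            push Not at h
            exact hs1 (by ext x; exact h x)
          have hfix : ∀ d ∈ D, f * d * f⁻¹ = d := fun d hd => by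
            rw [← hn.Dcent hd hf, mul_inv_cancel_right]
          have hsd : ∀ d ∈ D, ∀ w ∈ V, ε w = c • ε d → ε (f * w * f⁻¹) = s c • ε d := by
            intro d hd w hw hwc
            rw [hs d (hn.DV hd) w hw c hwc, hfix d hd]
          have hinj : Function.Injective (fun p : D × D => (ε p.1 + c • ε p.2 : Fin 2 → F)) := by
            rintro ⟨⟨x, hx⟩, ⟨y, hy⟩⟩ ⟨⟨x', hx'⟩, ⟨y', hy'⟩⟩ hxy
            have h1 : ε x + c • ε y = ε x' + c • ε y' := hxy
            obtain ⟨w, hw, hwc⟩ := h.surj (c • ε y)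
            obtain ⟨w', hw', hwc'⟩ := h.surj (c • ε y')
            have h5 : x * w = x' * w' := by
              refine h.inj (mul_mem (hn.DV hx) hw) (mul_mem (hn.DV hx') hw') ?_
              rw [h.mul _ (hn.DV hx) _ hw, h.mul _ (hn.DV hx') _ hw', hwc, hwc', h1]
            have h6 : ε x + s c • ε y = ε x' + s c • ε y' := by
              rw [← hsd y hy w hw hwc, ← hsd y' hy' w' hw' hwc']
              have e1 : (f * x * f⁻¹) * (f * w * f⁻¹) = (f * x' * f⁻¹) * (f * w' * f⁻¹) := by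
                have e2 : (f * x * f⁻¹) * (f * w * f⁻¹) = f * (x * w) * f⁻¹ := by group
                rw [e2, h5]; group
              rw [hfix x hx, hfix x' hx'] at e1
              rw [← h.mul _ (hn.DV hx) _ (h.conj_mem hfP hw), e1,
                h.mul _ (hn.DV hx') _ (h.conj_mem hfP hw')]
            have h7 : (s c - c) • (ε y - ε y') = 0 := by
              have h8 : ε x - ε x' = c • ε y' - c • ε y := by
                rw [sub_eq_sub_iff_add_eq_add, h1, add_comm]
              have h9 : ε x - ε x' = s c • ε y' - s c • ε y := by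
                rw [sub_eq_sub_iff_add_eq_add, h6, add_comm]
              rw [h8] at h9
              rw [sub_smul, smul_sub, smul_sub]
              have h10 : s c • ε y - s c • ε y' = c • ε y - c • ε y' := by
                rw [← neg_sub, ← h9, neg_sub]
              rw [h10, sub_self]
            rcases smul_eq_zero.1 h7 with h8 | h8
            · exact absurd (sub_eq_zero.1 h8) hc
            · have h9 : y = y' := h.inj (hn.DV hy) (hn.DV hy') (sub_eq_zero.1 h8)
              subst h9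
              have h10 : x = x' := h.inj (hn.DV hx) (hn.DV hx') (add_right_cancel h1)
              subst h10
              rfl
          have h5 := Nat.card_le_card_of_injective _ hinj
          have h6 : Nat.card (Fin 2 → F) = q * q := by simp [Nat.card_fun, pow_two, hq]
          rw [Nat.card_prod, h6] at h5
          by_contra hcon
          push Not at hcon
          exact absurd h5 (not_le.2 (Nat.mul_lt_mul_of_lt_of_lt hcon hcon))
        exact (Subgroup.card_le_of_le h3).trans h4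
      · -- a linear element
        rw [SetLike.le_def] at hcase
        push Not at hcase
        obtain ⟨f₀, hf₀, hf₀c⟩ := hcase
        have hnV : ∀ x ∈ F₀, x ∈ normalizer (V : Set G) := fun x hx => hSV (hQS (hF' hx.1))
        obtain ⟨a₀, ha₀⟩ := h.exists_up hS2 (hQS (hF' hf₀.1)) hz hz1 hS hf₀.2
        have ha0 : a₀ ≠ 0 := fun h0 => hf₀c ((h.up_cent (hnV _ hf₀) ha₀).2 h0)
        have hDV : D ≤ h.V1 := fun d hd =>
          h.mem_V1_of_up ha₀ ha0 (hn.DV hd) (hn.Dcent hd hf₀.1).symm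
        have hzV := h.fix_mem_V1 hz hS
        have hDk : Nat.card D ≤ k := by
          have hex : ∀ d : D, ∃ c : F, ε d = c • ε z := fun d => h.exists_smul hzV hz1 (hDV d.2)
          choose κ hκ using hex
          have hfz : f * z * f⁻¹ = z := by rw [hS f hfS, mul_inv_cancel_right]
          refine Nat.card_le_card_of_injective (fun d : D => (⟨κ d, ?_⟩ : {c : F // s c = c})) ?_
          · have h3 := hs z hz d (hn.DV d.2) (κ d) (hκ d)
            have h4 : f * d * f⁻¹ = d := by rw [← hn.Dcent d.2 hf, mul_inv_cancel_right]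
            rw [h4, hfz, hκ d] at h3
            exact (smul_left_injective F (h.ne_zero hz hz1) h3).symm
          · intro a b hab
            have h3 : κ a = κ b := congrArg Subtype.val hab
            refine Subtype.ext (h.inj (hn.DV a.2) (hn.DV b.2) ?_)
            rw [hκ a, hκ b, h3]
        have hF₀D : Nat.card F₀ ≤ Nat.card D * Nat.card D := by
          let φ : F₀ →* G :=
            { toFun := fun x => c e x
              map_one' := by simp [c]
              map_mul' := fun x y => hn.c_mul_right' he x.2.1 y.2.1 }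
          have h3 := Subgroup.card_mul_index φ.ker
          rw [index_ker] at h3
          have h4 : Nat.card φ.range ≤ Nat.card D := by
            refine Subgroup.card_le_of_le ?_
            rintro _ ⟨x, rfl⟩
            exact hn.c_memD he x.2.1
          have h5 : Nat.card φ.ker ≤ Nat.card D := by
            refine Nat.card_le_card_of_injective (fun x : φ.ker => (⟨(x : F₀), ?_⟩ : D)) ?_
            · rw [← hn.F_inf_cent]
              refine mem_inf.2 ⟨(x : F₀).2.1, ?_⟩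
              obtain ⟨a, ha⟩ := h.exists_up hS2 (hQS (hF' (x : F₀).2.1)) hz hz1 hS (x : F₀).2.2
              rw [h.up_cent (hnV _ (x : F₀).2) ha]
              have h6 : e * (x : F₀) * e⁻¹ * ((x : F₀) : G)⁻¹ = 1 := x.2
              have h7 := h.comm_up (hnV _ (x : F₀).2) ha (hn.EV he)
              rw [h6, h.one] at h7
              have h8 := congrFun h7 0
              simp only [Pi.zero_apply, Matrix.cons_val_zero] at h8
              exact (mul_eq_zero.1 h8.symm).resolve_right heV0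
            · intro a b hab
              have h6 := congrArg (fun x : D => (x : G)) hab
              exact Subtype.ext (Subtype.ext h6)
          rw [← h3]
          exact Nat.mul_le_mul h5 h4
        exact hF₀D.trans ((Nat.mul_le_mul hDk hDk).trans hkq)
    omega
  -- the conclusion
  have hqpos : 0 < q := Nat.card_pos
  have h4 : q ≤ 4 := by
    have h1 : q * q ≤ 2 * q * k := by
      calc q * q ≤ q * (Nat.card I * k) := Nat.mul_le_mul_left _ hIk
        _ = Nat.card E * k := by rw [hEI]; ring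
        _ ≤ 2 * q * k := Nat.mul_le_mul_right _ hup
    have h2 : q ≤ 2 * k := by
      have h3 : q * q ≤ q * (2 * k) := by
        calc q * q ≤ 2 * q * k := h1
          _ = q * (2 * k) := by ring
      exact Nat.le_of_mul_le_mul_left h3 hqpos
    have h3 : q * q ≤ 4 * q := by
      calc q * q ≤ (2 * k) * (2 * k) := Nat.mul_le_mul h2 h2
        _ = 4 * (k * k) := by ring
        _ ≤ 4 * q := Nat.mul_le_mul_left _ hkq
    exact Nat.le_of_mul_le_mul_right h3 hqpos
  have h3 : 2 < q := by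
    have h1 := NatPair.card_ringAut_lt F
    have : Finite (F ≃+* F) := Finite.of_injective (fun σ : F ≃+* F => (σ : F → F)) DFunLike.coe_injective
    have h2 : 1 < Nat.card (F ≃+* F) := by
      rw [Finite.one_lt_card_iff_nontrivial]
      exact ⟨⟨s, 1, hs1⟩⟩
    omega
  have hF2 : Fintype F := Fintype.ofFinite F
  obtain ⟨n, -, hn'⟩ := FiniteField.card F 2
  have h5 : q = 2 ^ (n : ℕ) := by rw [hq, Nat.card_eq_fintype_card, hn']
  have h7 : q = 4 := by
    rcases Nat.lt_or_ge (n : ℕ) 2 with h6 | h6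
    · have : (2 : ℕ) ^ (n : ℕ) ≤ 2 ^ 1 := Nat.pow_le_pow_right (by norm_num) (by omega)
      omega
    · have : (2 : ℕ) ^ 2 ≤ 2 ^ (n : ℕ) := Nat.pow_le_pow_right (by norm_num) h6
      omega
  refine ⟨h7, le_antisymm (by omega) ?_⟩
  have hk2 : k ≤ 2 := by
    by_contra hcon
    push Not at hcon
    have : 3 * 3 ≤ k * k := Nat.mul_le_mul hcon hcon
    omega
  have h8 : q ≤ Nat.card I * 2 := hIk.trans (Nat.mul_le_mul_left _ hk2)
  rw [hEI, h7]
  omega

end Co

end Cfsg.Agent.Omega.NO1.NatA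

end

section


/-!
# THEOREM NAT (#13408), step (3) and the output of (0)-(3)

* `exists_quad` : `Cfg S P`, `V_P` one natural `SL₂(F)`-module ⟹ `Nat4 S P` or `Quad S P …`.
-/

set_option autoImplicit false
set_option linter.unusedSectionVars false

namespace Cfsg.Agent.Omega.NO1.NatA

open Subgroup Cfsg Cfsg.Agent.Omega.NoFF.Basic Cfsg.Agent.Omega.NOne.Frame
open Cfsg.Agent.Lib.SL2Mat Cfsg.Agent.Omega.NOne.NearFF
open Cfsg.Agent.Omega.NatPair (ap ap_zero' ap_one' ext2)
open Cfsg.Agent.ZN (o2 zc zl)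
open Cfsg.Agent.Omega.NoFF.LinesPlug (CC)
open Cfsg.Agent.Omega.FFThm (NatK)
open scoped Pointwise

universe u

/-! ### The field with four elements -/

theorem four_cover {F : Type*} [Field F] [Finite F] [CharP F 2] (h4 : Nat.card F = 4) {a b : F} (ha : a ≠ 0)
    (hb : b ≠ 0) (hab : a ≠ b) (c : F) : c = 0 ∨ c = a ∨ c = b ∨ c = a + b := by
  classical
  have := Fintype.ofFinite F
  have h1 : a + b ≠ 0 := fun h => hab (CharTwo.add_eq_zero.1 h)
  have h2 : ({0, a, b, a + b} : Finset F).card = 4 := by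
    rw [Finset.card_insert_of_notMem, Finset.card_insert_of_notMem, Finset.card_insert_of_notMem,
      Finset.card_singleton]
    · simp only [Finset.mem_singleton]
      exact fun h => ha (right_eq_add.1 h)
    · simp only [Finset.mem_insert, Finset.mem_singleton, not_or]
      exact ⟨hab, fun h => hb (left_eq_add.1 h)⟩
    · simp only [Finset.mem_insert, Finset.mem_singleton, not_or]
      exact ⟨ha.symm, hb.symm, h1.symm⟩
  have h3 : ({0, a, b, a + b} : Finset F) = Finset.univ := by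
    refine Finset.eq_univ_of_card _ ?_
    rw [h2, ← h4, Nat.card_eq_fintype_card]
  have h4' : c ∈ ({0, a, b, a + b} : Finset F) := by rw [h3]; exact Finset.mem_univ _
  simpa [Finset.mem_insert, Finset.mem_singleton] using h4'

theorem exists_lam {F : Type*} [Field F] [Finite F] [CharP F 2] (h4 : Nat.card F = 4) :
    ∃ l : F, l ≠ 0 ∧ l ≠ 1 ∧ l ^ 3 = 1 := by
  classical
  have := Fintype.ofFinite F
  have h1 : ∃ l : F, l ≠ 0 ∧ l ≠ 1 := by
    by_contra hcon
    push Not at hcon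
    have h2 : (Finset.univ : Finset F) ⊆ {0, 1} := by
      intro x _
      simp only [Finset.mem_insert, Finset.mem_singleton]
      by_cases hx : x = 0
      · exact Or.inl hx
      · exact Or.inr (hcon x hx)
    have h3 := Finset.card_le_card h2
    have h5 : ({0, 1} : Finset F).card ≤ 2 := Finset.card_le_two
    rw [Finset.card_univ, ← Nat.card_eq_fintype_card, h4] at h3
    omega
  obtain ⟨l, hl0, hl1⟩ := h1
  refine ⟨l, hl0, hl1, ?_⟩
  have h2 := FiniteField.pow_card_sub_one_eq_one l hl0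
  rwa [← Nat.card_eq_fintype_card, h4] at h2

/-! ### Subgroups `⟨A^C⟩` -/

namespace A3

section ncl

variable {G : Type u} [Group G]

theorem le_ncl {C A : Subgroup G} : A ≤ ncl C A := fun a ha =>
  subset_closure ⟨1, one_mem _, a, ha, by group⟩

theorem conj_mem_ncl {C A : Subgroup G} {c a : G} (hc : c ∈ C) (ha : a ∈ A) : c * a * c⁻¹ ∈ ncl C A :=
  subset_closure ⟨c, hc, a, ha, rfl⟩

theorem ncl_le {C A B : Subgroup G} (hA : A ≤ B) (hC : C ≤ normalizer (B : Set G)) : ncl C A ≤ B := by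
  rw [ncl, closure_le]
  rintro x ⟨c, hc, a, ha, rfl⟩
  exact norm_mem (hC hc) (hA ha)

theorem norm_ncl {C A : Subgroup G} : C ≤ normalizer (ncl C A : Set G) := by
  have key : ∀ c ∈ C, ∀ x ∈ ncl C A, c * x * c⁻¹ ∈ ncl C A := by
    intro c hc x hx
    have h1 : ncl C A ≤ (ncl C A).comap (MulAut.conj c).toMonoidHom := by
      conv_lhs => rw [ncl]
      rw [closure_le]
      rintro y ⟨d, hd, a, ha, rfl⟩
      change c * (d * a * d⁻¹) * c⁻¹ ∈ ncl C A
      have e : c * (d * a * d⁻¹) * c⁻¹ = (c * d) * a * (c * d)⁻¹ := by group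
      rw [e]
      exact conj_mem_ncl (mul_mem hc hd) ha
    exact h1 hx
  intro c hc
  rw [mem_normalizer_iff]
  intro x
  refine ⟨key c hc x, fun hx => ?_⟩
  have h6 := key c⁻¹ (inv_mem hc) _ hx
  have e : c⁻¹ * (c * x * c⁻¹) * c⁻¹⁻¹ = x := by group
  rwa [e] at h6

end ncl

end A3

open A3

variable {G : Type u} [Group G] [Finite G]

/-- The coordinates of `V_P`. -/
theorem co_of {F : Type} [Field F] {S : Sylow 2 G} {P : Subgroup G} (h : Cfg S P)
    (N : NatK F (S : Subgroup G) P (zl (S : Subgroup G) P) ⊥ 1) :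
    Co F (S : Subgroup G) P (zl (S : Subgroup G) P) (fun g => N.e g 0) where
  PV := Cfg.P_norm_V S P
  SP := h.S_le
  VS := h.V_le_S
  comm := h.V_comm
  mul := N.natOver.mul
  surj := N.natOver.surj
  ker := fun v hv => by rw [← mem_bot]; exact N.natOver.ker v hv
  lift := fun A => by
    obtain ⟨g, hg, h1, -⟩ := N.natOver.lift A
    exact ⟨g, hg, h1⟩
  norm := N.natOver.norm
  line := fun t ht v hv => by
    obtain ⟨σ, hσ⟩ := N.line t ht
    have h1 := hσ v hv 0
    rwa [Subsingleton.elim (σ 0) 0] at h1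
  unip := fun b => by
    obtain ⟨t, ht, h1, -⟩ := N.unip fun _ => b
    exact ⟨t, ht, fun v hv => h1 v hv 0⟩

theorem card_F_of {F : Type} [Field F] [Finite F] {S P V : Subgroup G} {ε : G → Fin 2 → F}
    (M : Co F S P V ε) (h : Nat.card M.V1 = 4) : Nat.card F = 4 := by
  rw [← M.card_V1, h]

/-- a subgroup of order 2 -/
theorem eq_zpowers_of_card {Z : Subgroup G} {z : G} (hz : z ∈ Z) (hz1 : z ≠ 1) (hZ : Nat.card Z = 2) :
    Z = zpowers z := by
  refine (Subgroup.eq_of_le_of_card_ge (zpowers_le.2 hz) ?_).symm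
  rw [hZ, Nat.card_zpowers]
  have h1 : orderOf z ≠ 1 := fun h => hz1 (orderOf_eq_one_iff.1 h)
  have h2 : 0 < orderOf z := orderOf_pos z
  omega

/-- a proper nontrivial subgroup of a group of order 4 -/
theorem card_two_of_lt {A B : Subgroup G} {z : G} (hB : Nat.card B = 4) (hAB : A ≤ B) (hne : A ≠ B)
    (hz : z ∈ A) (hz1 : z ≠ 1) : Nat.card A = 2 := by
  have h1 : Nat.card A ∣ 4 := hB ▸ Subgroup.card_dvd_of_le hAB
  have h2 : Nat.card A ≠ 4 := fun h => hne (Subgroup.eq_of_le_of_card_ge hAB (by rw [h, hB]))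
  have h3 : Nat.card A ≠ 1 := fun h => hz1 (by
    have := Subgroup.card_eq_one.1 h
    rw [this] at hz
    exact mem_bot.1 hz)
  have h4 : Nat.card A ≤ 4 := Nat.le_of_dvd (by norm_num) h1
  interval_cases hA : Nat.card A
  · norm_num at h1
  · exact absurd rfl h3
  · rfl
  · norm_num at h1
  · exact absurd rfl h2

/-- **The output of (0)-(3).** -/
theorem exists_quad {F : Type} [Field F] [Finite F] [CharP F 2] {S : Sylow 2 G} {P : Subgroup G} (h : Cfg S P)
    (N : NatK F (S : Subgroup G) P (zl (S : Subgroup G) P) ⊥ 1) :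
    Nat4 (S : Subgroup G) P ∨ ∃ z V V₁ C Q, Quad S P z V V₁ C Q := by
  set V := zl (S : Subgroup G) P with hV
  have M : Co F (S : Subgroup G) P V (fun g => N.e g 0) := co_of h N
  set ε : G → _root_.Fin 2 → F := fun g => N.e g 0 with hε
  set C := CC (S : Subgroup G) with hC
  set Q := o2 C with hQ
  have hS2 := S.isPGroup'
  have hSV : (S : Subgroup G) ≤ normalizer (V : Set G) := M.SP.trans M.PV
  have hQS : Q ≤ S := h.Q_le_S
  have hSC : (S : Subgroup G) ≤ C := Cfg.S_le_CC S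
  have hCQ : C ≤ normalizer (Q : Set G) := MinSimple.VModule.le_normalizer_o2 C
  have hSQ : (S : Subgroup G) ≤ normalizer (Q : Set G) := hSC.trans hCQ
  have hVC : V ≤ C := h.V_le_CC
  have hVQ : V ≤ normalizer (Q : Set G) := hVC.trans hCQ
  -- `z`
  obtain ⟨⟨z, hzZ⟩, hz1'⟩ := Subgroup.ne_bot_iff_exists_ne_one.1
    (MinSimple.Basic.zc_ne_bot hS2 (h.ctx.sylow_ne_bot S))
  have hz1 : z ≠ 1 := fun h1 => hz1' (Subtype.ext h1)
  have hzV : z ∈ V := h.Z_le_V hzZ
  have hzS : ∀ t ∈ (S : Subgroup G), t * z = z * t := fun t ht => ZN.zc_comm hzZ ht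
  have hzV1 : z ∈ M.V1 := M.fix_mem_V1 hzV hzS
  have hZV1 : zc (S : Subgroup G) ≤ M.V1 := fun y hy =>
    M.fix_mem_V1 (h.Z_le_V hy) fun t ht => ZN.zc_comm hy ht
  have hrel : ∀ A : Subgroup G, A ≤ normalizer (M.V1 : Set G) → (∀ a ∈ A, a ^ 2 = 1) →
      (centralizer (M.V1 : Set G)).relIndex A ≤ 2 := fun A hA hA2 =>
    Co.relIndex_le S M hzV hz1 hzS hA hA2
  -- the frame
  obtain ⟨v, hv, hvQ⟩ := h.exists_v
  obtain ⟨g, hg, hfin, -, -⟩ := h.exists_near hv hvQ
  have hF'Q : MulAut.conj g • (V ⊓ Q) ≤ Q := by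
    intro x hx
    obtain ⟨y, hy, rfl⟩ := mem_conj'.1 hx
    exact norm_mem (hCQ hg) hy.2
  by_cases hlin : MulAut.conj g • (V ⊓ Q) ≤ centralizer (M.V1 : Set G)
  swap
  · -- a field type element
    left
    obtain ⟨hF4, hE8⟩ := M.field_case hS2 hzV hz1 hzS hfin.near rfl hSQ hQS hF'Q
      (hrel _ ((hF'Q.trans hQS).trans M.S_norm_V1) hfin.near.Fsq) (NOne.Choice.card_conj _ _) hlin
    refine ⟨⟨F, inferInstance, inferInstance, inferInstance, hF4, ⟨N.natOver⟩⟩, ?_, ?_⟩
    · refine card_two_of_lt (by rw [M.card_V1, hF4]) hZV1 (fun heq => hlin ?_) hzZ hz1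
      rw [← heq]
      exact (hF'Q.trans hQS).trans (ZN.le_centralizer_zc _)
    · have h1 := relIndex_mul_relIndex ⊥ (V ⊓ Q) V bot_le inf_le_left
      simp only [relIndex_bot_left] at h1
      rw [M.card_V, hF4] at h1
      have h2 : Nat.card ↥(V ⊓ Q) = 8 := hE8
      rw [h2] at h1
      change (V ⊓ Q).relIndex V = 2
      omega
  · -- the quadratic case
    right
    obtain ⟨hEV, hQc⟩ := M.lin_case hS2 hzV hz1 hzS hfin.near rfl hfin.ne hVQ hQS hF'Q hlin
    have hZne : zc (S : Subgroup G) ≠ M.V1 := by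
      intro heq
      apply hfin.ne
      refine le_antisymm inf_le_left ?_
      have h1 := h.Z_le_D hg
      rw [heq, ← hEV] at h1
      exact h1
    have hup : ∀ x ∈ (S : Subgroup G), x ∈ centralizer (M.V1 : Set G) →
        ∃ a : F, ∀ v ∈ V, ε (x * v * x⁻¹) = ap (up a) (ε v) :=
      fun x hx hxc => M.exists_up hS2 hx hzV hz1 hzS hxc
    have hreg : ∀ x ∈ (S : Subgroup G), x ∈ centralizer (M.V1 : Set G) → x ∉ centralizer (V : Set G) →
        ∀ v ∈ V, v * x = x * v → v ∈ M.V1 := by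
      intro x hx hxc hxV v hv hvx
      obtain ⟨a, ha⟩ := hup x hx hxc
      exact M.mem_V1_of_up ha (fun h0 => hxV ((M.up_cent (hSV hx) ha).2 h0)) hv hvx.symm
    have hsurj : ∀ x ∈ (S : Subgroup G), x ∈ centralizer (M.V1 : Set G) → x ∉ centralizer (V : Set G) →
        ∀ e ∈ M.V1, ∃ v ∈ V, v * x * v⁻¹ * x⁻¹ = e := by
      intro x hx hxc hxV e he
      obtain ⟨a, ha⟩ := hup x hx hxc
      exact M.exists_comm_up (hSV hx) ha (fun h0 => hxV ((M.up_cent (hSV hx) ha).2 h0)) he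
    have hsit : Sit C V M.V1 Q :=
      { char2 := h.char2C
        Q_eq := rfl
        V_le := hVC
        V_comm := M.comm
        V_sq := h.V_sq
        Q_norm := h.Q_norm_V
        V1_eq := hEV.symm
        Q_cent := hQc
        not_le := fun h1 => hvQ (h1 hv)
        reg := fun x hx hxV => hreg x (hQS hx) (hQc hx) hxV
        surj := fun x hx hxV => hsurj x (hQS hx) (hQc hx) hxV }
    obtain ⟨g₀, hsitX⟩ := hsit.exists_sitX
    have hCz : ∀ c ∈ C, c * z = z * c := fun c hc => (mem_centralizer_iff.1 hc z hzZ).symm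
    obtain ⟨hV1c, hVc⟩ := hsitX.card_four (fun A hA _ hA2 => hrel A hA hA2) hzV1 hz1 hCz
    have hF4 : Nat.card F = 4 := card_F_of M hV1c
    have hZc : Nat.card (zc (S : Subgroup G)) = 2 := card_two_of_lt hV1c hZV1 hZne hzZ hz1
    have hZz : zc (S : Subgroup G) = zpowers z := eq_zpowers_of_card hzZ hz1 hZc
    have hCz' : C = centralizer {z} := by
      rw [hC, CC, hZz, zpowers_eq_closure, centralizer_closure]
    -- the torus
    obtain ⟨l, hl0, hl1, hl3⟩ := exists_lam hF4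
    obtain ⟨y, hyP, hy⟩ := M.lift (dg l hl0)
    have hypow : ∀ n : ℕ, ∀ v ∈ V, ε (y ^ n * v * (y ^ n)⁻¹) = ![l ^ n * ε v 0, (l⁻¹) ^ n * ε v 1] := by
      intro n
      induction n with
      | zero => intro v _; apply ext2 <;> simp
      | succ n ih =>
        intro v hv
        have e : y ^ (n + 1) * v * (y ^ (n + 1))⁻¹ = y ^ n * (y * v * y⁻¹) * (y ^ n)⁻¹ := by
          rw [pow_succ]; group
        rw [e, ih _ (M.conj_mem hyP hv), hy v hv]
        apply ext2
        · simp only [Matrix.cons_val_zero, ap_zero', dg_00, dg_01, zero_mul, add_zero]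
          rw [pow_succ]; ring
        · simp only [Matrix.cons_val_one, Matrix.cons_val_fin_one, ap_one', dg_10, dg_11, zero_mul, zero_add]
          rw [pow_succ]; ring
    obtain ⟨a, m, hm, hord⟩ := Nat.exists_eq_two_pow_mul_odd (orderOf_pos y).ne'
    set t := y ^ (2 ^ (2 * a)) with ht
    have htP : t ∈ P := pow_mem hyP _
    have h4a : ∃ b, 2 ^ (2 * a) = 3 * b + 1 := by
      have h1 : (2 ^ (2 * a)) % 3 = 1 := by
        rw [pow_mul, Nat.pow_mod]; norm_num
      exact ⟨2 ^ (2 * a) / 3, by omega⟩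
    obtain ⟨b, hb⟩ := h4a
    have htact : ∀ v ∈ V, ε (t * v * t⁻¹) = ![l * ε v 0, l⁻¹ * ε v 1] := by
      intro v hv
      rw [ht, hypow _ v hv, hb, pow_succ, pow_succ, pow_mul, pow_mul, inv_pow l 3, hl3, inv_one, one_pow,
        one_mul, one_mul]
    have htodd : Odd (orderOf t) := by
      rw [ht, orderOf_pow, hord]
      have h1 : Nat.gcd (2 ^ a * m) (2 ^ (2 * a)) = 2 ^ a := by
        have e : 2 ^ (2 * a) = 2 ^ a * 2 ^ a := by rw [two_mul, pow_add]
        rw [e, Nat.gcd_mul_left]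
        have : Nat.gcd m (2 ^ a) = 1 := (Nat.Coprime.pow_right _ (Nat.coprime_two_right.2 hm))
        rw [this, mul_one]
      rw [h1, Nat.mul_div_cancel_left _ (by positivity)]
      exact hm
    have htV : t ∈ normalizer (V : Set G) := M.PV htP
    have htV1 : t ∈ normalizer (M.V1 : Set G) := by
      rw [mem_normalizer_iff]
      intro x
      constructor
      · intro hx
        refine ⟨M.conj_mem htP hx.1, ?_⟩
        rw [htact x hx.1, hx.2]; simp
      · intro hx
        have hxV : x ∈ V := (mem_normalizer_iff.1 htV x).2 hx.1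
        refine ⟨hxV, ?_⟩
        have h1 := hx.2
        rw [htact x hxV] at h1
        simp only [Matrix.cons_val_one, Matrix.cons_val_fin_one] at h1
        exact (mul_eq_zero.1 h1).resolve_left (inv_ne_zero hl0)
    have ht3 : ∀ v ∈ V, t ^ 3 * v = v * t ^ 3 := by
      intro v hv
      have h1 : t ^ 3 * v * (t ^ 3)⁻¹ = v := by
        refine M.inj (norm_mem (pow_mem htV 3) hv) hv ?_
        have e : t ^ 3 * v * (t ^ 3)⁻¹ = t * (t * (t * v * t⁻¹) * t⁻¹) * t⁻¹ := by
          have e3 : t ^ 3 = t * t * t := by rw [pow_succ, pow_two]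
          rw [e3]; group
        have hv2 := M.conj_mem htP hv
        have hv3 := M.conj_mem htP hv2
        rw [e, htact _ hv3, htact _ hv2, htact _ hv]
        have hl3' : (l⁻¹) ^ 3 = 1 := by rw [inv_pow, hl3, inv_one]
        apply ext2
        · simp only [Matrix.cons_val_zero]
          calc l * (l * (l * ε v 0)) = l ^ 3 * ε v 0 := by ring
            _ = ε v 0 := by rw [hl3, one_mul]
        · simp only [Matrix.cons_val_one, Matrix.cons_val_fin_one]
          calc l⁻¹ * (l⁻¹ * (l⁻¹ * ε v 1)) = (l⁻¹) ^ 3 * ε v 1 := by ring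
            _ = ε v 1 := by rw [hl3', one_mul]
      calc t ^ 3 * v = (t ^ 3 * v * (t ^ 3)⁻¹) * t ^ 3 := by group
        _ = v * t ^ 3 := by rw [h1]
    have htfix1 : ∀ v ∈ M.V1, t * v = v * t → v = 1 := by
      intro v hv hc
      have h1 := htact v hv.1
      rw [hc, mul_inv_cancel_right] at h1
      have h2 := congrFun h1 0
      simp only [Matrix.cons_val_zero] at h2
      refine (M.ker v hv.1).1 (ext2 ?_ hv.2)
      have h3 : (l - 1) * ε v 0 = 0 := by rw [sub_mul, ← h2, one_mul, sub_self]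
      exact (mul_eq_zero.1 h3).resolve_left (sub_ne_zero.2 hl1)
    have htfix2 : ∀ v ∈ V, t * v * t⁻¹ * v⁻¹ ∈ M.V1 → v ∈ M.V1 := by
      intro v hv hc
      refine ⟨hv, ?_⟩
      have h1 := hc.2
      rw [M.mul _ (M.conj_mem htP hv) _ (inv_mem hv), M.inv hv, htact v hv] at h1
      simp only [Pi.add_apply, Matrix.cons_val_one, Matrix.cons_val_fin_one, Pi.neg_apply] at h1
      have h3 : (l⁻¹ - 1) * ε v 1 = 0 := by rw [sub_mul, one_mul, sub_eq_add_neg]; exact h1
      refine (mul_eq_zero.1 h3).resolve_left (sub_ne_zero.2 fun h4 => hl1 ?_)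
      rw [← inv_inv l, h4, inv_one]
    -- `V₁ ≠ ⊥`
    have hV1ne : M.V1 ≠ ⊥ := fun h1 => hz1 (by rw [h1] at hzV1; exact mem_bot.1 hzV1)
    -- `V ≤ R`
    have hVR : V ≤ o2 (centralizer (M.V1 : Set G)) := by
      rcases NOne.LemmaT.lemmaT' h.ctx.char2 S hV1ne M.V1_le h.V_le_S hSV M.S_norm_V1 M.comm with h1 | ⟨h1, h2⟩
      · exact h1
      · exfalso
        set U := V ⊓ o2 (centralizer (M.V1 : Set G)) with hU
        have htU : t ∈ normalizer (U : Set G) :=
          NOne.LemmaT.le_normalizer_inf _ _ (mem_inf.2 ⟨htV, htV1⟩)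
        obtain ⟨u, hu, hu1⟩ := SetLike.exists_of_lt h1
        have hu0 : ε u 1 ≠ 0 := fun h0 => hu1 ⟨hu.1, h0⟩
        apply h2.ne
        refine le_antisymm inf_le_left fun w hw => ?_
        have htu := norm_mem htU hu
        have htu1 : ε (t * u * t⁻¹) 1 = l⁻¹ * ε u 1 := by rw [htact u hu.1]; rfl
        have hV1U : ∀ x ∈ V, ε x 1 = 0 → x ∈ U := fun x hx hx0 => h1.le ⟨hx, hx0⟩
        -- reduce to equal second coordinates
        have hred : ∀ x ∈ U, ε w 1 = ε x 1 → w ∈ U := by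
          intro x hx hwx
          have h3 : w * x⁻¹ ∈ U := by
            refine hV1U _ (mul_mem hw (inv_mem hx.1)) ?_
            rw [M.mul _ hw _ (inv_mem hx.1), M.inv hx.1, Pi.add_apply, Pi.neg_apply, hwx, add_neg_cancel]
          have h4 := mul_mem h3 hx
          rwa [inv_mul_cancel_right] at h4
        have hne : ε u 1 ≠ l⁻¹ * ε u 1 := by
          intro h3
          have h4 : (l⁻¹ - 1) * ε u 1 = 0 := by rw [sub_mul, one_mul, ← h3, sub_self]
          rcases mul_eq_zero.1 h4 with h5 | h5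
          · apply hl1
            rw [← inv_inv l, sub_eq_zero.1 h5, inv_one]
          · exact hu0 h5
        rcases four_cover hF4 hu0 (mul_ne_zero (inv_ne_zero hl0) hu0) hne (ε w 1) with h3 | h3 | h3 | h3
        · exact hV1U w hw h3
        · exact hred u hu h3
        · exact hred _ htu (by rw [h3, htu1])
        · refine hred (u * (t * u * t⁻¹)) (mul_mem hu htu) ?_
          rw [h3, M.mul _ hu.1 _ htu.1, Pi.add_apply, htu1]
    -- `Q ≤ R`
    have hHC : centralizer (M.V1 : Set G) ≤ C := by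
      rw [hCz']
      exact centralizer_le (by simpa using hzV1)
    have hQR : Q ≤ o2 (centralizer (M.V1 : Set G)) :=
      MinSimple.VModule.le_o2 hQc (MinSimple.VModule.o2_isPGroup C) (hHC.trans hCQ)
    -- `S ≰ H`
    have hSH : ¬ (S : Subgroup G) ≤ centralizer (M.V1 : Set G) := by
      intro h1
      apply hZne
      refine le_antisymm hZV1 fun x hx => ?_
      rw [ZN.mem_zc]
      refine ⟨h.V_le_S hx.1, ?_, h.V_sq x hx.1⟩
      first
        | exact mem_centralizer_iff.2 fun s hs => (mem_centralizer_iff.1 (h1 hs) x hx).symm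
        | exact fun s hs => (mem_centralizer_iff.1 (h1 hs) x hx).symm
    -- the index
    have hindex : (centralizer (M.V1 : Set G)).relIndex (normalizer (M.V1 : Set G)) = 6 := by
      have h6 := ZN.Plane.relIndex_dvd_six hV1c (le_refl (normalizer (M.V1 : Set G)))
      set H' := (centralizer (M.V1 : Set G)).subgroupOf (normalizer (M.V1 : Set G)) with hH'
      have hn : H'.Normal := normal_subgroupOf_of_le_normalizer
        (NOne.LemmaT.normalizer_le_normalizer_centralizer _)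
      have hpow : ∀ x ∈ normalizer (M.V1 : Set G), ∀ n : ℕ, H'.index ∣ n →
          x ^ n ∈ centralizer (M.V1 : Set G) := by
        intro x hx n hn'
        obtain ⟨k, rfl⟩ := hn'
        have h1 := Subgroup.pow_index_mem H' (⟨x, hx⟩ : normalizer (M.V1 : Set G))
        have h2 : x ^ H'.index ∈ centralizer (M.V1 : Set G) := h1
        rw [pow_mul]
        exact pow_mem h2 k
      change H'.index = 6
      change H'.index ∣ 6 at h6
      have hle : H'.index ≤ 6 := Nat.le_of_dvd (by norm_num) h6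
      have ht3c : t ^ 3 ∈ centralizer (M.V1 : Set G) := mem_centralizer_iff.2 fun x hx => (ht3 x hx.1).symm
      have htnot : t ∉ centralizer (M.V1 : Set G) := fun h1 =>
        hz1 (htfix1 z hzV1 (mem_centralizer_iff.1 h1 z hzV1).symm)
      have h2 : ¬ H'.index ∣ 2 := by
        intro h1
        apply htnot
        have h3 := hpow t htV1 2 h1
        have e : t = t ^ 3 * (t ^ 2)⁻¹ := by group
        rw [e]
        exact mul_mem ht3c (inv_mem h3)
      have h3 : ¬ H'.index ∣ 3 := by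
        intro h1
        apply hSH
        intro s hs
        have h3 := hpow s (M.S_norm_V1 hs) 3 h1
        obtain ⟨k, hk⟩ := hS2 ⟨s, hs⟩
        have hk' : s ^ 2 ^ k = 1 := congrArg Subtype.val hk
        have hcop : Nat.Coprime 3 (orderOf s) :=
          Nat.Coprime.coprime_dvd_right (orderOf_dvd_of_pow_eq_one hk')
            (Nat.Coprime.pow_right _ (by norm_num))
        obtain ⟨j, hj⟩ := exists_pow_eq_self_of_coprime hcop
        rw [← hj]
        exact pow_mem h3 j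
      interval_cases H'.index
      · norm_num at h6
      · exact absurd (one_dvd 2) h2
      · exact absurd (dvd_refl 2) h2
      · exact absurd (dvd_refl 3) h3
      · norm_num at h6
      · norm_num at h6
      · rfl
    -- `W₀ ≤ Ω₁(Z(Q))`
    have hV1zc : M.V1 ≤ zc Q := by
      intro x hx
      rw [ZN.mem_zc]
      have hxQ : x ∈ Q := by
        have h1 : x ∈ V ⊓ Q := by rw [hEV]; exact hx
        exact h1.2
      refine ⟨hxQ, ?_, h.V_sq x hx.1⟩
      first
        | exact mem_centralizer_iff.2 fun s hs => (mem_centralizer_iff.1 (hQc hs) x hx).symm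
        | exact fun s hs => (mem_centralizer_iff.1 (hQc hs) x hx).symm
    have hWzc : ncl C M.V1 ≤ zc Q := ncl_le hV1zc (hCQ.trans (ZN.normalizer_le_normalizer_zc Q))
    have hWQ : ncl C M.V1 ≤ Q := hWzc.trans (ZN.zc_le Q)
    have hWup : ∀ w ∈ ncl C M.V1, ∃ a : F, ∀ v ∈ V, ε (w * v * w⁻¹) = ap (up a) (ε v) :=
      fun w hw => hup w (hQS (hWQ hw)) (hQc (hWQ hw))
    -- `ν(W₀) = F`
    have hnu : ∀ c₀ : F, ∃ w ∈ ncl C M.V1, ∀ v ∈ V, ε (w * v * w⁻¹) = ap (up c₀) (ε v) := by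
      intro c₀
      by_contra hcon
      push Not at hcon
      have hnot : ∀ w ∈ ncl C M.V1, ∀ a : F, (∀ v ∈ V, ε (w * v * w⁻¹) = ap (up a) (ε v)) → a ≠ c₀ := by
        rintro w hw a ha rfl
        obtain ⟨v, hv, hne⟩ := hcon w hw
        exact hne (ha v hv)
      -- elements of `V₁^g`
      have hgW : ∀ g' ∈ C, MulAut.conj g' • (V ⊓ Q) ≤ ncl C M.V1 := by
        intro g' hg' x hx
        obtain ⟨y, hy, rfl⟩ := mem_conj'.1 hx
        rw [hEV] at hy
        exact conj_mem_ncl hg' hy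
      have hprod : ∀ w ∈ ncl C M.V1, ∀ w' ∈ ncl C M.V1, ∀ a a' : F,
          (∀ v ∈ V, ε (w * v * w⁻¹) = ap (up a) (ε v)) →
          (∀ v ∈ V, ε (w' * v * w'⁻¹) = ap (up a') (ε v)) →
          ∀ v ∈ V, ε (w * w' * v * (w * w')⁻¹) = ap (up (a + a')) (ε v) := by
        intro w hw w' hw' a a' ha ha' v hv
        have e : w * w' * v * (w * w')⁻¹ = w * (w' * v * w'⁻¹) * w⁻¹ := by group
        rw [e, ha _ (norm_mem (hSV (hQS (hWQ hw'))) hv), ha' v hv]
        apply ext2
        · simp only [ap_zero', ap_one', up_00, up_01, up_10, up_11]; ring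
        · simp only [ap_zero', ap_one', up_00, up_01, up_10, up_11]; ring
      -- an element of a frame which does not centralise `V`
      have hframe : ∀ v ∈ V, v ∉ Q → ∃ w ∈ ncl C M.V1, v * w * v⁻¹ * w⁻¹ ∉ zc (S : Subgroup G) := by
        intro v hv hvQ
        obtain ⟨g', hg', hfin', -, -⟩ := h.exists_near hv hvQ
        by_contra hcon'
        push Not at hcon'
        apply hfin'.ne
        refine le_antisymm inf_le_left ?_
        have h1 := hfin'.near.card
        have h2 : ((V ⊓ Q) ⊓ MulAut.conj g' • (V ⊓ Q)).relIndex (MulAut.conj g' • (V ⊓ Q)) = 1 := by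
          rw [relIndex_eq_one]
          intro f hf
          exact hfin'.near.inj f hf (h.Z_le_D hg' (hcon' f (hgW g' hg' hf)))
        rw [h2] at h1
        exact relIndex_eq_one.1 h1.symm
      obtain ⟨w₁, hw₁, hw₁Z⟩ := hframe v hv hvQ
      obtain ⟨a₁, ha₁⟩ := hWup w₁ hw₁
      have ha₁0 : a₁ ≠ 0 := by
        intro h0
        apply hw₁Z
        have h1 := (M.up_cent (hSV (hQS (hWQ hw₁))) ha₁).2 h0
        rw [mem_centralizer_iff.1 h1 v hv, mul_inv_cancel_right, mul_inv_cancel]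
        exact one_mem _
      -- `v₁` with `a₁ ε v₁ 1 = ε z 0`
      obtain ⟨v₁, hv₁, hv₁e⟩ := M.surj ![0, a₁⁻¹ * ε z 0]
      have hz0 : ε z 0 ≠ 0 := fun h0 => hz1 ((M.ker z hzV).1 (ext2 h0 hzV1.2))
      have hv₁1 : ε v₁ 1 = a₁⁻¹ * ε z 0 := by rw [hv₁e]; rfl
      have hv₁Q : v₁ ∉ Q := by
        intro h1
        have h2 : v₁ ∈ M.V1 := by rw [← hEV]; exact mem_inf.2 ⟨hv₁, h1⟩
        have h3 := h2.2
        rw [hv₁1] at h3
        exact (mul_ne_zero (inv_ne_zero ha₁0) hz0) h3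
      obtain ⟨w₂, hw₂, hw₂Z⟩ := hframe v₁ hv₁ hv₁Q
      obtain ⟨a₂, ha₂⟩ := hWup w₂ hw₂
      have h2 := M.comm_up (hSV (hQS (hWQ hw₂))) ha₂ hv₁
      have hmemV : v₁ * w₂ * v₁⁻¹ * w₂⁻¹ ∈ V :=
        (M.comm_up_mem (hSV (hQS (hWQ hw₂))) ha₂ hv₁).1
      have ha₂0 : a₂ ≠ 0 := by
        rintro rfl
        apply hw₂Z
        have h3 : v₁ * w₂ * v₁⁻¹ * w₂⁻¹ = 1 := (M.ker _ hmemV).1 (by
          rw [h2]; apply ext2 <;> simp)
        rw [h3]
        exact one_mem _
      have ha₂1 : a₁ ≠ a₂ := by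
        rintro rfl
        apply hw₂Z
        have h3 : v₁ * w₂ * v₁⁻¹ * w₂⁻¹ = z := by
          refine M.inj hmemV hzV ?_
          rw [h2, hv₁1]
          apply ext2
          · simp [mul_inv_cancel_left₀ ha₁0]
          · rw [hzV1.2]; rfl
        rw [h3]
        exact hzZ
      rcases four_cover hF4 ha₁0 ha₂0 ha₂1 c₀ with h3 | h3 | h3 | h3
      · refine hnot 1 (one_mem _) 0 (fun v _ => ?_) h3.symm
        rw [one_mul, inv_one, mul_one]
        apply ext2
        · rw [ap_zero', up_00, up_01]; ring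
        · rw [ap_one', up_10, up_11]; ring
      · exact hnot w₁ hw₁ a₁ ha₁ h3.symm
      · exact hnot w₂ hw₂ a₂ ha₂ h3.symm
      · exact hnot _ (mul_mem hw₁ hw₂) _ (hprod w₁ hw₁ w₂ hw₂ a₁ a₂ ha₁ ha₂) h3.symm
    have hfull : ∀ v ∈ V, v ∉ M.V1 → ∀ e ∈ M.V1, ∃ w ∈ ncl C M.V1, v * w * v⁻¹ * w⁻¹ = e := by
      intro v hv hv1 e he
      have hv0 : ε v 1 ≠ 0 := fun h0 => hv1 ⟨hv, h0⟩
      obtain ⟨w, hw, hw1⟩ := hnu (ε e 0 * (ε v 1)⁻¹)
      refine ⟨w, hw, ?_⟩
      have hwS : w ∈ (S : Subgroup G) := hQS (hWQ hw)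
      refine M.inj (M.comm_up_mem (hSV hwS) hw1 hv).1 he.1 ?_
      rw [M.comm_up (hSV hwS) hw1 hv]
      apply ext2
      · simp [inv_mul_cancel_right₀ hv0]
      · rw [he.2]; rfl
    -- `v ∈ V - V₁`
    have hv1 : v ∉ M.V1 := by
      intro h1
      rw [← hEV] at h1
      exact hvQ h1.2
    have hWidx : (centralizer (V : Set G)).relIndex (ncl C M.V1) = 4 := by
      have hmem : ∀ w ∈ ncl C M.V1, v * w * v⁻¹ * w⁻¹ ∈ M.V1 := fun w hw => by
        obtain ⟨a, ha⟩ := hWup w hw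
        exact M.comm_up_mem (hSV (hQS (hWQ hw))) ha hv
      let φ : ncl C M.V1 →* G :=
        { toFun := fun w => v * w * v⁻¹ * (w : G)⁻¹
          map_one' := by simp
          map_mul' := fun w w' => by
            have h1 := hmem w' w'.2
            have h2 : (v * w' * v⁻¹ * (w' : G)⁻¹) * w = w * (v * w' * v⁻¹ * (w' : G)⁻¹) :=
              mem_centralizer_iff.1 (hQc (hWQ w.2)) _ h1
            calc v * ((w * w' : ncl C M.V1) : G) * v⁻¹ * ((w * w' : ncl C M.V1) : G)⁻¹ =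
                (v * w * v⁻¹ * (w : G)⁻¹) * (w * (v * w' * v⁻¹ * (w' : G)⁻¹)) * (w : G)⁻¹ := by
                  rw [Subgroup.coe_mul]; group
              _ = (v * w * v⁻¹ * (w : G)⁻¹) * ((v * w' * v⁻¹ * (w' : G)⁻¹) * w) * (w : G)⁻¹ := by rw [h2]
              _ = _ := by group }
      have hker : φ.ker = (centralizer (V : Set G)).subgroupOf (ncl C M.V1) := by
        ext w
        rw [MonoidHom.mem_ker, mem_subgroupOf]
        change v * w * v⁻¹ * (w : G)⁻¹ = 1 ↔ _
        obtain ⟨a, ha⟩ := hWup w w.2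
        rw [M.up_cent (hSV (hQS (hWQ w.2))) ha]
        have h3 := M.comm_up (hSV (hQS (hWQ w.2))) ha hv
        have hv0 : ε v 1 ≠ 0 := fun h0 => hv1 ⟨hv, h0⟩
        constructor
        · intro h1
          rw [h1, M.one] at h3
          have h4 := congrFun h3 0
          simp only [Pi.zero_apply, Matrix.cons_val_zero] at h4
          exact (mul_eq_zero.1 h4.symm).resolve_right hv0
        · rintro rfl
          refine (M.ker _ (hmem w w.2).1).1 ?_
          rw [h3]
          apply ext2 <;> simp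
      have hran : φ.range = M.V1 := by
        ext e
        constructor
        · rintro ⟨w, rfl⟩
          exact hmem w w.2
        · intro he
          obtain ⟨w, hw, hwe⟩ := hfull v hv hv1 e he
          exact ⟨⟨w, hw⟩, hwe⟩
      rw [relIndex, ← hker, index_ker, hran, hV1c]
    refine ⟨z, V, M.V1, C, Q, ?_⟩
    exact
      { cfg := h
        V_eq := hV
        C_eq := hCz'
        CC_eq := hC
        Q_eq := hQ
        V1_eq := hEV.symm
        Z_eq := hZz
        z_ne := hz1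
        z_sq := by have := h.V_sq z hzV; rwa [pow_two] at this
        z_mem := hzV1
        card_V := hVc
        card_V1 := hV1c
        nat := ⟨F, inferInstance, inferInstance, inferInstance, N, hF4, fun v hv =>
          ⟨fun h1 => ⟨hv, h1⟩, fun h1 => h1.2⟩⟩
        trans := by
          intro v hv hv1 w hw hw1
          obtain ⟨A, hA⟩ := NatPair.exists_ap (M.ne_zero hv hv1) (M.ne_zero hw hw1)
          obtain ⟨p, hp, hpA⟩ := M.lift A
          exact ⟨p, hp, M.inj (M.conj_mem hp hv) hw (by rw [hpA v hv, hA])⟩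
        S_le := M.S_norm_V1
        Q_le := hQc
        V_le_R := hVR
        Q_le_R := hQR
        index := hindex
        S_not_le := hSH
        comm := by
          intro x hx hxc v hv
          obtain ⟨a, ha⟩ := hup x hx hxc
          exact M.comm_up_mem (hSV hx) ha hv
        reg := hreg
        surj := hsurj
        full := hfull
        W_le := by
          intro w hw
          have h1 := hWzc hw
          rw [ZN.mem_zc] at h1
          exact mem_inf.2 ⟨h1.1, mem_centralizer_iff.2 fun y hy => ZN.zc_comm (hWzc hw) hy⟩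
        W_sq := by
          intro w hw
          have := ZN.zc_sq (hWzc hw)
          rwa [pow_two] at this
        W_index := hWidx
        frame := by
          intro v hv hv1
          have hvQ : v ∉ Q := fun h1 => hv1 (by rw [← hEV]; exact mem_inf.2 ⟨hv, h1⟩)
          obtain ⟨g, hg, hfin, -, -⟩ := h.exists_near hv hvQ
          refine ⟨g, hg, hfin, ?_⟩
          have hne := hfin.ne
          have hZD := h.Z_le_D hg
          change (V ⊓ Q) ⊓ (V ⊓ Q).map (MulAut.conj g).toMonoidHom ≠ V ⊓ Q at hne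
          change zc (S : Subgroup G) ≤ (V ⊓ Q) ⊓ (V ⊓ Q).map (MulAut.conj g).toMonoidHom at hZD
          rw [hEV] at hne hZD
          exact eq_zpowers_of_card (hZD hzZ) hz1
            (card_two_of_lt hV1c inf_le_left hne (hZD hzZ) hz1)
        tor := ⟨t, htP, htodd, htV1, ht3, htfix1, htfix2⟩ }

end Cfsg.Agent.Omega.NO1.NatA

end

section


/-!
# THEOREM NAT (#13408): the statement `NatOne` from `Quad → False`

`QuadFalse` : (4)-(7) of #13408.  `ty_of` : `Cfg S P`, `V_P` one natural `SL₂(F)`-module ⟹ `Ty S P` (type `Nat4`).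
-/

set_option autoImplicit false

namespace Cfsg.Agent.Omega.NO1.NatA

open Subgroup Cfsg Cfsg.Agent.ZN Cfsg.Agent.Omega.MinPar Cfsg.Agent.Omega.Frame
open Cfsg.Agent.Omega.FFThm (NatK)
open Cfsg.Agent.Omega.FrameFF (cv)

universe u

/-- (4)-(7) of THEOREM NAT: the quadratic case is impossible. -/
def QuadFalse : Prop :=
  ∀ (G : Type u) [Group G] [Finite G] (S : Sylow 2 G) (P : Subgroup G) (z : G) (V V₁ C Q : Subgroup G),
    Quad S P z V V₁ C Q → False

theorem ty_of (hQ : QuadFalse.{u}) {G : Type u} [Group G] [Finite G] {S : Sylow 2 G} {P : Subgroup G}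
    (h : Cfg S P) {F : Type} [Field F] [Finite F] [CharP F 2]
    (N : NatK F (S : Subgroup G) P (zl (S : Subgroup G) P) (cv (S : Subgroup G) P) 1) :
    Ty (S : Subgroup G) P := by
  have hcv : cv (S : Subgroup G) P = ⊥ := h.one.cen
  rw [hcv] at N
  rcases exists_quad h N with h1 | ⟨z, V, V₁, C, Q, h1⟩
  · exact .nat4 h1
  · exact (hQ G S P z V V₁ C Q h1).elim

end Cfsg.Agent.Omega.NO1.NatA

end
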