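import Cfsg.Agent.Mrg.Omega.NOne.LemmaT
import Cfsg.Agent.Omega.Lin.CtlAbs


/-!
# THEOREM NAT (#13408), steps (1), (2)

`C` of characteristic 2, `Q = O₂(C)`, `V ≤ C` elementary abelian, `V ≰ Q`, normalised by `Q`;
`V₁ = V ∩ Q ≤ Z(Q)`; every `x ∈ Q` centralises `V` or satisfies `C_V(x) = V₁ = [V, x]`.
If elementary abelian subgroups of `N_G(V₁)/C_G(V₁)` have order at most 2 and `C_{V₁}(C) ≠ 1`,
then `|V₁| = 4` and `|V| = 16`.
-/

set_option autoImplicit false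
set_option linter.unusedSectionVars false

namespace Cfsg.Agent.Omega.NO1.NatA

open Subgroup Cfsg Cfsg.Agent.Omega.NoFF.Basic Cfsg.Agent.Omega.NOne.Frame
open Cfsg.Agent.Omega.NOne
open Cfsg.Agent.ZN (o2)
open scoped Pointwise

universe u

variable {G : Type u} [Group G]

/-- The situation of (1), (2). -/
structure Sit (C V V₁ Q : Subgroup G) : Prop where
  char2 : C ⊓ centralizer (Q : Set G) ≤ Q
  Q_eq : Q = o2 C
  V_le : V ≤ C
  V_comm : V ≤ centralizer (V : Set G)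
  V_sq : ∀ v ∈ V, v ^ 2 = 1
  Q_norm : Q ≤ normalizer (V : Set G)
  V1_eq : V₁ = V ⊓ Q
  Q_cent : Q ≤ centralizer (V₁ : Set G)
  not_le : ¬ V ≤ Q
  reg : ∀ x ∈ Q, x ∉ centralizer (V : Set G) → ∀ v ∈ V, v * x = x * v → v ∈ V₁
  surj : ∀ x ∈ Q, x ∉ centralizer (V : Set G) → ∀ e ∈ V₁, ∃ v ∈ V, v * x * v⁻¹ * x⁻¹ = e

/-- The elements of `X` centralising `f` modulo `D`. -/
def cmod (X D : Subgroup G) (f : G) (hX : X ≤ normalizer (D : Set G)) : Subgroup G where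
  carrier := {x | x ∈ X ∧ x * f * x⁻¹ * f⁻¹ ∈ D}
  one_mem' := ⟨one_mem _, by simp⟩
  mul_mem' := by
    rintro x y ⟨hx, hxr⟩ ⟨hy, hyr⟩
    refine ⟨mul_mem hx hy, ?_⟩
    have h2 : x * y * f * (x * y)⁻¹ * f⁻¹ =
        (x * (y * f * y⁻¹ * f⁻¹) * x⁻¹) * (x * f * x⁻¹ * f⁻¹) := by group
    rw [h2]
    exact mul_mem (norm_mem (hX hx) hyr) hxr
  inv_mem' := by
    rintro x ⟨hx, hxr⟩
    refine ⟨inv_mem hx, ?_⟩
    have h2 : x⁻¹ * f * x⁻¹⁻¹ * f⁻¹ = x⁻¹ * (x * f * x⁻¹ * f⁻¹)⁻¹ * x := by group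
    rw [h2]
    exact norm_mem' (hX hx) (inv_mem hxr)

theorem mem_cmod {X D : Subgroup G} {f : G} {hX : X ≤ normalizer (D : Set G)} {x : G} :
    x ∈ cmod X D f hX ↔ x ∈ X ∧ x * f * x⁻¹ * f⁻¹ ∈ D := Iff.rfl

namespace Sit

variable [Finite G] {C V V₁ Q : Subgroup G} (h : Sit C V V₁ Q)
include h

theorem VQ : V ≤ normalizer (Q : Set G) := by
  rw [h.Q_eq]
  exact h.V_le.trans (MinSimple.VModule.le_normalizer_o2 C)

theorem Q_isPGroup : IsPGroup 2 Q := by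
  rw [h.Q_eq]
  exact MinSimple.VModule.o2_isPGroup C

theorem conj_Q {y : G} (hy : y ∈ C) : MulAut.conj y • Q = Q := by
  rw [h.Q_eq]
  have := MinSimple.VModule.le_normalizer_o2 C hy
  ext x
  rw [mem_conj, mem_normalizer_iff.1 this]
  have e : y * (y⁻¹ * x * y) * y⁻¹ = x := by group
  rw [e]

theorem fr {y : G} (hy : y ∈ C) (hyX : y ∈ X V y) : Fr V Q y :=
  ⟨h.V_comm, h.Q_norm, h.VQ, h.conj_Q hy, hyX⟩

theorem inv_V {w : G} (hw : w ∈ V) : w⁻¹ = w := by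
  have := h.V_sq w hw
  rw [pow_two] at this
  exact inv_eq_of_mul_eq_one_left this

end Sit

/-- The situation with a minimal frame. -/
structure SitX (C V V₁ Q : Subgroup G) (g : G) : Prop extends Sit C V V₁ Q where
  gC : g ∈ C
  gX : g ∈ X V g
  X_not : ¬ IsPGroup 2 (X V g)
  X_min : ∀ y ∈ C, Nat.card (X V y) < Nat.card (X V g) → IsPGroup 2 (X V y)

theorem Sit.exists_sitX [Finite G] {C V V₁ Q : Subgroup G} (h : Sit C V V₁ Q) :
    ∃ g, SitX C V V₁ Q g := by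
  obtain ⟨g, h1, h2, h3, h4⟩ := Choice.exists_g h.V_le (fun h1 => h.not_le (by rw [h.Q_eq]; exact h1))
  exact ⟨g, h, h1, h2, h3, h4⟩

namespace SitX

variable [Finite G] {C V V₁ Q : Subgroup G} {g : G} (h : SitX C V V₁ Q g)
include h

theorem frg : Fr V Q g := h.toSit.fr h.gC h.gX

theorem X_le : X V g ≤ C := sup_le h.V_le (Choice.conj_le_of_mem h.V_le h.gC)

/-- For `v ∈ V - O₂(X)` there is `y ∈ ⟨v, v^y⟩` with `X = ⟨V, V^y⟩`. -/
theorem exists_y {v : G} (hv : v ∈ V) (hvX : v ∉ o2 (X V g)) :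
    ∃ y ∈ X (zpowers v) y, X V y = X V g := by
  have hvX' : v ∈ X V g := mem_sup_left hv
  obtain ⟨y, hy, hyX, hy2, -⟩ := Choice.exists_g (C := X V g) (V := zpowers v)
    (zpowers_le.2 hvX') (fun h1 => hvX (h1 (mem_zpowers v)))
  refine ⟨y, hyX, ?_⟩
  have hle : X V y ≤ X V g := sup_le le_sup_left (Choice.conj_le_of_mem le_sup_left hy)
  have hge : X (zpowers v) y ≤ X V y :=
    sup_le_sup (zpowers_le.2 hv) (Choice.conj_mono (zpowers_le.2 hv))
  refine Subgroup.eq_of_le_of_card_ge hle ?_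
  by_contra hlt
  exact hy2 ((h.X_min y (h.X_le hy) (not_le.1 hlt)).to_le hge)

/-- `D` and `W` do not depend on `g`. -/
theorem D_eq {y : G} (hy : X V y = X V g) (hyX : y ∈ X V y) : D V Q y = D V Q g := by
  have hgX := h.gX
  have h1 : Fr V Q y := h.toSit.fr (h.X_le (hy ▸ hyX)) hyX
  apply le_antisymm
  · intro d hd
    have h2 := h1.D_cent hd (hy.symm ▸ hgX)
    refine mem_inf.2 ⟨hd.1, mem_conj.2 ?_⟩
    have e : g⁻¹ * d * g = d := by rw [mul_assoc, ← h2, inv_mul_cancel_left]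
    rw [e]
    exact hd.1
  · intro d hd
    have h2 := h.frg.D_cent hd (hy ▸ hyX)
    refine mem_inf.2 ⟨hd.1, mem_conj.2 ?_⟩
    have e : y⁻¹ * d * y = d := by rw [mul_assoc, ← h2, inv_mul_cancel_left]
    rw [e]
    exact hd.1

theorem W_le_W {y : G} (hy : y ∈ X V g) : W V Q y ≤ W V Q g := by
  refine sup_le le_sup_left ?_
  intro x hx
  obtain ⟨e, he, rfl⟩ := mem_conj'.1 hx
  exact norm_mem (h.frg.X_norm_W hy) (mem_sup_left he)

theorem W_eq {y : G} (hy : X V y = X V g) (hyX : y ∈ X V y) : W V Q y = W V Q g := by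
  have hyC : y ∈ C := h.X_le (hy ▸ hyX)
  have h1 : Fr V Q y := h.toSit.fr hyC hyX
  apply le_antisymm (h.W_le_W (hy ▸ hyX))
  refine sup_le le_sup_left ?_
  intro x hx
  obtain ⟨e, he, rfl⟩ := mem_conj'.1 hx
  have hgX := h.gX
  exact norm_mem (h1.X_norm_W (hy.symm ▸ hgX)) (mem_sup_left he)

/-- **Every `v ∈ V - O₂(X)` is regular on `W / D`.** -/
theorem regular {v w : G} (hv : v ∈ V) (hvX : v ∉ o2 (X V g)) (hw : w ∈ W V Q g)
    (hc : v * w * v⁻¹ * w⁻¹ ∈ D V Q g) : w ∈ E V Q := by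
  obtain ⟨y, hyv, hXy⟩ := h.exists_y hv hvX
  have hle : X (zpowers v) y ≤ X V y :=
    sup_le_sup (zpowers_le.2 hv) (Choice.conj_mono (zpowers_le.2 hv))
  have hyX : y ∈ X V y := hle hyv
  have hyC : y ∈ C := h.X_le (hXy ▸ hyX)
  have h1 : Fr V Q y := h.toSit.fr hyC hyX
  rw [← h.W_eq hXy hyX] at hw
  rw [← h.D_eq hXy hyX] at hc
  obtain ⟨e, he, f, hf, rfl⟩ := h1.mem_W.1 hw
  refine mul_mem he ?_
  -- `[v, f] ∈ D`
  have hXD : X V y ≤ normalizer ((D V Q y : Subgroup G) : Set G) := by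
    refine le_normalizer_of_comm fun x hx d hd => ?_
    rw [h1.D_cent hd hx, mul_inv_cancel_right, mul_inv_cancel]
    exact one_mem _
  have h2 : v * f * v⁻¹ * f⁻¹ ∈ D V Q y := by
    have h3 : v * e = e * v := h1.comm_VE hv he
    have e1 : v * (e * f) * v⁻¹ * (e * f)⁻¹ = e * (v * f * v⁻¹ * f⁻¹) * e⁻¹ := by
      calc v * (e * f) * v⁻¹ * (e * f)⁻¹ = (v * e) * f * v⁻¹ * f⁻¹ * e⁻¹ := by group
        _ = (e * v) * f * v⁻¹ * f⁻¹ * e⁻¹ := by rw [h3]
        _ = _ := by group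
    rw [e1] at hc
    have h4 := norm_mem' (hXD (mem_sup_left he.1 : e ∈ X V y)) hc
    have e2 : e⁻¹ * (e * (v * f * v⁻¹ * f⁻¹) * e⁻¹) * e = v * f * v⁻¹ * f⁻¹ := by group
    rwa [e2] at h4
  have h3 : X (zpowers v) y ≤ cmod (X V y) (D V Q y) f hXD := by
    refine sup_le (zpowers_le.2 ⟨mem_sup_left hv, h2⟩) ?_
    intro x hx
    have hx' : x ∈ V' V y := Choice.conj_mono (zpowers_le.2 hv) hx
    refine ⟨mem_sup_right hx', ?_⟩
    have h4 : x * f = f * x := comm_of_le_centralizer h1.comm' hx' (Fr.E'_le_V' hf)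
    rw [h4, mul_inv_cancel_right, mul_inv_cancel]
    exact one_mem _
  have h5 := (mem_cmod.1 (inv_mem (h3 hyv))).2
  rw [inv_inv] at h5
  have h6 : y⁻¹ * f * y ∈ E V Q := mem_conj.1 hf
  exact inv_mem_iff.1 ((mul_mem_cancel_left h6).1 h5.1)

theorem X_norm_D : X V g ≤ normalizer ((D V Q g : Subgroup G) : Set G) := by
  refine le_normalizer_of_comm fun x hx d hd => ?_
  rw [h.frg.D_cent hd hx, mul_inv_cancel_right, mul_inv_cancel]
  exact one_mem _

theorem D_ne : D V Q g ≠ E V Q := by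
  intro heq
  apply h.X_not
  have hfr := h.frg
  have hE'E : MulAut.conj g • (V ⊓ Q) = V ⊓ Q := by
    have h1 : V ⊓ Q ≤ MulAut.conj g • (V ⊓ Q) := by
      intro x hx
      have hx' : x ∈ D V Q g := by rw [heq]; exact hx
      exact hx'.2
    exact (Subgroup.eq_of_le_of_card_ge h1 (by rw [Choice.card_conj])).symm
  have hW : W V Q g = D V Q g := by rw [W, E', hE'E, heq, sup_idem]
  rintro ⟨x, hx⟩
  obtain ⟨k, hk⟩ := hfr.exists_pow_eq_one h.toSit.Q_isPGroup h.char2 h.X_le hx (fun w hw => by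
    rw [hW] at hw
    rw [hfr.D_cent hw hx, mul_inv_cancel_right, mul_inv_cancel]
    exact one_mem _)
  exact ⟨k, Subtype.ext hk⟩

/-- `E^g ≠ D` -/
theorem exists_f : ∃ f ∈ E' V Q g, f ∉ D V Q g := by
  by_contra hcon
  push Not at hcon
  apply h.D_ne
  have h1 : E' V Q g = D V Q g := le_antisymm hcon inf_le_right
  refine Subgroup.eq_of_le_of_card_ge inf_le_left ?_
  rw [← h1, Fr.card_E']

/-- there is `v ∈ V - O₂(X)` -/
theorem exists_v : ∃ v ∈ V, v ∉ o2 (X V g) := by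
  by_contra hcon
  push Not at hcon
  apply h.X_not
  refine (MinSimple.VModule.o2_isPGroup (X V g)).to_le (sup_le hcon ?_)
  intro x hx
  obtain ⟨v, hv, rfl⟩ := mem_conj'.1 hx
  exact norm_mem (MinSimple.VModule.le_normalizer_o2 (X V g) h.gX) (hcon v hv)

theorem E_comm_Q {e q : G} (he : e ∈ V ⊓ Q) (hq : q ∈ Q) : e * q = q * e := by
  rw [← h.V1_eq] at he
  exact mem_centralizer_iff.1 (h.Q_cent hq) e he

/-- `W ≤ O₂(X)` -/
theorem W_le_X : W V Q g ≤ X V g := sup_le (inf_le_left.trans le_sup_left)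
  (Fr.E'_le_V'.trans le_sup_right)

/-- The elements of `W` centralised modulo `D` by `O₂(X)`. -/
theorem exists_W1 : ∃ W₁ : Subgroup G, W₁ ≤ W V Q g ∧ X V g ≤ normalizer (W₁ : Set G) ∧
    (∀ x ∈ o2 (X V g), ∀ w ∈ W₁, x * w * x⁻¹ * w⁻¹ ∈ D V Q g) ∧
    ∃ w ∈ W₁, w ∉ D V Q g := by
  have hfr := h.frg
  have hXD := h.X_norm_D
  let W₁ : Subgroup G :=
    { carrier := {w | w ∈ W V Q g ∧ ∀ x ∈ o2 (X V g), x * w * x⁻¹ * w⁻¹ ∈ D V Q g}
      one_mem' := ⟨one_mem _, fun x _ => by simp⟩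
      mul_mem' := by
        rintro a b ⟨ha, ha'⟩ ⟨hb, hb'⟩
        refine ⟨mul_mem ha hb, fun x hx => ?_⟩
        have e : x * (a * b) * x⁻¹ * (a * b)⁻¹ =
            (x * a * x⁻¹ * a⁻¹) * (a * (x * b * x⁻¹ * b⁻¹) * a⁻¹) := by group
        rw [e]
        exact mul_mem (ha' x hx) (norm_mem (hXD (h.W_le_X ha)) (hb' x hx))
      inv_mem' := by
        rintro a ⟨ha, ha'⟩
        refine ⟨inv_mem ha, fun x hx => ?_⟩
        have e : x * a⁻¹ * x⁻¹ * a⁻¹⁻¹ = a⁻¹ * (a * (x * a⁻¹ * x⁻¹)) * a := by group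
        rw [e]
        refine norm_mem' (hXD (h.W_le_X ha)) ?_
        have e2 : a * (x * a⁻¹ * x⁻¹) = (x * a * x⁻¹ * a⁻¹)⁻¹ := by group
        rw [e2]
        exact inv_mem (ha' x hx) }
  have hmem : ∀ w, w ∈ W₁ ↔ w ∈ W V Q g ∧ ∀ x ∈ o2 (X V g), x * w * x⁻¹ * w⁻¹ ∈ D V Q g :=
    fun _ => Iff.rfl
  refine ⟨W₁, fun w hw => hw.1, ?_, fun x hx w hw => hw.2 x hx, ?_⟩
  · have key : ∀ y ∈ X V g, ∀ w ∈ W₁, y * w * y⁻¹ ∈ W₁ := by
      intro y hy w hw
      refine ⟨norm_mem (hfr.X_norm_W hy) hw.1, fun x hx => ?_⟩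
      have hx' : y⁻¹ * x * y ∈ o2 (X V g) := norm_mem' (MinSimple.VModule.le_normalizer_o2 _ hy) hx
      have e : x * (y * w * y⁻¹) * x⁻¹ * (y * w * y⁻¹)⁻¹ =
          y * ((y⁻¹ * x * y) * w * (y⁻¹ * x * y)⁻¹ * w⁻¹) * y⁻¹ := by group
      rw [e]
      exact norm_mem (hXD hy) (hw.2 _ hx')
    intro y hy
    rw [mem_normalizer_iff]
    intro w
    refine ⟨key y hy w, fun hw => ?_⟩
    have h6 := key y⁻¹ (inv_mem hy) _ hw
    have e : y⁻¹ * (y * w * y⁻¹) * y⁻¹⁻¹ = w := by group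
    rwa [e] at h6
  · have : Fact (Nat.Prime 2) := ⟨Nat.prime_two⟩
    have hW2 : IsPGroup 2 (W V Q g) := h.toSit.Q_isPGroup.to_le hfr.W_le_Q
    obtain ⟨w, hw, hwD, hwx⟩ := Lin.CtlAbs.exists_fixed_mod (p := 2) (W := W V Q g) (R := D V Q g)
      (O := o2 (X V g)) hW2 (MinSimple.VModule.o2_isPGroup _)
      (inf_le_left.trans le_sup_left) (fun heq => h.D_ne (le_antisymm inf_le_left (by
        intro x hx
        have : x ∈ W V Q g := mem_sup_left hx
        rwa [← heq] at this)))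
      ((MinSimple.VModule.o2_le _).trans hfr.X_norm_W) ((MinSimple.VModule.o2_le _).trans hXD)
      (h.W_le_X.trans hXD)
    exact ⟨w, ⟨hw, hwx⟩, hwD⟩

/-- `f ∈ E^g - D` does not centralise `V`. -/
theorem f_not {f : G} (hf : f ∈ E' V Q g) (hfD : f ∉ D V Q g) : f ∉ centralizer (V : Set G) :=
  fun h1 => hfD (h.frg.mem_D_of_E' hf fun v hv => (mem_centralizer_iff.1 h1 v hv).symm)

/-- **`O₂(X)` centralises `W / D`.** -/
theorem cent_W : ∀ x ∈ o2 (X V g), ∀ w ∈ W V Q g, x * w * x⁻¹ * w⁻¹ ∈ D V Q g := by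
  obtain ⟨W₁, hW₁, hn, hc, w, hw, hwD⟩ := h.exists_W1
  have hfr := h.frg
  -- `W₁ ∩ E^g ≰ D`
  obtain ⟨f, hfW, hfE, hfD⟩ : ∃ f ∈ W₁, f ∈ E' V Q g ∧ f ∉ D V Q g := by
    by_contra hcon
    push Not at hcon
    obtain ⟨v, hv, hvX⟩ := h.exists_v
    have h1 : ∀ e ∈ W₁, e ∈ E V Q → e ∈ D V Q g := by
      intro e he heE
      have h2 := hcon (g * e * g⁻¹) (norm_mem (hn h.gX) he) (Frame.conj_mem heE)
      have h3 := hfr.g_cent_D h2
      have h4 : g * e * g⁻¹ = e := by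
        have h5 : g⁻¹ * (g * (g * e * g⁻¹)) = g⁻¹ * ((g * e * g⁻¹) * g) := by rw [h3]
        have e1 : g⁻¹ * (g * (g * e * g⁻¹)) = g * e * g⁻¹ := by group
        have e2 : g⁻¹ * ((g * e * g⁻¹) * g) = e := by group
        rwa [e1, e2] at h5
      rwa [h4] at h2
    have h2 : v * w * v⁻¹ * w⁻¹ ∈ E V Q := hfr.comm_VQ hv (hfr.W_le_Q (hW₁ hw))
    have h3 : v * w * v⁻¹ * w⁻¹ ∈ W₁ := mul_mem (norm_mem (hn (mem_sup_left hv)) hw) (inv_mem hw)
    exact hwD (h1 w hw (h.regular hv hvX (hW₁ hw) (h1 _ h3 h2)))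
  -- `E ≤ W₁`
  have hE : E V Q ≤ W₁ := by
    intro e he
    obtain ⟨v, hv, rfl⟩ := h.surj f (hfr.E'_le_Q hfE) (h.f_not hfE hfD) e (by rw [h.V1_eq]; exact he)
    exact mul_mem (norm_mem (hn (mem_sup_left hv)) hfW) (inv_mem hfW)
  have hE' : E' V Q g ≤ W₁ := by
    intro x hx
    obtain ⟨e, he, rfl⟩ := mem_conj'.1 hx
    exact norm_mem (hn h.gX) (hE he)
  have hWW : W V Q g ≤ W₁ := sup_le hE hE'
  exact fun x hx w hw => hc x hx w (hWW hw)

/-- `V ∩ O₂(X) = {v | [v, f] ∈ D}` for `f ∈ E^g - D`. -/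
theorem mem_o2_iff {f v : G} (hf : f ∈ E' V Q g) (hfD : f ∉ D V Q g) (hv : v ∈ V) :
    v ∈ o2 (X V g) ↔ v * f * v⁻¹ * f⁻¹ ∈ D V Q g := by
  constructor
  · intro h1
    exact h.cent_W v h1 f (mem_sup_right hf)
  · intro h1
    by_contra h2
    exact hfD (mem_inf.2 ⟨h.regular hv h2 (mem_sup_right hf) h1, hf⟩)

/-- `v ↦ [v, f]` is a homomorphism on `V`. -/
def cm (V : Subgroup G) (f : G) (hf : f ∈ normalizer (V : Set G)) (hV : V ≤ centralizer (V : Set G)) :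
    V →* G where
  toFun v := v * f * (v : G)⁻¹ * f⁻¹
  map_one' := by simp
  map_mul' v w := by
    have h1 : (w : G) * f * (w : G)⁻¹ * f⁻¹ ∈ V := by
      have e : (w : G) * f * (w : G)⁻¹ * f⁻¹ = w * (f * (w : G)⁻¹ * f⁻¹) := by group
      rw [e]
      exact mul_mem w.2 (norm_mem hf (inv_mem w.2))
    have h2 : (v : G) * (w * f * (w : G)⁻¹ * f⁻¹) = (w * f * (w : G)⁻¹ * f⁻¹) * v :=
      comm_of_le_centralizer hV v.2 h1
    have h3 : (v : G) * f * (v : G)⁻¹ * f⁻¹ ∈ V := by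
      have e : (v : G) * f * (v : G)⁻¹ * f⁻¹ = v * (f * (v : G)⁻¹ * f⁻¹) := by group
      rw [e]
      exact mul_mem v.2 (norm_mem hf (inv_mem v.2))
    have h4 : (v * f * (v : G)⁻¹ * f⁻¹) * (w * f * (w : G)⁻¹ * f⁻¹) =
        (w * f * (w : G)⁻¹ * f⁻¹) * (v * f * (v : G)⁻¹ * f⁻¹) := comm_of_le_centralizer hV h3 h1
    calc ((v * w : V) : G) * f * ((v * w : V) : G)⁻¹ * f⁻¹ =
        (v : G) * (w * f * (w : G)⁻¹ * f⁻¹) * (f * (v : G)⁻¹ * f⁻¹) := by
          rw [Subgroup.coe_mul]; group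
      _ = (w * f * (w : G)⁻¹ * f⁻¹) * v * (f * (v : G)⁻¹ * f⁻¹) := by rw [h2]
      _ = (w * f * (w : G)⁻¹ * f⁻¹) * (v * f * (v : G)⁻¹ * f⁻¹) := by group
      _ = _ := h4.symm

omit h in
theorem cm_apply {V : Subgroup G} {f : G} {hf : f ∈ normalizer (V : Set G)}
    {hV : V ≤ centralizer (V : Set G)} (v : V) : cm V f hf hV v = v * f * (v : G)⁻¹ * f⁻¹ := rfl

/-- `|V₁| |V₁| = |V|` -/
theorem card_V : Nat.card V = Nat.card V₁ * Nat.card V₁ := by
  obtain ⟨f, hf, hfD⟩ := h.exists_f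
  have hfQ : f ∈ Q := h.frg.E'_le_Q hf
  let φ := cm V f (h.Q_norm hfQ) h.V_comm
  have hker : φ.ker = V₁.subgroupOf V := by
    ext v
    rw [MonoidHom.mem_ker, mem_subgroupOf]
    change v * f * (v : G)⁻¹ * f⁻¹ = 1 ↔ _
    constructor
    · intro h1
      refine h.reg f hfQ (h.f_not hf hfD) v v.2 ?_
      have e : (v : G) * f = (v * f * (v : G)⁻¹ * f⁻¹) * (f * v) := by group
      rw [e, h1, one_mul]
    · intro h1
      have h2 : (v : G) * f = f * v := mem_centralizer_iff.1 (h.Q_cent hfQ) v h1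
      rw [h2, mul_inv_cancel_right, mul_inv_cancel]
  have hran : φ.range = V₁ := by
    ext e
    constructor
    · rintro ⟨v, rfl⟩
      rw [h.V1_eq]
      exact h.frg.comm_VQ v.2 hfQ
    · intro he
      obtain ⟨v, hv, hve⟩ := h.surj f hfQ (h.f_not hf hfD) e he
      exact ⟨⟨v, hv⟩, hve⟩
  have h1 : φ.ker.index = Nat.card V₁ := by rw [index_ker, hran]
  rw [hker] at h1
  have h2 := Subgroup.card_mul_index (V₁.subgroupOf V)
  have hle : V₁ ≤ V := by rw [h.V1_eq]; exact inf_le_left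
  rw [h1, Nat.card_congr (subgroupOfEquivOfLe hle).toEquiv] at h2
  exact h2.symm

/-- `|V ∩ O₂(X) : V₁| = |D|` -/
theorem relIndex_VO : V₁.relIndex (V ⊓ o2 (X V g)) = Nat.card (D V Q g) := by
  obtain ⟨f, hf, hfD⟩ := h.exists_f
  have hfQ : f ∈ Q := h.frg.E'_le_Q hf
  let φ := (cm V f (h.Q_norm hfQ) h.V_comm).comp (inclusion (inf_le_left : V ⊓ o2 (X V g) ≤ V))
  have hker : φ.ker = V₁.subgroupOf (V ⊓ o2 (X V g)) := by
    ext v
    rw [MonoidHom.mem_ker, mem_subgroupOf]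
    change v * f * (v : G)⁻¹ * f⁻¹ = 1 ↔ _
    constructor
    · intro h1
      refine h.reg f hfQ (h.f_not hf hfD) v v.2.1 ?_
      have e : (v : G) * f = (v * f * (v : G)⁻¹ * f⁻¹) * (f * v) := by group
      rw [e, h1, one_mul]
    · intro h1
      have h2 : (v : G) * f = f * v := mem_centralizer_iff.1 (h.Q_cent hfQ) v h1
      rw [h2, mul_inv_cancel_right, mul_inv_cancel]
  have hran : φ.range = D V Q g := by
    ext e
    constructor
    · rintro ⟨v, rfl⟩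
      exact (h.mem_o2_iff hf hfD v.2.1).1 v.2.2
    · intro he
      obtain ⟨v, hv, hve⟩ := h.surj f hfQ (h.f_not hf hfD) e (by rw [h.V1_eq]; exact he.1)
      refine ⟨⟨v, hv, (h.mem_o2_iff hf hfD hv).2 ?_⟩, hve⟩
      rw [hve]; exact he
  rw [relIndex, ← hker, index_ker, hran]

/-- `(V ∩ O₂(X))^g` normalises `V₁`. -/
theorem VO_norm : MulAut.conj g • (V ⊓ o2 (X V g)) ≤ normalizer (V₁ : Set G) := by
  refine le_normalizer_of_comm fun x hx e he => ?_
  obtain ⟨v, hv, rfl⟩ := mem_conj'.1 hx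
  have h1 : g * v * g⁻¹ ∈ o2 (X V g) := norm_mem (MinSimple.VModule.le_normalizer_o2 _ h.gX) hv.2
  rw [h.V1_eq] at he ⊢
  exact (h.cent_W _ h1 e (mem_sup_left he)).1

/-- `C_{V^g}(V₁) = V₁^g` -/
theorem cent_V1 {x : G} (hx : x ∈ MulAut.conj g • V) (hc : x ∈ centralizer (V₁ : Set G)) :
    x ∈ MulAut.conj g • V₁ := by
  obtain ⟨e, he, heD⟩ : ∃ e ∈ E V Q, e ∉ D V Q g := by
    by_contra hcon
    push Not at hcon
    exact h.D_ne (le_antisymm inf_le_left hcon)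
  obtain ⟨v, hv, rfl⟩ := mem_conj'.1 hx
  refine mem_conj'.2 ⟨v, ?_, rfl⟩
  have heQ : g⁻¹ * e * g ∈ Q := norm_mem' h.frg.g_mem_norm he.2
  refine h.reg (g⁻¹ * e * g) heQ ?_ v hv ?_
  · intro h1
    refine heD (h.frg.mem_D_of_E he fun y hy => ?_)
    obtain ⟨w, hw, rfl⟩ := mem_conj'.1 hy
    have h2 := mem_centralizer_iff.1 h1 w hw
    calc e * (g * w * g⁻¹) = g * ((g⁻¹ * e * g) * w) * g⁻¹ := by group
      _ = g * (w * (g⁻¹ * e * g)) * g⁻¹ := by rw [h2]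
      _ = g * w * g⁻¹ * e := by group
  · have h2 := mem_centralizer_iff.1 hc e (by rw [h.V1_eq]; exact he)
    calc v * (g⁻¹ * e * g) = g⁻¹ * ((g * v * g⁻¹) * e) * g := by group
      _ = g⁻¹ * (e * (g * v * g⁻¹)) * g := by rw [h2]
      _ = g⁻¹ * e * g * v := by group

/-- **(2)**: `|V₁| = 4` and `|V| = 16`. -/
theorem card_four
    (hA : ∀ A : Subgroup G, A ≤ normalizer (V₁ : Set G) → A ≤ centralizer (A : Set G) →
      (∀ a ∈ A, a ^ 2 = 1) → (centralizer (V₁ : Set G)).relIndex A ≤ 2)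
    {z : G} (hz : z ∈ V₁) (hz1 : z ≠ 1) (hzC : ∀ c ∈ C, c * z = z * c) :
    Nat.card V₁ = 4 ∧ Nat.card V = 16 := by
  have hV1V : V₁ ≤ V := by rw [h.V1_eq]; exact inf_le_left
  -- `z ∈ D`
  have hzD : z ∈ D V Q g := by
    rw [h.V1_eq] at hz
    refine mem_inf.2 ⟨hz, mem_conj.2 ?_⟩
    have e : g⁻¹ * z * g = z := by rw [mul_assoc, ← hzC g h.gC, inv_mul_cancel_left]
    rw [e]
    exact hz
  set VO := V ⊓ o2 (X V g) with hVO
  have hV1VO : V₁ ≤ VO := by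
    refine le_inf hV1V ?_
    have h1 : W V Q g ≤ o2 (X V g) :=
      MinSimple.VModule.le_o2 h.W_le_X (h.toSit.Q_isPGroup.to_le h.frg.W_le_Q) h.frg.X_norm_W
    intro x hx
    rw [h.V1_eq] at hx
    exact h1 (mem_sup_left hx)
  -- `|D| ≤ 2`
  have hD2 : Nat.card (D V Q g) ≤ 2 := by
    have h1 := hA (MulAut.conj g • VO) h.VO_norm
      (conj_le_centralizer ((inf_le_left.trans h.V_comm).trans (centralizer_le inf_le_left))) (by
        intro a ha
        obtain ⟨v, hv, rfl⟩ := mem_conj'.1 ha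
        rw [conj_pow, h.V_sq v hv.1, mul_one, mul_inv_cancel])
    have h2 : (centralizer (V₁ : Set G)).subgroupOf (MulAut.conj g • VO) =
        (MulAut.conj g • V₁).subgroupOf (MulAut.conj g • VO) := by
      ext ⟨x, hx⟩
      rw [mem_subgroupOf, mem_subgroupOf]
      constructor
      · intro hc
        exact h.cent_V1 (Choice.conj_mono inf_le_left hx) hc
      · intro hc
        obtain ⟨e, he, rfl⟩ := mem_conj'.1 hc
        refine mem_centralizer_iff.2 fun w hw => ?_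
        have h3 : g * e * g⁻¹ ∈ Q := by
          have : e ∈ Q := by rw [h.V1_eq] at he; exact he.2
          exact norm_mem h.frg.g_mem_norm this
        exact mem_centralizer_iff.1 (h.Q_cent h3) w hw
    have h3 : (MulAut.conj g • V₁).relIndex (MulAut.conj g • VO) = V₁.relIndex VO :=
      relIndex_map_map_of_injective _ _ (MulAut.conj g).injective
    rw [relIndex, h2] at h1
    change (MulAut.conj g • V₁).relIndex (MulAut.conj g • VO) ≤ 2 at h1
    rw [h3, h.relIndex_VO] at h1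
    exact h1
  -- `|D| = 2`
  have hDz : ∀ d ∈ D V Q g, d ≠ 1 → d = z := by
    classical
    intro d hd hd1
    by_contra hne
    have h1 : ({1, z, d} : Finset G).card ≤ Nat.card (D V Q g) := by
      have hs : ((({1, z, d} : Finset G) : Set G)) ⊆ (D V Q g : Set G) := by
        intro x hx
        simp only [Finset.coe_insert, Finset.coe_singleton, Set.mem_insert_iff,
          Set.mem_singleton_iff] at hx
        rcases hx with rfl | rfl | rfl
        · exact one_mem _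
        · exact hzD
        · exact hd
      have h2 := Set.ncard_le_ncard hs (Set.toFinite _)
      rw [Set.ncard_coe_finset] at h2
      exact h2
    have h2 : ({1, z, d} : Finset G).card = 3 := by
      rw [Finset.card_insert_of_notMem, Finset.card_insert_of_notMem, Finset.card_singleton]
      · simpa using fun h => hne h.symm
      · simp only [Finset.mem_insert, Finset.mem_singleton, not_or]
        exact ⟨fun h => hz1 h.symm, fun h => hd1 h.symm⟩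
    omega
  have hDcard : Nat.card (D V Q g) = 2 := by
    refine le_antisymm hD2 ?_
    have : Nontrivial (D V Q g) := ⟨⟨z, hzD⟩, 1, fun h => hz1 (congrArg Subtype.val h)⟩
    exact Finite.one_lt_card
  -- `v₀ ∈ V_O - V₁`
  obtain ⟨v₀, hv₀, hv₀1⟩ : ∃ v₀ ∈ VO, v₀ ∉ V₁ := by
    by_contra hcon
    push Not at hcon
    have h1 := h.relIndex_VO
    rw [← hVO, relIndex_eq_one.2 hcon, hDcard] at h1
    omega
  -- `|E^g / D| ≤ 2`
  have hEq : ∀ f ∈ E' V Q g, f ∉ D V Q g → v₀ * f * v₀⁻¹ * f⁻¹ = z := by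
    intro f hf hfD
    refine hDz _ ((h.mem_o2_iff hf hfD hv₀.1).1 hv₀.2) fun h1 => ?_
    refine hv₀1 (h.reg f (h.frg.E'_le_Q hf) (h.f_not hf hfD) v₀ hv₀.1 ?_)
    have e : v₀ * f = (v₀ * f * v₀⁻¹ * f⁻¹) * (f * v₀) := by group
    rw [e, h1, one_mul]
  have hidx : (D V Q g).relIndex (E' V Q g) ≤ 2 := by
    obtain ⟨f₀, hf₀, hf₀D⟩ := h.exists_f
    have h1 : ∀ x : E' V Q g, ∃ b : Bool, x ∈ ((fun y : E' V Q g =>
        if b then (⟨f₀, hf₀⟩ : E' V Q g) * y else y) '' ((D V Q g).subgroupOf (E' V Q g) : Set _)) := by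
      intro x
      by_cases hx : (x : G) ∈ D V Q g
      · exact ⟨false, x, hx, by simp⟩
      · refine ⟨true, (⟨f₀, hf₀⟩ : E' V Q g)⁻¹ * x, ?_, by simp⟩
        change f₀⁻¹ * (x : G) ∈ D V Q g
        have hmem : f₀⁻¹ * (x : G) ∈ E' V Q g := mul_mem (inv_mem hf₀) x.2
        by_contra hnot
        refine hv₀1 (h.reg _ (h.frg.E'_le_Q hmem) (h.f_not hmem hnot) v₀ hv₀.1 ?_)
        have h2 := hEq f₀ hf₀ hf₀D
        have h3 := hEq x x.2 hx
        have e1 : v₀ * f₀ = z * f₀ * v₀ := by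
          rw [← h2]; group
        have e2 : v₀ * (x : G) = z * x * v₀ := by
          rw [← h3]; group
        have hzf : z * f₀⁻¹ = f₀⁻¹ * z := by
          have : z ∈ V ⊓ Q := hzD.1
          exact h.E_comm_Q this (inv_mem (h.frg.E'_le_Q hf₀))
        have hzz : z * z = 1 := by
          have := h.V_sq z (hV1V hz)
          rwa [pow_two] at this
        have e3 : v₀ * f₀⁻¹ = z * f₀⁻¹ * v₀ := by
          have e4 : f₀⁻¹ * v₀ = z * v₀ * f₀⁻¹ := by
            have e5 : f₀⁻¹ * (v₀ * f₀) * f₀⁻¹ = f₀⁻¹ * (z * f₀ * v₀) * f₀⁻¹ := by rw [e1]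
            have e6 : f₀⁻¹ * (v₀ * f₀) * f₀⁻¹ = f₀⁻¹ * v₀ := by group
            have e7 : f₀⁻¹ * (z * f₀ * v₀) * f₀⁻¹ = (f₀⁻¹ * z) * f₀ * v₀ * f₀⁻¹ := by group
            rw [e6, e7, ← hzf] at e5
            rw [e5]
            group
          calc v₀ * f₀⁻¹ = (z * z) * v₀ * f₀⁻¹ := by rw [hzz, one_mul]
            _ = z * (z * v₀ * f₀⁻¹) := by group
            _ = z * (f₀⁻¹ * v₀) := by rw [e4]
            _ = z * f₀⁻¹ * v₀ := by group
        calc v₀ * (f₀⁻¹ * x) = (v₀ * f₀⁻¹) * x := by group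
          _ = (z * f₀⁻¹ * v₀) * x := by rw [e3]
          _ = z * f₀⁻¹ * (v₀ * x) := by group
          _ = z * f₀⁻¹ * (z * x * v₀) := by rw [e2]
          _ = z * (f₀⁻¹ * z) * x * v₀ := by group
          _ = z * (z * f₀⁻¹) * x * v₀ := by rw [hzf]
          _ = (z * z) * f₀⁻¹ * x * v₀ := by group
          _ = f₀⁻¹ * x * v₀ := by rw [hzz, one_mul]
    rw [relIndex]
    have h2 : Nat.card (E' V Q g ⧸ (D V Q g).subgroupOf (E' V Q g)) ≤ Nat.card Bool := by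
      refine Nat.card_le_card_of_surjective (fun b : Bool => (QuotientGroup.mk
        (if b then (⟨f₀, hf₀⟩ : E' V Q g) else 1) : E' V Q g ⧸ (D V Q g).subgroupOf (E' V Q g))) ?_
      intro q
      refine Quotient.inductionOn' q fun x => ?_
      obtain ⟨b, y, hy, hyx⟩ := h1 x
      refine ⟨b, ?_⟩
      change (QuotientGroup.mk _ : E' V Q g ⧸ (D V Q g).subgroupOf (E' V Q g)) = QuotientGroup.mk x
      rw [QuotientGroup.eq, ← hyx]
      cases b
      · simpa using hy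
      · simpa using hy
    rw [Nat.card_eq_fintype_card (α := Bool)] at h2
    exact h2
  have h1 := relIndex_mul_relIndex ⊥ (D V Q g) (E' V Q g) bot_le inf_le_right
  simp only [relIndex_bot_left] at h1
  rw [Fr.card_E', hDcard] at h1
  have hE1 : Nat.card (E V Q) = Nat.card V₁ := by rw [h.V1_eq]
  rw [hE1] at h1
  have hne : (D V Q g).relIndex (E' V Q g) ≠ 1 := by
    intro h2
    obtain ⟨f, hf, hfD⟩ := h.exists_f
    exact hfD (relIndex_eq_one.1 h2 hf)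
  have hpos : (D V Q g).relIndex (E' V Q g) ≠ 0 := by
    intro h2
    rw [h2, mul_zero] at h1
    exact Nat.card_pos.ne h1
  have h4 : Nat.card V₁ = 4 := by
    have : (D V Q g).relIndex (E' V Q g) = 2 := by omega
    rw [← h1, this]
  exact ⟨h4, by rw [h.card_V, h4]⟩

end SitX

end Cfsg.Agent.Omega.NO1.NatA
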