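import Cfsg.Agent.Mrg.Omega.NO1.Nat.A0
import Cfsg.Agent.Mrg.Omega.NO1.Nat.Space
import Cfsg.Agent.Mrg.Omega.Node.NO1


/-!
# THEOREM NAT (#13408): `NatOne`

(0)-(3) `exists_quad` (helper359), (4) helper626 / helper753, (5) `Quad.six` (helper626),
(6), (7) `Nat.Seven.false` (helper382).
-/

set_option autoImplicit false

namespace Cfsg.Agent.Omega.NO1.NatA

open Subgroup Cfsg Cfsg.Agent.ZN Cfsg.Agent.Omega.MinPar Cfsg.Agent.Omega.Frame

universe u

theorem quadFalse : QuadFalse.{u} := by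
  intro G _ _ S P z V V₁ C Q q
  obtain ⟨M, e, h⟩ := q.six
  exact Nat.Seven.false h q.cfg.ctx.rank

/-- **THEOREM NAT.** -/
theorem natOne : NatOne.{u} := fun _ _ _ _ _ h _ _ _ _ N => ty_of quadFalse h N

end Cfsg.Agent.Omega.NO1.NatA
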